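import Mathlib
import Cfsg.Agent.Lib.Helper63.PFrattini
import Cfsg.Agent.Lib.Helper69.Cpn3

/-!
# Groups of order `p ^ 4`: characteristic chains (pieces of S5188, helper84's call, board 1439)

* `chain_of_exp_sq` (Q4): `p` odd, `H` nonabelian of order `p ^ 4`, not two-generated, with
  noncyclic centre and not of exponent `p`: the chain `Φ(H) < Z(H) < Ω = {x | x ^ p = 1}`.
-/

set_option autoImplicit false

namespace Cfsg.Agent.Lib.Helper14.PQuartic

open Cfsg.Agent.Lib.Helper63.PFrattini

variable {H : Type*} [Group H] [Finite H] {p : ℕ} [Fact p.Prime]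

omit [Finite H] in
/-- order and index of a subgroup of a group of order `p ^ 4` -/
lemma card_subgroup_pow (hcard : Nat.card H = p ^ 4) (K : Subgroup H) :
    ∃ k ≤ 4, Nat.card K = p ^ k ∧ K.index = p ^ (4 - k) := by
  have hp : p.Prime := Fact.out
  have hdvd : Nat.card K ∣ p ^ 4 := hcard ▸ Subgroup.card_subgroup_dvd_card K
  obtain ⟨k, hk, hKk⟩ := (Nat.dvd_prime_pow hp).1 hdvd
  refine ⟨k, hk, hKk, ?_⟩
  have h1 : Nat.card K * K.index = p ^ 4 := hcard ▸ Subgroup.card_mul_index K
  rw [hKk] at h1
  have h2 : p ^ 4 = p ^ k * p ^ (4 - k) := by rw [← pow_add]; congr 1; omega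
  rw [h2] at h1
  exact Nat.eq_of_mul_eq_mul_left (pow_pos hp.pos k) h1

/-- the centre of a nonabelian group of order `p ^ 4` with noncyclic centre has order `p ^ 2` -/
lemma card_center (hcard : Nat.card H = p ^ 4) (hna : ∃ a b : H, a * b ≠ b * a)
    (hZ : ¬ IsCyclic (Subgroup.center H)) : Nat.card (Subgroup.center H) = p ^ 2 := by
  have hp : p.Prime := Fact.out
  obtain ⟨a, b, hab⟩ := hna
  obtain ⟨k, hk, hKk, hidx⟩ := card_subgroup_pow hcard (Subgroup.center H)
  interval_cases k
  · exfalso; apply hZ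
    rw [pow_zero] at hKk
    have : Subsingleton (Subgroup.center H) := (Nat.card_eq_one_iff_unique.1 hKk).1
    exact isCyclic_of_subsingleton
  · exfalso; apply hZ
    rw [pow_one] at hKk
    exact isCyclic_of_prime_card hKk
  · exact hKk
  · exfalso
    have hq : Nat.card (H ⧸ Subgroup.center H) = p := by
      have h1 : (Subgroup.center H).index = p := by simpa using hidx
      exact h1
    have : IsCyclic (H ⧸ Subgroup.center H) := isCyclic_of_prime_card hq
    have hc : IsMulCommutative H :=
      MonoidHom.isMulCommutative_of_isCyclic_of_ker_le_center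
        (QuotientGroup.mk' (Subgroup.center H)) (by rw [QuotientGroup.ker_mk'])
    exact hab (mul_comm' a b)
  · exfalso
    have htop : Subgroup.center H = ⊤ := Subgroup.eq_top_of_card_eq _ (by rw [hKk, hcard])
    have hb : b ∈ Subgroup.center H := htop ▸ Subgroup.mem_top b
    exact hab (Subgroup.mem_center_iff.1 hb a)

/-- the Frattini subgroup of a nonabelian group of order `p ^ 4` that is not two-generated has
order `p` -/
lemma card_frattini (hcard : Nat.card H = p ^ 4) (hna : ∃ a b : H, a * b ≠ b * a)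
    (hfr : (frattini H).index ≠ p ^ 2) : Nat.card (frattini H) = p := by
  have hp : p.Prime := Fact.out
  have hP : IsPGroup p H := IsPGroup.of_card hcard
  obtain ⟨a, b, hab⟩ := hna
  obtain ⟨k, hk, hKk, hidx⟩ := card_subgroup_pow hcard (frattini H)
  interval_cases k
  · exfalso
    have hbot : frattini H = ⊥ := Subgroup.card_eq_one.1 (by rw [hKk, pow_zero])
    have h1 := comm_mem_frattini hP a b
    rw [hbot, Subgroup.mem_bot] at h1
    apply hab
    calc a * b = (a * b * a⁻¹ * b⁻¹) * b * a := by group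
      _ = b * a := by rw [h1, one_mul]
  · rw [pow_one] at hKk; exact hKk
  · exfalso; exact hfr hidx
  · exfalso
    have hidx' : (frattini H).index = p := by simpa using hidx
    have hne : frattini H ≠ ⊤ := by
      intro h
      rw [h, Subgroup.index_top] at hidx'
      exact hp.one_lt.ne hidx'
    obtain ⟨x, hx⟩ : ∃ x, x ∉ frattini H := by
      by_contra hcon
      push Not at hcon
      exact hne (eq_top_iff.2 (fun y _ => hcon y))
    have hK : Subgroup.zpowers x ⊔ frattini H = ⊤ := by
      have hle : frattini H ≤ Subgroup.zpowers x ⊔ frattini H := le_sup_right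
      have hd : (Subgroup.zpowers x ⊔ frattini H).index ∣ (frattini H).index :=
        Subgroup.index_dvd_of_le hle
      rw [hidx'] at hd
      rcases (Nat.dvd_prime hp).1 hd with h1 | h1
      · exact Subgroup.index_eq_one.1 h1
      · exfalso
        have h2 := Subgroup.relIndex_mul_index hle
        rw [h1, hidx'] at h2
        have h3 : (frattini H).relIndex (Subgroup.zpowers x ⊔ frattini H) = 1 := by
          have h4 : (frattini H).relIndex (Subgroup.zpowers x ⊔ frattini H) * p = 1 * p := by
            rw [h2, one_mul]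
          exact Nat.eq_of_mul_eq_mul_right hp.pos h4
        have h5 := Subgroup.relIndex_eq_one.1 h3
        exact hx (h5 ((le_sup_left : Subgroup.zpowers x ≤ _) (Subgroup.mem_zpowers x)))
    have hz : Subgroup.zpowers x = ⊤ := frattini_nongenerating hK
    apply hab
    obtain ⟨m, rfl⟩ := Subgroup.mem_zpowers_iff.1 (hz ▸ Subgroup.mem_top a)
    obtain ⟨n, rfl⟩ := Subgroup.mem_zpowers_iff.1 (hz ▸ Subgroup.mem_top b)
    rw [← zpow_add, ← zpow_add, add_comm]
  · exfalso
    have htop : frattini H = ⊤ := Subgroup.eq_top_of_card_eq _ (by rw [hKk, hcard])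
    have h1 : (⊥ : Subgroup H) = ⊤ := frattini_nongenerating (by rw [htop]; simp)
    have ha : a ∈ (⊥ : Subgroup H) := h1 ▸ Subgroup.mem_top a
    rw [Subgroup.mem_bot] at ha
    apply hab
    rw [ha, one_mul, mul_one]

/-- [Q4] `p` odd: a nonabelian group of order `p ^ 4`, not two-generated, with noncyclic centre
and not of exponent `p`, has a chain of characteristic subgroups -/
theorem chain_of_exp_sq {H : Type*} [Group H] [Finite H] {p : ℕ} [Fact p.Prime] (hp : p ≠ 2)
    (hcard : Nat.card H = p ^ 4) (hna : ∃ a b : H, a * b ≠ b * a)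
    (hfr : (frattini H).index ≠ p ^ 2) (hZ : ¬ IsCyclic (Subgroup.center H))
    (hexp : ∃ x : H, x ^ p ≠ 1) :
    ∃ C B A : Subgroup H, A ≤ B ∧ B ≤ C ∧ Nat.card C = p ^ 3 ∧ Nat.card B = p ^ 2 ∧
      Nat.card A = p ∧ (∀ α : MulAut H, ∀ x ∈ C, α x ∈ C) ∧ (∀ α : MulAut H, ∀ x ∈ B, α x ∈ B) ∧
      (∀ α : MulAut H, ∀ x ∈ A, α x ∈ A) := by
  have hpp : p.Prime := Fact.out
  have hP : IsPGroup p H := IsPGroup.of_card hcard
  have hΦ : Nat.card (frattini H) = p := card_frattini hcard hna hfr
  have hZc : Nat.card (Subgroup.center H) = p ^ 2 := card_center hcard hna hZ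
  have hΦZ : frattini H ≤ Subgroup.center H := normal_card_prime_le_center hP (frattini H) hΦ
  have hΦp : ∀ z ∈ frattini H, z ^ p = 1 := by
    intro z hz
    have h1 : (⟨z, hz⟩ : frattini H) ^ Nat.card (frattini H) = 1 := pow_card_eq_one'
    rw [hΦ] at h1
    exact congrArg Subtype.val h1
  have hmul : ∀ x y : H, (x * y) ^ p = x ^ p * y ^ p := by
    intro x y
    have hc : y⁻¹ * x⁻¹ * y * x ∈ frattini H := by
      have h1 := comm_mem_frattini hP y⁻¹ x⁻¹
      simpa using h1
    have hcen : ∀ g : H, g * (y⁻¹ * x⁻¹ * y * x) = (y⁻¹ * x⁻¹ * y * x) * g :=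
      fun g => Subgroup.mem_center_iff.1 (hΦZ hc) g
    have h : y * x = x * y * (y⁻¹ * x⁻¹ * y * x) := by group
    have h2 := Cfsg.Agent.Lib.Helper69.Cpn3.mul_pow_central x y _ hcen h p
    have hdvd : p ∣ p.choose 2 := by
      apply hpp.dvd_choose_self (by norm_num)
      have := hpp.two_le
      omega
    obtain ⟨m, hm⟩ := hdvd
    rw [h2, hm, pow_mul, hΦp _ hc, one_pow, mul_one]
  let pw : H →* H := { toFun := fun x => x ^ p, map_one' := one_pow p, map_mul' := hmul }
  have hpw : ∀ x, pw x = x ^ p := fun _ => rfl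
  have hrange : pw.range ≤ frattini H := by
    rintro _ ⟨x, rfl⟩
    exact pow_mem_frattini hP x
  have hrange_ne : pw.range ≠ ⊥ := by
    obtain ⟨x, hx⟩ := hexp
    intro h
    have h1 : pw x ∈ pw.range := ⟨x, rfl⟩
    rw [h, Subgroup.mem_bot] at h1
    exact hx h1
  have hrange_card : Nat.card pw.range = p := by
    have hd : Nat.card pw.range ∣ Nat.card (frattini H) := Subgroup.card_dvd_of_le hrange
    rw [hΦ] at hd
    rcases (Nat.dvd_prime hpp).1 hd with h1 | h1
    · exact absurd (Subgroup.card_eq_one.1 h1) hrange_ne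
    · exact h1
  have hker_card : Nat.card pw.ker = p ^ 3 := by
    have h1 : Nat.card pw.ker * Nat.card pw.range = Nat.card H := by
      rw [← Subgroup.index_ker pw]
      exact Subgroup.card_mul_index pw.ker
    rw [hrange_card, hcard] at h1
    have h2 : p ^ 4 = p ^ 3 * p := by ring
    rw [h2] at h1
    exact Nat.eq_of_mul_eq_mul_right hpp.pos h1
  refine ⟨pw.ker, Subgroup.center H, frattini H, hΦZ, ?_, hker_card, hZc, hΦ, ?_, ?_, ?_⟩
  · intro z hz
    rw [MonoidHom.mem_ker, hpw]
    by_contra hzp
    apply hZ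
    have ho : orderOf (⟨z, hz⟩ : Subgroup.center H) = p ^ 2 := by
      have hd : orderOf (⟨z, hz⟩ : Subgroup.center H) ∣ p ^ 2 := hZc ▸ orderOf_dvd_natCard _
      obtain ⟨k, hk, hkk⟩ := (Nat.dvd_prime_pow hpp).1 hd
      interval_cases k
      · exfalso
        rw [pow_zero, orderOf_eq_one_iff] at hkk
        apply hzp
        have h1 : z = 1 := congrArg Subtype.val hkk
        rw [h1, one_pow]
      · exfalso
        rw [pow_one] at hkk
        apply hzp
        have h1 := pow_orderOf_eq_one (⟨z, hz⟩ : Subgroup.center H)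
        rw [hkk] at h1
        exact congrArg Subtype.val h1
      · exact hkk
    exact isCyclic_of_orderOf_eq_card _ (by rw [ho, hZc])
  · intro α x hx
    rw [MonoidHom.mem_ker, hpw] at hx ⊢
    rw [← map_pow, hx, map_one]
  · intro α x hx
    rw [Subgroup.mem_center_iff] at hx ⊢
    intro g
    have h1 := hx (α.symm g)
    have h2 := congrArg α h1
    simpa using h2
  · intro α x hx
    have hchar : (frattini H).Characteristic := inferInstance
    have h1 := Subgroup.characteristic_iff_map_eq.1 hchar α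
    rw [← h1]
    exact ⟨x, hx, rfl⟩

end Cfsg.Agent.Lib.Helper14.PQuartic
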