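import Mathlib
import Cfsg.Agent.Lib.Helper59.PSL2Spec

set_option autoImplicit false

/-! Triangle-group generators in `SL₂(F)`: for a point `(a, b)` of the conic
`a² − τ a + b² − b + 1 = 0`, matrices `X`, `Y` with `tr X = −1`, `tr Y = τ`, `X Y = W`. -/

namespace Cfsg.Agent.Lib.Helper14.Tri

open Matrix Cfsg.Agent.Lib.Helper59.PSL2Spec

variable {F : Type*} [Field F]

/-- the matrix `X` of trace `-1` -/
def X (a b τ : F) (h : a ^ 2 - τ * a + b ^ 2 - b + 1 = 0) : SpecialLinearGroup (Fin 2) F :=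
  ⟨!![b - 1, -a; τ - a, -b], by rw [Matrix.det_fin_two_of]; linear_combination -h⟩

/-- the matrix `Y` of trace `τ` -/
def Y (a b τ : F) (h : a ^ 2 - τ * a + b ^ 2 - b + 1 = 0) : SpecialLinearGroup (Fin 2) F :=
  ⟨!![a, b; b - 1, τ - a], by rw [Matrix.det_fin_two_of]; linear_combination -h⟩

theorem trace_X (a b τ : F) (h : a ^ 2 - τ * a + b ^ 2 - b + 1 = 0) :
    (X a b τ h : Matrix (Fin 2) (Fin 2) F).trace = -1 := by
  simp only [X, Matrix.trace_fin_two, Matrix.of_apply, Matrix.cons_val_zero, Matrix.cons_val_one]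
  ring

theorem trace_Y (a b τ : F) (h : a ^ 2 - τ * a + b ^ 2 - b + 1 = 0) :
    (Y a b τ h : Matrix (Fin 2) (Fin 2) F).trace = τ := by
  simp [Y, Matrix.trace_fin_two]

theorem coe_X_mul_Y (a b τ : F) (h : a ^ 2 - τ * a + b ^ 2 - b + 1 = 0) :
    ((X a b τ h * Y a b τ h : SpecialLinearGroup (Fin 2) F) : Matrix (Fin 2) (Fin 2) F) =
      !![0, -1; 1, 0] := by
  rw [Matrix.SpecialLinearGroup.coe_mul]
  simp only [X, Y]
  ext i j
  fin_cases i <;> fin_cases j <;>
    simp [Matrix.mul_apply, Fin.sum_univ_two] <;>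
    first | ring1 | linear_combination h | linear_combination -h

theorem trace_X_mul_Y (a b τ : F) (h : a ^ 2 - τ * a + b ^ 2 - b + 1 = 0) :
    ((X a b τ h * Y a b τ h : SpecialLinearGroup (Fin 2) F) : Matrix (Fin 2) (Fin 2) F).trace = 0 := by
  rw [coe_X_mul_Y]
  simp [Matrix.trace_fin_two]

/-- a power of the image in `PSL₂` is trivial when the Lucas polynomial of the trace vanishes -/
theorem mk_pow_eq_one (g : SpecialLinearGroup (Fin 2) F) (j : ℕ)
    (h : lucas (g : Matrix (Fin 2) (Fin 2) F).trace j = 0) :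
    (QuotientGroup.mk g : Matrix.ProjectiveSpecialLinearGroup (Fin 2) F) ^ j = 1 := by
  rw [← QuotientGroup.mk_pow, QuotientGroup.eq_one_iff]
  exact pow_mem_center_of_lucas g j h

theorem lucas_two (t : F) : lucas t 2 = t := by simp [lucas]

theorem lucas_three (t : F) : lucas t 3 = t ^ 2 - 1 := by simp [lucas]; ring

theorem lucas_four (t : F) : lucas t 4 = t * (t ^ 2 - 2) := by simp [lucas]; ring

theorem lucas_five (t : F) : lucas t 5 = (t ^ 2 + t - 1) * (t ^ 2 - t - 1) := by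
  simp [lucas]; ring

theorem mk_X_pow (a b τ : F) (h : a ^ 2 - τ * a + b ^ 2 - b + 1 = 0) :
    (QuotientGroup.mk (X a b τ h) : Matrix.ProjectiveSpecialLinearGroup (Fin 2) F) ^ 3 = 1 := by
  apply mk_pow_eq_one
  rw [trace_X, lucas_three]
  ring

theorem mk_XY_pow (a b τ : F) (h : a ^ 2 - τ * a + b ^ 2 - b + 1 = 0) :
    ((QuotientGroup.mk (X a b τ h) : Matrix.ProjectiveSpecialLinearGroup (Fin 2) F) *
      QuotientGroup.mk (Y a b τ h)) ^ 2 = 1 := by
  rw [← QuotientGroup.mk_mul]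
  apply mk_pow_eq_one
  rw [trace_X_mul_Y, lucas_two]

theorem mk_Y_pow (a b τ : F) (h : a ^ 2 - τ * a + b ^ 2 - b + 1 = 0) (j : ℕ)
    (hj : lucas τ j = 0) :
    (QuotientGroup.mk (Y a b τ h) : Matrix.ProjectiveSpecialLinearGroup (Fin 2) F) ^ j = 1 := by
  apply mk_pow_eq_one
  rw [trace_Y, hj]

/-- an element of `SL₂` with a non-zero off-diagonal entry is not central -/
theorem mk_ne_one_of_offdiag (g : SpecialLinearGroup (Fin 2) F) (h : g 0 1 ≠ 0 ∨ g 1 0 ≠ 0) :
    (QuotientGroup.mk g : Matrix.ProjectiveSpecialLinearGroup (Fin 2) F) ≠ 1 := by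
  intro hg
  rw [QuotientGroup.eq_one_iff] at hg
  obtain ⟨r, _, hr⟩ := Matrix.SpecialLinearGroup.mem_center_iff.mp hg
  have h01 : g 0 1 = 0 := by rw [← hr]; simp
  have h10 : g 1 0 = 0 := by rw [← hr]; simp
  rcases h with h | h
  · exact h h01
  · exact h h10

theorem mk_Y_ne_one (a b τ : F) (h : a ^ 2 - τ * a + b ^ 2 - b + 1 = 0) :
    (QuotientGroup.mk (Y a b τ h) : Matrix.ProjectiveSpecialLinearGroup (Fin 2) F) ≠ 1 := by
  apply mk_ne_one_of_offdiag
  by_cases hb : b = 0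
  · right
    simp [Y, hb]
  · left
    simpa [Y] using hb

theorem mk_XY_ne_one (a b τ : F) (h : a ^ 2 - τ * a + b ^ 2 - b + 1 = 0) :
    ((QuotientGroup.mk (X a b τ h) : Matrix.ProjectiveSpecialLinearGroup (Fin 2) F) *
      QuotientGroup.mk (Y a b τ h)) ≠ 1 := by
  rw [← QuotientGroup.mk_mul]
  apply mk_ne_one_of_offdiag
  right
  have := coe_X_mul_Y a b τ h
  have h2 := congrFun (congrFun this 1) 0
  simp only [Matrix.of_apply, Matrix.cons_val_one, Matrix.cons_val_zero] at h2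
  rw [show (X a b τ h * Y a b τ h) 1 0 = ((X a b τ h * Y a b τ h : SpecialLinearGroup (Fin 2) F) :
    Matrix (Fin 2) (Fin 2) F) 1 0 from rfl, h2]
  exact one_ne_zero

/-- the conic has a point over a finite field of odd characteristic -/
theorem exists_conic [Fintype F] (h2 : Fintype.card F % 2 = 1) (τ : F) :
    ∃ a b : F, a ^ 2 - τ * a + b ^ 2 - b + 1 = 0 := by
  have hf : (Polynomial.C (1 : F) * Polynomial.X ^ 2 + Polynomial.C (-τ) * Polynomial.X +
      Polynomial.C 0).degree = 2 := Polynomial.degree_quadratic one_ne_zero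
  have hg : (Polynomial.C (1 : F) * Polynomial.X ^ 2 + Polynomial.C (-1) * Polynomial.X +
      Polynomial.C 1).degree = 2 := Polynomial.degree_quadratic one_ne_zero
  obtain ⟨a, b, hab⟩ := FiniteField.exists_root_sum_quadratic hf hg h2
  refine ⟨a, b, ?_⟩
  simp only [Polynomial.eval_add, Polynomial.eval_mul, Polynomial.eval_C, Polynomial.eval_pow,
    Polynomial.eval_X] at hab
  linear_combination hab

/-- if `5` divides the order of `SL₂(F)` then `F` contains a root of `τ² + τ − 1` -/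
theorem exists_tau5 [Finite F] (h5 : 5 ∣ Nat.card (SpecialLinearGroup (Fin 2) F)) :
    ∃ τ : F, τ ^ 2 + τ - 1 = 0 := by
  classical
  have := Fintype.ofFinite F
  have : Fact (Nat.Prime 5) := ⟨by norm_num⟩
  obtain ⟨g, hg⟩ := exists_prime_orderOf_dvd_card' 5 h5
  have hg5 : g ^ 5 = 1 := by rw [← hg]; exact pow_orderOf_eq_one g
  have hgc : g ∉ Subgroup.center (SpecialLinearGroup (Fin 2) F) := by
    intro hc
    obtain ⟨r, hr, hra⟩ := Matrix.SpecialLinearGroup.mem_center_iff.mp hc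
    rw [Fintype.card_fin] at hr
    have hg2 : g ^ 2 = 1 := by
      apply Subtype.ext
      rw [Matrix.SpecialLinearGroup.coe_pow, ← hra]
      simp only [Matrix.SpecialLinearGroup.coe_one]
      rw [← map_pow, hr, map_one]
    have h1 : orderOf g ∣ 2 := orderOf_dvd_of_pow_eq_one hg2
    rw [hg] at h1
    omega
  have hl := lucas_of_pow_mem_center g hgc 5 (by rw [hg5]; exact one_mem _)
  rw [lucas_five] at hl
  rcases mul_eq_zero.mp hl with h | h
  · exact ⟨_, h⟩
  · exact ⟨-(g : Matrix (Fin 2) (Fin 2) F).trace, by linear_combination h⟩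

end Cfsg.Agent.Lib.Helper14.Tri
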