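import Mathlib
import Cfsg.Agent.Lib.Helper44.OMat

set_option autoImplicit false

namespace Cfsg.Agent.Lib.Helper14.OrthIndex

open Module QuadraticMap
open Cfsg.Agent.Lib.Helper44.QSpace Cfsg.Agent.Lib.Helper44.OGroup Cfsg.Agent.Lib.Helper44.Spinor
open Cfsg.Agent.Lib.Helper44.CartanD Cfsg.Agent.Lib.Helper44.OMat Cfsg.Agent.Lib.Helper44.FinSq
open Cfsg.Agent.Lib.Helper44.QClass

universe u

section Abstract

variable {F : Type*} [Field F] {V : Type u} [AddCommGroup V] [Module F V]

/-- every element of `O(Q)` is a product of reflections (in `O Q`), char ≠ 2 -/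
theorem exists_prod_refl [FiniteDimensional F V] (h2 : (2 : F) ≠ 0) {Q : QuadraticForm F V}
    (hS : Sep Q) (g : O Q) :
    ∃ vs : List V, (∀ v ∈ vs, Q v ≠ 0) ∧ g = (vs.map (refl Q)).prod := by
  obtain ⟨vs, hvs, hprod⟩ := cartan_dieudonne h2 (finrank F V) V Q rfl hS g.1 g.2
  exact ⟨vs, hvs, Subtype.ext (by rw [coe_prod_refl]; exact hprod)⟩

/-- squares lie in the commutator subgroup of `O(Q)` -/
theorem sq_mem_commutator [Fintype F] [FiniteDimensional F V] (h2 : (2 : F) ≠ 0)
    {Q : QuadraticForm F V} (hS : Sep Q) (hd : 2 ≤ finrank F V) (g : O Q) :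
    g * g ∈ commutator (O Q) := by
  obtain ⟨vs, hvs, rfl⟩ := exists_prod_refl h2 hS g
  rw [← List.prod_append, ← List.map_append]
  have hvs2 : ∀ v ∈ vs ++ vs, Q v ≠ 0 := by
    intro v hv
    rcases List.mem_append.mp hv with h | h
    · exact hvs v h
    · exact hvs v h
  rw [mem_commutator_iff h2 hS hd (vs ++ vs) hvs2]
  refine ⟨by rw [List.length_append]; exact Even.add_self _, ?_⟩
  rw [List.map_append, List.prod_append]
  exact ⟨_, rfl⟩

/-- `Ω = O'` has index `4` in `O(Q)` for `q` odd, `dim ≥ 2`. -/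
theorem index_commutator [Fintype F] [FiniteDimensional F V] (h2 : (2 : F) ≠ 0)
    {Q : QuadraticForm F V} (hS : Sep Q) (hd : 2 ≤ finrank F V) :
    (commutator (O Q)).index = 4 := by
  classical
  obtain ⟨u₀, hu₀⟩ := exists_q_eq hS hd (1 : F)
  obtain ⟨ζ, hζ⟩ := FiniteField.exists_nonsquare (ringChar_ne_two_of_two_ne_zero h2)
  obtain ⟨w₀, hw₀⟩ := exists_q_eq hS hd ζ
  have hw₀' : ¬ IsSquare (Q w₀) := by rw [hw₀]; exact hζ
  have hw0 : Q w₀ ≠ 0 := fun h => hw₀' (h ▸ IsSquare.zero)
  have hu0 : Q u₀ ≠ 0 := by rw [hu₀]; exact one_ne_zero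
  obtain ⟨θ, hθ⟩ := exists_char h2 hS (by omega)
  set Φ : O Q →* Fˣ × ℤˣ := (detHom Q).prod θ with hΦ
  set x := Φ (refl Q u₀) with hx
  set y := Φ (refl Q w₀) with hy
  have hxx : x * x = 1 := hom_refl_sq Φ u₀
  have hyy : y * y = 1 := hom_refl_sq Φ w₀
  have hneg : (-1 : Fˣ) ≠ 1 := by
    intro h
    have h3 := congrArg Units.val h
    simp only [Units.val_neg, Units.val_one] at h3
    apply h2
    linear_combination -h3
  have hdetu : detHom Q (refl Q u₀) = -1 := det_reflE Q hu0
  have hdetw : detHom Q (refl Q w₀) = -1 := det_reflE Q hw0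
  have hx1 : x ≠ 1 := by
    intro h
    have := congrArg Prod.fst h
    rw [hx, hΦ, MonoidHom.prod_apply] at this
    simp only [Prod.fst_one] at this
    rw [hdetu] at this
    exact hneg this
  have hy1 : y ≠ 1 := by
    intro h
    have := congrArg Prod.fst h
    rw [hy, hΦ, MonoidHom.prod_apply] at this
    simp only [Prod.fst_one] at this
    rw [hdetw] at this
    exact hneg this
  have hxy : x ≠ y := by
    intro h
    have := congrArg Prod.snd h
    rw [hx, hy, hΦ, MonoidHom.prod_apply, MonoidHom.prod_apply] at this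
    exact hθ u₀ w₀ hu0 hw0 (by rw [hu₀, one_mul]; exact hw₀') this
  have hxy1 : x * y ≠ 1 := by
    intro h
    apply hxy
    calc x = x * (y * y) := by rw [hyy, mul_one]
      _ = (x * y) * y := by rw [mul_assoc]
      _ = y := by rw [h, one_mul]
  have hval : ∀ (vs : List V), (∀ v ∈ vs, Q v ≠ 0) →
      Φ ((vs.map (refl Q)).prod) = x ^ vs.length * (x * y) ^ nsq (vs.map (fun v => Q v)).prod :=
    fun vs hvs => (hom_prod_refl h2 Φ hu₀ hw₀' vs hvs).2
  have hxpow : ∀ k : ℕ, x ^ k = if Even k then 1 else x := by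
    intro k
    split_ifs with hk
    · obtain ⟨j, rfl⟩ := hk
      rw [← two_mul, pow_mul, pow_two, hxx, one_pow]
    · rw [Nat.not_even_iff_odd] at hk
      obtain ⟨j, rfl⟩ := hk
      rw [pow_succ, pow_mul, pow_two, hxx, one_pow, one_mul]
  have hker : Φ.ker = commutator (O Q) := by
    apply le_antisymm
    · intro g hg
      obtain ⟨vs, hvs, rfl⟩ := exists_prod_refl h2 hS g
      rw [MonoidHom.mem_ker, hval vs hvs, hxpow] at hg
      rw [mem_commutator_iff h2 hS hd vs hvs]
      by_cases hsq : IsSquare (vs.map (fun v => Q v)).prod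
      · rw [nsq_of_isSquare hsq, pow_zero, mul_one] at hg
        refine ⟨?_, hsq⟩
        by_contra hk
        rw [if_neg hk] at hg
        exact hx1 hg
      · exfalso
        rw [nsq_of_not hsq, pow_one] at hg
        split_ifs at hg with hk
        · rw [one_mul] at hg; exact hxy1 hg
        · rw [← mul_assoc, hxx, one_mul] at hg; exact hy1 hg
    · exact Abelianization.commutator_subset_ker Φ
  rw [← hker, Subgroup.index_ker]
  have hrange : (Φ.range : Set (Fˣ × ℤˣ)) = {1, x, y, x * y} := by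
    ext z
    constructor
    · rintro ⟨g, rfl⟩
      obtain ⟨vs, hvs, rfl⟩ := exists_prod_refl h2 hS g
      rw [hval vs hvs, hxpow]
      by_cases hsq : IsSquare (vs.map (fun v => Q v)).prod
      · rw [nsq_of_isSquare hsq, pow_zero, mul_one]
        split_ifs <;> simp
      · rw [nsq_of_not hsq, pow_one]
        split_ifs
        · rw [one_mul]; simp
        · rw [← mul_assoc, hxx, one_mul]; simp
    · intro hz
      simp only [Set.mem_insert_iff, Set.mem_singleton_iff] at hz
      rcases hz with rfl | rfl | rfl | rfl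
      · exact ⟨1, map_one Φ⟩
      · exact ⟨refl Q u₀, rfl⟩
      · exact ⟨refl Q w₀, rfl⟩
      · exact ⟨refl Q u₀ * refl Q w₀, map_mul Φ _ _⟩
  have hcard : Nat.card Φ.range = (Φ.range : Set (Fˣ × ℤˣ)).ncard := rfl
  rw [hcard, hrange, Set.ncard_insert_of_notMem, Set.ncard_insert_of_notMem, Set.ncard_pair]
  · intro h
    exact hx1 (mul_right_cancel (show x * y = 1 * y by rw [one_mul]; exact h.symm))
  · simp only [Set.mem_insert_iff, Set.mem_singleton_iff, not_or]
    refine ⟨hxy, ?_⟩
    intro h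
    apply hy1
    calc y = (x * x) * y := by rw [hxx, one_mul]
      _ = x * (x * y) := by rw [mul_assoc]
      _ = x * x := by rw [← h]
      _ = 1 := hxx
  · simp only [Set.mem_insert_iff, Set.mem_singleton_iff, not_or]
    exact ⟨fun h => hx1 h.symm, fun h => hy1 h.symm, fun h => hxy1 h.symm⟩

end Abstract

section Mat

variable {F : Type*} [Field F] {ι : Type} [Fintype ι] [DecidableEq ι]

theorem omega_eq_comap (Q : QuadraticForm F (ι → F)) :
    Cfsg.Omega F ⇑Q = (commutator ↥(O Q)).comap (isoEquiv Q).toMonoidHom := by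
  ext g
  rw [Subgroup.mem_comap]
  exact mem_omega_iff Q g

/-- `Ω` has index `4` in the isometry group, `q` odd, dimension `≥ 2`. -/
theorem index_omega [Fintype F] (h2 : (2 : F) ≠ 0) (Q : QuadraticForm F (ι → F)) (hS : Sep Q)
    (hn : 2 ≤ Fintype.card ι) : (Cfsg.Omega F ⇑Q).index = 4 := by
  rw [omega_eq_comap, Subgroup.index_comap_of_surjective _ (isoEquiv Q).surjective]
  exact index_commutator h2 hS (by rw [Module.finrank_fintype_fun_eq_card]; exact hn)

/-- squares of isometries lie in `Ω`. -/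
theorem sq_mem_omega [Fintype F] (h2 : (2 : F) ≠ 0) (Q : QuadraticForm F (ι → F)) (hS : Sep Q)
    (hn : 2 ≤ Fintype.card ι) (g : ↥(Cfsg.isometryGroup F ⇑Q)) : g * g ∈ Cfsg.Omega F ⇑Q := by
  rw [mem_omega_iff, map_mul]
  exact sq_mem_commutator h2 hS (by rw [Module.finrank_fintype_fun_eq_card]; exact hn) _

end Mat

end Cfsg.Agent.Lib.Helper14.OrthIndex
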