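import Mathlib
import Cfsg.Agent.Lib.Helper10.SWDefs

/-!
# Sims–Wong (S3685): auxiliary lemmas for the pieces WE, WD, C4I
-/

set_option autoImplicit false

namespace Cfsg.Agent.Lib.Helper14.SWAux

open Pointwise
open Cfsg.Agent.Lib.Helper10.SWDefs

universe u

variable {G : Type u} [Group G]

theorem conj_self {P : Subgroup G} {g : G} (hg : g ∈ P) : MulAut.conj g • P = P :=
  Subgroup.conj_smul_eq_self_of_mem hg

/-- the walk `A, B, C, C, …` -/
def walk3 (A B C : Subgroup G) : ℕ → Subgroup G :=
  fun i => if i = 0 then A else if i = 1 then B else C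

@[simp] theorem walk3_zero (A B C : Subgroup G) : walk3 A B C 0 = A := rfl

@[simp] theorem walk3_one (A B C : Subgroup G) : walk3 A B C 1 = B := rfl

@[simp] theorem walk3_two (A B C : Subgroup G) : walk3 A B C 2 = C := rfl

/-- no bad walk of length one: `Zs P ≤ Qs P'` for adjacent points -/
theorem far_of_not_bad {H : Subgroup G} (h1 : ¬ Bad H 1) {P P' : Subgroup G} (hP : IsPt H P)
    (hP' : IsPt H P') (hadj : Adj P P') : Zs P ≤ Qs P' := by
  by_contra hcon
  apply h1
  refine ⟨walk3 P P' P', ⟨?_, ?_⟩, ?_⟩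
  · intro i _
    unfold walk3
    by_cases h : i = 0
    · rw [if_pos h]; exact hP
    · rw [if_neg h]
      by_cases h' : i = 1
      · rw [if_pos h']; exact hP'
      · rw [if_neg h']; exact hP'
  · intro i hi
    have h0 : i = 0 := by omega
    subst h0
    exact hadj
  · exact hcon

/-- a walk of length two which is bad is a minimal bad walk, if there are no shorter ones -/
theorem minBad3 {H A B C : Subgroup G} (h0 : ¬ Bad H 0) (h1 : ¬ Bad H 1) (hA : IsPt H A)
    (hB : IsPt H B) (hC : IsPt H C) (hAB : Adj A B) (hBC : Adj B C) (hbad : ¬ Zs A ≤ Qs C) :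
    MinBad H (walk3 A B C) 2 := by
  refine ⟨⟨?_, ?_⟩, hbad, ?_⟩
  · intro i _
    unfold walk3
    by_cases h : i = 0
    · rw [if_pos h]; exact hA
    · rw [if_neg h]
      by_cases h' : i = 1
      · rw [if_pos h']; exact hB
      · rw [if_neg h']; exact hC
  · intro i hi
    have h01 : i = 0 ∨ i = 1 := by omega
    rcases h01 with rfl | rfl
    · exact hAB
    · exact hBC
  · intro m hm
    have h01 : m = 0 ∨ m = 1 := by omega
    rcases h01 with rfl | rfl
    · exact h0
    · exact h1

/-- two elements outside a subgroup of index two differ by an element of it -/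
theorem mem_of_relIndex_two {K S : Subgroup G} (h : K.relIndex S = 2) {a b : G} (ha : a ∈ S)
    (hb : b ∈ S) (ha' : a ∉ K) (hb' : b ∉ K) : a⁻¹ * b ∈ K := by
  have h2 : (K.subgroupOf S).index = 2 := h
  have h3 := Subgroup.mul_mem_iff_of_index_two h2 (a := (⟨a, ha⟩ : S)⁻¹) (b := ⟨b, hb⟩)
  have h4 : (⟨a, ha⟩ : S)⁻¹ * ⟨b, hb⟩ ∈ K.subgroupOf S := by
    rw [h3]
    constructor
    · intro h5
      exact absurd (by simpa [Subgroup.mem_subgroupOf] using h5) ha'
    · intro h5
      exact absurd (by simpa [Subgroup.mem_subgroupOf] using h5) hb'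
  simpa [Subgroup.mem_subgroupOf] using h4

/-- a group is not the union of two proper subgroups -/
theorem exists_not_mem_two {Z A B : Subgroup G} (hA : ¬ Z ≤ A) (hB : ¬ Z ≤ B) :
    ∃ p ∈ Z, p ∉ A ∧ p ∉ B := by
  obtain ⟨a, haZ, haA⟩ := SetLike.not_le_iff_exists.1 hA
  obtain ⟨b, hbZ, hbB⟩ := SetLike.not_le_iff_exists.1 hB
  by_cases h1 : a ∈ B
  · by_cases h2 : b ∈ A
    · refine ⟨a * b, Z.mul_mem haZ hbZ, ?_, ?_⟩
      · intro h
        exact haA ((Subgroup.mul_mem_cancel_right A h2).1 h)
      · intro h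
        exact hbB ((Subgroup.mul_mem_cancel_left B h1).1 h)
    · exact ⟨b, hbZ, h2, hbB⟩
  · exact ⟨a, haZ, haA, h1⟩

/-- a point is not contained in an adjacent point -/
theorem exists_not_mem_of_adj {P P' : Subgroup G} (h : Adj P P') : ∃ g ∈ P, g ∉ P' := by
  by_contra hcon
  push Not at hcon
  have h1 : P ⊓ P' = P := inf_eq_left.2 hcon
  have h2 := h.2
  rw [h1, Subgroup.relIndex_self] at h2
  omega

theorem conj_le_conj {g : G} {A B : Subgroup G} (h : A ≤ B) :
    MulAut.conj g • A ≤ MulAut.conj g • B :=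
  Subgroup.pointwise_smul_le_pointwise_smul_iff.2 h

theorem le_of_conj_le_conj {g : G} {A B : Subgroup G}
    (h : MulAut.conj g • A ≤ MulAut.conj g • B) : A ≤ B :=
  Subgroup.pointwise_smul_le_pointwise_smul_iff.1 h

/-- conjugating by two elements of a line that differ by an element fixing the point -/
theorem conj_eq_of_mem {B : Subgroup G} {a b : G} (h : a⁻¹ * b ∈ B) :
    MulAut.conj b • B = MulAut.conj a • B := by
  have h1 : b = a * (a⁻¹ * b) := by group
  rw [h1, ← conj_mul_smul, conj_self h]

/-- an element commuting with two subgroups generating the group is central -/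
theorem central_of_sup_eq_top {A B : Subgroup G} (hAB : A ⊔ B = ⊤) {r : G}
    (hA : ∀ g ∈ A, g * r = r * g) (hB : ∀ g ∈ B, g * r = r * g) (g : G) : g * r = r * g := by
  have h1 : A ≤ Subgroup.centralizer ({r} : Set G) := by
    intro a ha
    rw [Subgroup.mem_centralizer_iff]
    intro x hx
    rw [Set.mem_singleton_iff] at hx
    rw [hx]
    exact (hA a ha).symm
  have h2 : B ≤ Subgroup.centralizer ({r} : Set G) := by
    intro a ha
    rw [Subgroup.mem_centralizer_iff]
    intro x hx
    rw [Set.mem_singleton_iff] at hx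
    rw [hx]
    exact (hB a ha).symm
  have h3 : g ∈ Subgroup.centralizer ({r} : Set G) := by
    have : g ∈ A ⊔ B := by rw [hAB]; trivial
    exact (sup_le h1 h2) this
  rw [Subgroup.mem_centralizer_iff] at h3
  exact (h3 r rfl).symm

/-- a central element of a point is trivial -/
theorem eq_one_of_central {H P : Subgroup G} (hB : Base H) (hP : IsPt H P) {r : G}
    (hr : r ∈ P) (hc : ∀ g : G, g * r = r * g) : r = 1 := by
  have hN : (Subgroup.zpowers r).Normal := by
    constructor
    intro n hn g
    obtain ⟨k, rfl⟩ := Subgroup.mem_zpowers_iff.1 hn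
    have h1 : g * r ^ k * g⁻¹ = r ^ k := by
      have h2 : Commute g (r ^ k) := (show Commute g r from hc g).zpow_right k
      rw [h2.eq, mul_inv_cancel_right]
    rw [h1]
    exact Subgroup.mem_zpowers_iff.2 ⟨k, rfl⟩
  have h3 := hB.core P (Subgroup.zpowers r) hP (Subgroup.zpowers_le.2 hr) hN
  have h4 : r ∈ Subgroup.zpowers r := Subgroup.mem_zpowers r
  rw [h3] at h4
  exact Subgroup.mem_bot.1 h4

end Cfsg.Agent.Lib.Helper14.SWAux
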