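import Mathlib
import Cfsg.Agent.Lib.Helper10.SWDefs
import Cfsg.Agent.Lib.Helper14.SWAux

/-!
# Sims–Wong (S3685), piece WE: the endgame for `n = 2`
-/

set_option autoImplicit false

namespace Cfsg.Agent.Lib.Helper14.SWWE

open Pointwise
open Cfsg.Agent.Lib.Helper10.SWDefs Cfsg.Agent.Lib.Helper14.SWAux

universe u

theorem main : StWE.{u} := by
  intro hWA G _ _ H hB hZ Ps Ys hOr h0 h1 hK2 hK1 hcomm
  obtain ⟨hPs, hYs, hadj, -⟩ := hOr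
  have hfar : ∀ {P P' : Subgroup G}, IsPt H P → IsPt H P' → Adj P P' → Zs P ≤ Qs P' :=
    fun hP hP' h => far_of_not_bad h1 hP hP' h
  have hadj' : Adj Ys Ps := hB.adj_symm Ps Ys hPs hYs hadj
  -- (1) the point `lam`
  obtain ⟨h1e, hh1, hh1'⟩ := exists_not_mem_of_adj hadj
  set lam : Subgroup G := MulAut.conj h1e • Ys with hlam
  have hlamPt : IsPt H lam := isPt_conj hYs h1e
  have hadjPl : Adj Ps lam := by
    have h := adj_conj h1e hadj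
    rwa [conj_self hh1] at h
  have hadjlP : Adj lam Ps := hB.adj_symm Ps lam hPs hlamPt hadjPl
  have hlamne : lam ≠ Ys := fun h => hh1' (hB.self_norm_pt Ys hYs h1e h)
  have hbad1 : ¬ Zs Ys ≤ Qs lam := hK2 h1e hh1 hlamne
  have hmb1 := minBad3 h0 h1 hYs hPs hlamPt hadj' hadjPl hbad1
  have hne1 : Ys ⊓ Ps ≠ Ps ⊓ lam := by
    have h := (hWA G H hB hZ _ 2 hmb1).2.2.1 0 (le_refl _)
    simpa using h
  -- (2) the point `bet`
  obtain ⟨t, ht⟩ := isPt_trans hPs hYs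
  have hadjYc : Adj Ys (MulAut.conj t • Ys) := by
    have h := adj_conj t hadj
    rwa [← ht] at h
  have hlineYc : IsLine Ys (Ys ⊓ MulAut.conj t • Ys) :=
    hB.adj_line Ys _ hYs (isPt_conj hYs t) hadjYc
  obtain ⟨S₁, S₂, S₃, h12, -, -, hlines⟩ := hB.three Ys hYs
  obtain ⟨S', hS', hS'ne⟩ : ∃ S', IsLine Ys S' ∧ S' ≠ Ps ⊓ Ys := by
    by_cases h : S₁ = Ps ⊓ Ys
    · refine ⟨S₂, (hlines S₂).2 (Or.inr (Or.inl rfl)), ?_⟩
      intro h'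
      exact h12 (h.trans h'.symm)
    · exact ⟨S₁, (hlines S₁).2 (Or.inl rfl), h⟩
  obtain ⟨hh, hhY, hhS⟩ := hB.line_conj Ys _ S' hYs hlineYc hS'
  have hhS' : Ys ⊓ MulAut.conj (hh * t) • Ys = S' := by
    rw [hhS, Subgroup.smul_inf, conj_self hhY, conj_mul_smul]
  set bet0 : Subgroup G := MulAut.conj (hh * t) • Ys with hbet0
  have hbad0 : ¬ Zs Ps ≤ Qs bet0 := by
    refine hK1 t hh ht.symm hhY ?_
    rw [hhS']
    exact hS'ne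
  have hadjYb0 : Adj Ys bet0 := by
    have h := adj_conj (hh * t) hadj
    have h2 : MulAut.conj (hh * t) • Ps = Ys := by
      rw [← conj_mul_smul, ← ht, conj_self hhY]
    rwa [h2] at h
  set bet : Subgroup G := MulAut.conj h1e • bet0 with hbet
  have hbetPt : IsPt H bet := isPt_conj (isPt_conj hYs _) h1e
  have hadjlb : Adj lam bet := adj_conj h1e hadjYb0
  have hadjbl : Adj bet lam := hB.adj_symm lam bet hlamPt hbetPt hadjlb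
  have hbad2 : ¬ Zs Ps ≤ Qs bet := by
    intro h
    apply hbad0
    have h2 : Zs Ps = MulAut.conj h1e • Zs Ps := by
      rw [← Zs_conj, conj_self hh1]
    rw [h2, hbet, Qs_conj] at h
    exact le_of_conj_le_conj h
  have hmb2 := minBad3 h0 h1 hPs hlamPt hbetPt hadjPl hadjlb hbad2
  have hWA2 := hWA G H hB hZ _ 2 hmb2
  have hbad2r : ¬ Zs bet ≤ Qs Ps := by
    have h := hWA2.2.1.2.1
    simpa using h
  have hne2 : Ps ⊓ lam ≠ lam ⊓ bet := by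
    have h := hWA2.2.2.1 0 (le_refl _)
    simpa using h
  -- lines
  have hLPY : IsLine Ps (Ps ⊓ Ys) := hB.adj_line Ps Ys hPs hYs hadj
  have hLPl : IsLine Ps (Ps ⊓ lam) := hB.adj_line Ps lam hPs hlamPt hadjPl
  have hLlP : IsLine lam (lam ⊓ Ps) := hB.adj_line lam Ps hlamPt hPs hadjlP
  have hLlb : IsLine lam (lam ⊓ bet) := hB.adj_line lam bet hlamPt hbetPt hadjlb
  have hLYP : IsLine Ys (Ys ⊓ Ps) := hB.adj_line Ys Ps hYs hPs hadj'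
  have hZY_le : Zs Ys ≤ Qs Ps := hfar hYs hPs hadj'
  have hZb_le : Zs bet ≤ Qs lam := hfar hbetPt hlamPt hadjbl
  have hQP_Pl : Qs Ps ≤ Ps ⊓ lam := Qs_le_line hLPl
  have hQP_PY : Qs Ps ≤ Ps ⊓ Ys := Qs_le_line hLPY
  have hQl_lP : Qs lam ≤ lam ⊓ Ps := Qs_le_line hLlP
  have hQl_lb : Qs lam ≤ lam ⊓ bet := Qs_le_line hLlb
  -- (3) `p0`, `q0`
  obtain ⟨p0, hp0Z, hp0Q⟩ := SetLike.not_le_iff_exists.1 hbad1
  obtain ⟨q0, hq0Z, hq0Q⟩ := SetLike.not_le_iff_exists.1 hbad2r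
  have hp0Pl : p0 ∈ Ps ⊓ lam := hQP_Pl (hZY_le hp0Z)
  have hq0lP : q0 ∈ lam ⊓ Ps := hQl_lP (hZb_le hq0Z)
  have hq0P : q0 ∈ Ps := hq0lP.2
  have hp0l : p0 ∈ lam := hp0Pl.2
  set a2 : Subgroup G := MulAut.conj q0 • Ys with ha2
  set bet2 : Subgroup G := MulAut.conj p0 • bet with hbet2
  have ha2Pt : IsPt H a2 := isPt_conj hYs q0
  have hbet2Pt : IsPt H bet2 := isPt_conj hbetPt p0
  have hnePY : Ps ⊓ Ys ≠ Ps ⊓ lam := by
    rw [inf_comm]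
    exact hne1
  have ha2ne : a2 ≠ Ys := by
    intro h
    have h3 : q0 ∈ Ys := hB.self_norm_pt Ys hYs q0 h
    have h4 : q0 ∈ (Ps ⊓ Ys) ⊓ (Ps ⊓ lam) := ⟨⟨hq0P, h3⟩, ⟨hq0P, hq0lP.1⟩⟩
    rw [hB.line_inf Ps _ _ hPs hLPY hLPl hnePY] at h4
    exact hq0Q h4
  have hbadA : ¬ Zs Ys ≤ Qs a2 := hK2 q0 hq0P ha2ne
  have hnelP : lam ⊓ Ps ≠ lam ⊓ bet := by
    rw [inf_comm]
    exact hne2
  have hbet2ne : bet2 ≠ bet := by
    intro h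
    have h3 : p0 ∈ bet := hB.self_norm_pt bet hbetPt p0 h
    have h4 : p0 ∈ (lam ⊓ Ps) ⊓ (lam ⊓ bet) := ⟨⟨hp0l, hp0Pl.1⟩, ⟨hp0l, h3⟩⟩
    rw [hB.line_inf lam _ _ hlamPt hLlP hLlb hnelP] at h4
    exact hp0Q h4
  -- the conjugated `K2`
  have hgP : MulAut.conj (h1e * hh * t) • Ps = lam := by
    rw [mul_assoc, ← conj_mul_smul, ← conj_mul_smul, ← ht, conj_self hhY]
  have hgY : MulAut.conj (h1e * hh * t) • Ys = bet := by
    rw [mul_assoc, ← conj_mul_smul]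
  have hbadB : ¬ Zs bet ≤ Qs bet2 := by
    set g : G := h1e * hh * t with hg
    have hpp : g⁻¹ * p0 * g ∈ Ps := by
      have h3 : p0 ∈ MulAut.conj g • Ps := by rw [hgP]; exact hp0l
      exact mem_conj_smul.1 h3
    have hconj : MulAut.conj g • MulAut.conj (g⁻¹ * p0 * g) • Ys = bet2 := by
      rw [conj_mul_smul]
      have h3 : g * (g⁻¹ * p0 * g) = p0 * g := by group
      rw [h3, ← conj_mul_smul, hgY]
    have hne : MulAut.conj (g⁻¹ * p0 * g) • Ys ≠ Ys := by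
      intro h
      rw [h, hgY] at hconj
      exact hbet2ne hconj.symm
    have h3 := hK2 _ hpp hne
    intro h4
    apply h3
    rw [← hgY, ← hconj, Zs_conj, Qs_conj] at h4
    exact le_of_conj_le_conj h4
  -- (4) `p`, `q`
  obtain ⟨p, hpZ, hpQl, hpQa⟩ := exists_not_mem_two hbad1 hbadA
  obtain ⟨q, hqZ, hqQP, hqQb⟩ := exists_not_mem_two hbad2r hbadB
  have hpPl : p ∈ Ps ⊓ lam := hQP_Pl (hZY_le hpZ)
  have hqlP : q ∈ lam ⊓ Ps := hQl_lP (hZb_le hqZ)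
  have hpP : p ∈ Ps := hpPl.1
  have hqP : q ∈ Ps := hqlP.2
  have hpbet : MulAut.conj p • bet = bet2 := by
    have h3 : p0⁻¹ * p ∈ Qs lam :=
      mem_of_relIndex_two (hB.q_index lam _ hlamPt hLlP) ⟨hp0l, hp0Pl.1⟩ ⟨hpPl.2, hpPl.1⟩
        hp0Q hpQl
    exact conj_eq_of_mem (hQl_lb h3).2
  have hqa : MulAut.conj q • Ys = a2 := by
    have h3 : q0⁻¹ * q ∈ Qs Ps :=
      mem_of_relIndex_two (hB.q_index Ps _ hPs hLPl) ⟨hq0P, hq0lP.1⟩ ⟨hqP, hqlP.1⟩ hq0Q hqQP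
    exact conj_eq_of_mem (hQP_PY h3).2
  -- (5) the commutator
  have hpp1 : p * p = 1 := hZ.z_sq Ys hYs p hpZ
  have hqq1 : q * q = 1 := hZ.z_sq bet hbetPt q hqZ
  have hpi : p⁻¹ = p := inv_eq_of_mul_eq_one_left hpp1
  have hqi : q⁻¹ = q := inv_eq_of_mul_eq_one_left hqq1
  have hp'Z : q * p * q⁻¹ ∈ Zs a2 := by
    rw [← hqa, Zs_conj]
    exact conj_mem_conj_smul hpZ
  have hq'Z : p * q * p⁻¹ ∈ Zs bet2 := by
    rw [← hpbet, Zs_conj]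
    exact conj_mem_conj_smul hqZ
  have hreq : p * (q * p * q⁻¹) * p⁻¹ * (q * p * q⁻¹)⁻¹ =
      (p * q * p⁻¹) * q * (p * q * p⁻¹)⁻¹ * q⁻¹ := by
    simp only [mul_inv_rev, hpi, hqi, mul_assoc]
  have hadjPa2 : Adj Ps a2 := by
    have h := adj_conj q0 hadj
    rwa [conj_self hq0P] at h
  have hadja2P : Adj a2 Ps := hB.adj_symm Ps a2 hPs ha2Pt hadjPa2
  have hmbA := minBad3 h0 h1 hYs hPs ha2Pt hadj' hadjPa2 hbadA
  have hrP : ∀ g ∈ Ps, g * (p * (q * p * q⁻¹) * p⁻¹ * (q * p * q⁻¹)⁻¹) =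
      (p * (q * p * q⁻¹) * p⁻¹ * (q * p * q⁻¹)⁻¹) * g := by
    intro g hg
    exact hcomm _ hmbA p hpZ (q * p * q⁻¹) hp'Z g hg
  have hadjlb2 : Adj lam bet2 := by
    have h := adj_conj p0 hadjlb
    rwa [conj_self hp0l] at h
  have hmbB := minBad3 h0 h1 hbetPt hlamPt hbet2Pt hadjbl hadjlb2 hbadB
  have hmbBr := (hWA G H hB hZ _ 2 hmbB).2.1
  have hrl : ∀ g ∈ lam, g * (p * (q * p * q⁻¹) * p⁻¹ * (q * p * q⁻¹)⁻¹) =
      (p * (q * p * q⁻¹) * p⁻¹ * (q * p * q⁻¹)⁻¹) * g := by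
    intro g hg
    rw [hreq]
    exact hcomm _ hmbBr (p * q * p⁻¹) hq'Z q hqZ g hg
  have hp'P : q * p * q⁻¹ ∈ Ps := Ps.mul_mem (Ps.mul_mem hqP hpP) (Ps.inv_mem hqP)
  have hrmem : p * (q * p * q⁻¹) * p⁻¹ * (q * p * q⁻¹)⁻¹ ∈ Ps :=
    Ps.mul_mem (Ps.mul_mem (Ps.mul_mem hpP hp'P) (Ps.inv_mem hpP)) (Ps.inv_mem hp'P)
  have hr1 : p * (q * p * q⁻¹) * p⁻¹ * (q * p * q⁻¹)⁻¹ = 1 :=
    eq_one_of_central hB hPs hrmem
      (central_of_sup_eq_top (hB.gen Ps lam hPs hlamPt hadjPl.1) hrP hrl)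
  -- (6) the contradiction
  have hcm : p * (q * p * q⁻¹) = (q * p * q⁻¹) * p := by
    have h3 : p * (q * p * q⁻¹) * p⁻¹ = q * p * q⁻¹ := by
      rw [← mul_inv_eq_one]
      exact hr1
    calc p * (q * p * q⁻¹) = (p * (q * p * q⁻¹) * p⁻¹) * p := by group
      _ = (q * p * q⁻¹) * p := by rw [h3]
  apply hpQa
  have hLPa2 : IsLine Ps (Ps ⊓ a2) := hB.adj_line Ps a2 hPs ha2Pt hadjPa2
  have hpa2 : p ∈ a2 := (Qs_le_line hLPa2 (hZY_le hpZ)).2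
  refine hZ.cz a2 ha2Pt p hpa2 ?_
  intro z hz
  have hzPY : z ∈ Ps ⊓ Ys := hQP_PY (hfar ha2Pt hPs hadja2P hz)
  have hp'PY : q * p * q⁻¹ ∈ Ps ⊓ Ys := hQP_PY (hfar ha2Pt hPs hadja2P hp'Z)
  have hp'nQ : q * p * q⁻¹ ∉ Qs Ys := by
    intro h
    apply hpQa
    rw [← hqa, Qs_conj, mem_conj_smul]
    have h3 : q⁻¹ * p * q = q * p * q⁻¹ := by rw [hqi]
    rw [h3]
    exact h
  by_cases hzQ : z ∈ Qs Ys
  · exact (hZ.z_cent Ys hYs p hpZ z hzQ).symm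
  · have h3 : (q * p * q⁻¹)⁻¹ * z ∈ Qs Ys :=
      mem_of_relIndex_two (hB.q_index Ys _ hYs hLYP) ⟨hp'PY.2, hp'PY.1⟩ ⟨hzPY.2, hzPY.1⟩
        hp'nQ hzQ
    have h4 := hZ.z_cent Ys hYs p hpZ _ h3
    have h5 : z = (q * p * q⁻¹) * ((q * p * q⁻¹)⁻¹ * z) := by group
    calc p * z = p * ((q * p * q⁻¹) * ((q * p * q⁻¹)⁻¹ * z)) := by rw [← h5]
      _ = (p * (q * p * q⁻¹)) * ((q * p * q⁻¹)⁻¹ * z) := (mul_assoc _ _ _).symm
      _ = ((q * p * q⁻¹) * p) * ((q * p * q⁻¹)⁻¹ * z) := by rw [hcm]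
      _ = (q * p * q⁻¹) * (p * ((q * p * q⁻¹)⁻¹ * z)) := mul_assoc _ _ _
      _ = (q * p * q⁻¹) * (((q * p * q⁻¹)⁻¹ * z) * p) := by rw [h4]
      _ = ((q * p * q⁻¹) * ((q * p * q⁻¹)⁻¹ * z)) * p := (mul_assoc _ _ _).symm
      _ = z * p := by rw [← h5]

end Cfsg.Agent.Lib.Helper14.SWWE
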