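import Mathlib
import Cfsg.Agent.Lib.Helper45.D8

set_option autoImplicit false

/-!
# The centralizer of an involution of the alternating group of degree 6 is dihedral of order 8
-/

namespace Cfsg.Agent.Lib.Helper14.A6Cent

/-- the standard double transposition -/
def a0 : Equiv.Perm (Fin 6) := Equiv.swap 0 1 * Equiv.swap 2 3

def px : Equiv.Perm (Fin 6) := Equiv.swap 0 2 * Equiv.swap 1 3

def py : Equiv.Perm (Fin 6) := Equiv.swap 0 3 * Equiv.swap 1 2

def pd : Equiv.Perm (Fin 6) := Equiv.swap 0 1 * Equiv.swap 4 5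

set_option maxRecDepth 100000 in
theorem conj_a0 : ∀ σ : Equiv.Perm (Fin 6), Equiv.Perm.sign σ = 1 → σ * σ = 1 → σ ≠ 1 →
    ∃ g : Equiv.Perm (Fin 6), Equiv.Perm.sign g = 1 ∧ g * σ * g⁻¹ = a0 := by
  decide +kernel

set_option maxRecDepth 100000 in
theorem cent_a0_card : (Finset.univ.filter (fun τ : Equiv.Perm (Fin 6) =>
    Equiv.Perm.sign τ = 1 ∧ τ * a0 = a0 * τ)).card = 8 := by
  decide +kernel

set_option maxRecDepth 100000 in
theorem facts : Equiv.Perm.sign a0 = 1 ∧ Equiv.Perm.sign px = 1 ∧ Equiv.Perm.sign py = 1 ∧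
    Equiv.Perm.sign pd = 1 ∧ px * a0 = a0 * px ∧ py * a0 = a0 * py ∧ pd * a0 = a0 * pd ∧
    px * px = 1 ∧ px ≠ py ∧ px * py = py * px ∧ pd * px * pd⁻¹ = py := by
  decide +kernel

/-- conjugation isomorphism between centralizers -/
def centConj {H : Type*} [Group H] (g a : H) :
    Subgroup.centralizer ({a} : Set H) ≃* Subgroup.centralizer ({g * a * g⁻¹} : Set H) where
  toFun x := ⟨g * x.1 * g⁻¹, by
    have hx := x.2
    rw [Subgroup.mem_centralizer_singleton_iff] at hx ⊢
    calc g * x.1 * g⁻¹ * (g * a * g⁻¹) = g * (x.1 * a) * g⁻¹ := by group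
      _ = g * (a * x.1) * g⁻¹ := by rw [hx]
      _ = _ := by group⟩
  invFun y := ⟨g⁻¹ * y.1 * g, by
    have hy := y.2
    rw [Subgroup.mem_centralizer_singleton_iff] at hy ⊢
    calc g⁻¹ * y.1 * g * a = g⁻¹ * (y.1 * (g * a * g⁻¹)) * g := by group
      _ = g⁻¹ * ((g * a * g⁻¹) * y.1) * g := by rw [hy]
      _ = _ := by group⟩
  left_inv x := Subtype.ext (by simp [mul_assoc])
  right_inv y := Subtype.ext (by simp [mul_assoc])
  map_mul' x y := Subtype.ext (by simp [mul_assoc])

/-- the standard involution of `A₆` -/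
def A0 : alternatingGroup (Fin 6) := ⟨a0, Equiv.Perm.mem_alternatingGroup.mpr facts.1⟩

theorem card_cent_A0 :
    Nat.card (Subgroup.centralizer ({A0} : Set (alternatingGroup (Fin 6)))) = 8 := by
  classical
  rw [← cent_a0_card, ← Fintype.card_coe, ← Nat.card_eq_fintype_card]
  apply Nat.card_congr
  exact {
    toFun := fun x => ⟨x.1.1, by
      rw [Finset.mem_filter]
      refine ⟨Finset.mem_univ _, Equiv.Perm.mem_alternatingGroup.mp x.1.2, ?_⟩
      have hx := x.2
      rw [Subgroup.mem_centralizer_singleton_iff] at hx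
      exact congrArg Subtype.val hx⟩
    invFun := fun y =>
      ⟨⟨y.1, Equiv.Perm.mem_alternatingGroup.mpr (Finset.mem_filter.mp y.2).2.1⟩, by
        rw [Subgroup.mem_centralizer_singleton_iff]
        exact Subtype.ext (Finset.mem_filter.mp y.2).2.2⟩
    left_inv := fun x => rfl
    right_inv := fun y => rfl }

theorem iso_A0 :
    Nonempty (Subgroup.centralizer ({A0} : Set (alternatingGroup (Fin 6))) ≃* DihedralGroup 4) := by
  obtain ⟨h0, hx, hy, hd, cx, cy, cd, xx, xy, cxy, dxd⟩ := facts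
  have memC : ∀ (p : Equiv.Perm (Fin 6)) (hp : Equiv.Perm.sign p = 1), p * a0 = a0 * p →
      (⟨p, Equiv.Perm.mem_alternatingGroup.mpr hp⟩ : alternatingGroup (Fin 6)) ∈
        Subgroup.centralizer ({A0} : Set (alternatingGroup (Fin 6))) := by
    intro p hp hc
    rw [Subgroup.mem_centralizer_singleton_iff]
    exact Subtype.ext hc
  exact Cfsg.Agent.Lib.Helper45.D8.d4_of_card_eight card_cent_A0
    ⟨_, memC px hx cx⟩ ⟨_, memC py hy cy⟩ ⟨_, memC pd hd cd⟩
    (Subtype.ext (Subtype.ext xx)) (fun h => xy (congrArg (fun z => z.1.1) h))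
    (Subtype.ext (Subtype.ext cxy)) (Subtype.ext (Subtype.ext dxd))

theorem iso_of_involution (α : alternatingGroup (Fin 6)) (hα : orderOf α = 2) :
    Nonempty (Subgroup.centralizer ({α} : Set (alternatingGroup (Fin 6))) ≃* DihedralGroup 4) := by
  have h1 : α.1 * α.1 = 1 := by
    have : α * α = 1 := by rw [← sq, ← hα, pow_orderOf_eq_one]
    exact congrArg Subtype.val this
  have h2 : α.1 ≠ 1 := by
    intro h
    have : α = 1 := Subtype.ext h
    rw [this, orderOf_one] at hα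
    exact absurd hα (by norm_num)
  obtain ⟨g, hg, hga⟩ := conj_a0 α.1 (Equiv.Perm.mem_alternatingGroup.mp α.2) h1 h2
  have hconj : (⟨g, Equiv.Perm.mem_alternatingGroup.mpr hg⟩ : alternatingGroup (Fin 6)) * α *
      (⟨g, Equiv.Perm.mem_alternatingGroup.mpr hg⟩ : alternatingGroup (Fin 6))⁻¹ = A0 :=
    Subtype.ext hga
  obtain ⟨e₀⟩ := iso_A0
  have e₁ := centConj (⟨g, Equiv.Perm.mem_alternatingGroup.mpr hg⟩ : alternatingGroup (Fin 6)) α
  rw [hconj] at e₁
  exact ⟨e₁.trans e₀⟩

end Cfsg.Agent.Lib.Helper14.A6Cent
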