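import Mathlib
import Cfsg.Agent.Lib.Helper64.AutStmt
import Cfsg.Agent.Lib.Helper14.AutGC
import Cfsg.Agent.S3744
import Cfsg.Agent.Lib.CT.HtPS1

set_option autoImplicit false

/-! Piece HALLABS of the S4411 call: a Sylow `p`-subgroup of a `p`-solvable group lies in a
`{p,q}`-subgroup of index prime to `q`. -/

namespace Cfsg.Agent.Lib.Helper14.AutHALLABS

open Cfsg Cfsg.Agent.Lib.Helper64.AutStmt

universe u

/-- a Hall `{p,q}`-subgroup exists. -/
def HallPQ (p q : ℕ) (N : Type u) [Group N] : Prop :=
  ∃ Y : Subgroup N, (∀ r : ℕ, r.Prime → r ∣ Nat.card Y → r = p ∨ r = q) ∧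
    ¬ p ∣ Y.index ∧ ¬ q ∣ Y.index

variable {N : Type u} [Group N]

theorem hallPQ_of_subgroup {p q : ℕ} (hp : p.Prime) (hq : q.Prime) (L : Subgroup N)
    (h : HallPQ p q ↥L) (hpL : ¬ p ∣ L.index) (hqL : ¬ q ∣ L.index) : HallPQ p q N := by
  obtain ⟨Y, hY, hYp, hYq⟩ := h
  refine ⟨Y.map L.subtype, ?_, ?_, ?_⟩
  · intro r hr hrd
    apply hY r hr
    rw [Nat.card_congr (Subgroup.equivMapOfInjective Y _ L.subtype_injective).toEquiv.symm] at hrd
    exact hrd
  · rw [Subgroup.index_map_subtype]
    intro hd
    rcases (Nat.Prime.dvd_mul hp).1 hd with h | h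
    · exact hYp h
    · exact hpL h
  · rw [Subgroup.index_map_subtype]
    intro hd
    rcases (Nat.Prime.dvd_mul hq).1 hd with h | h
    · exact hYq h
    · exact hqL h

theorem hallPQ_of_quotient [Finite N] {p q : ℕ} (M : Subgroup N) [M.Normal]
    (hM : ∀ r : ℕ, r.Prime → r ∣ Nat.card M → r = p ∨ r = q) (h : HallPQ p q (N ⧸ M)) :
    HallPQ p q N := by
  obtain ⟨Y, hY, hYp, hYq⟩ := h
  refine ⟨Y.comap (QuotientGroup.mk' M), ?_, ?_, ?_⟩
  · intro r hr hrd
    rw [Cfsg.Agent.Lib.Helper91.Hall.card_comap_mk] at hrd
    rcases (Nat.Prime.dvd_mul hr).1 hrd with h | h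
    · exact hY r hr h
    · exact hM r hr h
  · rw [Subgroup.index_comap_of_surjective _ (QuotientGroup.mk'_surjective M)]
    exact hYp
  · rw [Subgroup.index_comap_of_surjective _ (QuotientGroup.mk'_surjective M)]
    exact hYq

theorem hallPQ_of_sz [Finite N] {p q : ℕ} (M : Subgroup N) [M.Normal]
    (hMp : ¬ p ∣ Nat.card M) (hMq : ¬ q ∣ Nat.card M)
    (hidx : ∀ r : ℕ, r.Prime → r ∣ M.index → r = p ∨ r = q) : HallPQ p q N := by
  have hcop : Nat.Coprime (Nat.card M) M.index := by
    apply Nat.coprime_of_dvd
    intro k hk hkM hkI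
    rcases hidx k hk hkI with rfl | rfl
    · exact hMp hkM
    · exact hMq hkM
  obtain ⟨Y, hY⟩ := Subgroup.exists_right_complement'_of_coprime hcop
  have hYc : Nat.card Y = M.index := hY.symm.index_eq_card.symm
  have hYi : Y.index = Nat.card M := hY.index_eq_card
  refine ⟨Y, ?_, ?_, ?_⟩
  · intro r hr hrd
    rw [hYc] at hrd
    exact hidx r hr hrd
  · rw [hYi]; exact hMp
  · rw [hYi]; exact hMq

theorem hallPQ_aux (p q : ℕ) [hpF : Fact p.Prime] [hqF : Fact q.Prime] (k : ℕ) :
    ∀ (N : Type u) [Group N] [Finite N], IsPSolvable p N → Nat.card N ≤ k → HallPQ p q N := by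
  have hp : p.Prime := hpF.out
  have hq : q.Prime := hqF.out
  induction k with
  | zero =>
    intro N _ _ _ hk
    have := Nat.card_pos (α := N)
    omega
  | succ k ih =>
    intro N _ _ hps hk
    rcases subsingleton_or_nontrivial N with hsub | hnt
    · refine ⟨⊤, ?_, ?_, ?_⟩
      · intro r hr hrd
        have hc1 : Nat.card (⊤ : Subgroup N) = 1 := by
          rw [Subgroup.card_top]
          exact Nat.card_eq_one_iff_unique.mpr ⟨hsub, ⟨1⟩⟩
        rw [hc1] at hrd
        exact absurd (Nat.dvd_one.1 hrd) hr.one_lt.ne'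
      · rw [Subgroup.index_top]; exact hp.not_dvd_one
      · rw [Subgroup.index_top]; exact hq.not_dvd_one
    obtain ⟨M, hMn, hMne, hMcase⟩ := Cfsg.Agent.S3744.exists_normal_of_psolv p hps
    have := hMn
    -- quotients by nontrivial normal subgroups are smaller
    have hquot : ∀ (K : Subgroup N) [K.Normal], K ≠ ⊥ → HallPQ p q (N ⧸ K) := by
      intro K _ hK
      apply ih (N ⧸ K) (Cfsg.Agent.Lib.Helper76.PSolv.isPSolvable_quotient p K hps)
      have h1 : Nat.card N = Nat.card (N ⧸ K) * Nat.card K :=
        Subgroup.card_eq_card_quotient_mul_card_subgroup K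
      have h2 : 2 ≤ Nat.card K := by
        rcases Nat.lt_or_ge (Nat.card K) 2 with h | h
        · exfalso
          apply hK
          have h3 : Nat.card K = 1 := by
            have := Nat.card_pos (α := K)
            omega
          exact Subgroup.card_eq_one.1 h3
        · exact h
      have h3 : 0 < Nat.card (N ⧸ K) := Nat.card_pos
      have h4 : Nat.card (N ⧸ K) * 2 ≤ Nat.card (N ⧸ K) * Nat.card K :=
        Nat.mul_le_mul_left _ h2
      omega
    -- proper subgroups are smaller
    have hsubg : ∀ L : Subgroup N, L ≠ ⊤ → HallPQ p q ↥L := by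
      intro L hL
      apply ih ↥L (Cfsg.Agent.Lib.CT.HtPS1.isPSolvable_subgroup p L hps)
      have := Cfsg.Agent.Lib.Helper91.Hall.card_lt_of_ne_top L hL
      omega
    rcases hMcase with ⟨j, hj⟩ | hcop
    · -- M is a p-group
      apply hallPQ_of_quotient M _ (hquot M hMne)
      intro r hr hrd
      rw [hj] at hrd
      exact Or.inl ((Nat.prime_dvd_prime_iff_eq hr hp).1 (hr.dvd_of_dvd_pow hrd))
    · -- M is a p'-group
      have hMp : ¬ p ∣ Nat.card M := by
        intro h
        have := Nat.Coprime.eq_one_of_dvd hcop.symm h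
        exact hp.one_lt.ne' this
      let Q₀ : Sylow q ↥M := default
      set Q : Subgroup N := (Q₀ : Subgroup ↥M).map M.subtype with hQdef
      have hQc : Nat.card Q = q ^ (Nat.card M).factorization q := by
        rw [← Sylow.card_eq_multiplicity Q₀]
        exact (Nat.card_congr
          (Subgroup.equivMapOfInjective _ _ M.subtype_injective).toEquiv).symm
      have hQM : Q ≤ M := by
        rintro _ ⟨c, -, rfl⟩
        exact c.2
      set L : Subgroup N := Subgroup.normalizer (Q : Set N) with hLdef
      have hF : L ⊔ M = ⊤ := Sylow.normalizer_sup_eq_top Q₀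
      by_cases hL : L = ⊤
      · have hQn : Q.Normal := Subgroup.normalizer_eq_top_iff.1 hL
        by_cases hQ : Q = ⊥
        · have hMq : ¬ q ∣ Nat.card M := by
            intro h
            have h1 : Nat.card Q = 1 := by rw [hQ]; exact Subgroup.card_bot
            rw [hQc] at h1
            have h2 : 0 < (Nat.card M).factorization q :=
              hq.factorization_pos_of_dvd Nat.card_pos.ne' h
            have h3 : 1 < q ^ (Nat.card M).factorization q :=
              Nat.one_lt_pow h2.ne' hq.one_lt
            omega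
          obtain ⟨Kb, hKb, hKbp, hKbq⟩ := hquot M hMne
          by_cases hK : Kb.comap (QuotientGroup.mk' M) = ⊤
          · apply hallPQ_of_sz M hMp hMq
            have h1 : Kb.index = 1 := by
              rw [← Subgroup.index_comap_of_surjective Kb (QuotientGroup.mk'_surjective M), hK,
                Subgroup.index_top]
            have h2 := Subgroup.card_mul_index Kb
            rw [h1, mul_one] at h2
            intro r hr hrd
            apply hKb r hr
            rw [h2, ← Subgroup.index_eq_card]
            exact hrd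
          · apply hallPQ_of_subgroup hp hq _ (hsubg _ hK)
            · rw [Subgroup.index_comap_of_surjective _ (QuotientGroup.mk'_surjective M)]
              exact hKbp
            · rw [Subgroup.index_comap_of_surjective _ (QuotientGroup.mk'_surjective M)]
              exact hKbq
        · apply hallPQ_of_quotient Q _ (hquot Q hQ)
          intro r hr hrd
          rw [hQc] at hrd
          exact Or.inr ((Nat.prime_dvd_prime_iff_eq hr hq).1 (hr.dvd_of_dvd_pow hrd))
      · -- induction in L
        have h1 : M.index = M.relIndex L := by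
          have := Subgroup.relIndex_sup_right L M
          rw [hF, Subgroup.relIndex_top_right] at this
          exact this
        have h2 := Subgroup.card_mul_index M
        have h3 := Subgroup.card_mul_index L
        have h4 : Nat.card ↥(M ⊓ L) * M.relIndex L = Nat.card L := by
          have := Subgroup.relIndex_mul_relIndex (⊥ : Subgroup N) (M ⊓ L) L bot_le inf_le_right
          rw [Subgroup.relIndex_bot_left, Subgroup.relIndex_bot_left,
            Subgroup.inf_relIndex_right] at this
          exact this
        have h5 : 0 < M.relIndex L := by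
          rw [← h1]
          exact Nat.pos_of_ne_zero Subgroup.index_ne_zero_of_finite
        have h6 : Nat.card ↥(M ⊓ L) * L.index = Nat.card M := by
          have : (Nat.card ↥(M ⊓ L) * L.index) * M.relIndex L = Nat.card M * M.relIndex L := by
            calc (Nat.card ↥(M ⊓ L) * L.index) * M.relIndex L
                = (Nat.card ↥(M ⊓ L) * M.relIndex L) * L.index := by ring
              _ = Nat.card N := by rw [h4, h3]
              _ = Nat.card M * M.relIndex L := by rw [← h1, h2]
          exact Nat.eq_of_mul_eq_mul_right h5 this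
        have hQL : Q ≤ M ⊓ L := le_inf hQM Subgroup.le_normalizer
        apply hallPQ_of_subgroup hp hq L (hsubg L hL)
        · intro h
          exact hMp (h.trans (Dvd.intro_left _ h6))
        · intro h
          have h7 : Nat.card Q ∣ Nat.card ↥(M ⊓ L) := Subgroup.card_dvd_of_le hQL
          have h8 : q ^ ((Nat.card M).factorization q + 1) ∣ Nat.card M := by
            rw [pow_succ, ← hQc, ← h6]
            exact Nat.mul_dvd_mul h7 h
          exact Nat.pow_succ_factorization_not_dvd Nat.card_pos.ne' hq h8

theorem main : HallAbs.{u} := by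
  intro p q hpF hqF hpq N _ _ hps P
  have hp : p.Prime := hpF.out
  obtain ⟨Y₀, hY₀, hY₀p, hY₀q⟩ := hallPQ_aux p q (Nat.card N) N hps le_rfl
  let S₀ : Sylow p ↥Y₀ := default
  set S : Subgroup N := (S₀ : Subgroup ↥Y₀).map Y₀.subtype with hSdef
  have hSY : S ≤ Y₀ := by
    rintro _ ⟨c, -, rfl⟩
    exact c.2
  have hfac : (Nat.card Y₀).factorization p = (Nat.card N).factorization p := by
    have h1 := Subgroup.card_mul_index Y₀
    have h2 : (Nat.card Y₀ * Y₀.index).factorization p
        = (Nat.card Y₀).factorization p + (Y₀.index).factorization p := by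
      rw [Nat.factorization_mul Nat.card_pos.ne' Subgroup.index_ne_zero_of_finite]
      rfl
    rw [h1] at h2
    rw [h2, Nat.factorization_eq_zero_of_not_dvd hY₀p, add_zero]
  have hSc : Nat.card S = p ^ (Nat.card (⊤ : Subgroup N)).factorization p := by
    rw [Subgroup.card_top, ← hfac, ← Sylow.card_eq_multiplicity S₀]
    exact (Nat.card_congr
      (Subgroup.equivMapOfInjective _ _ Y₀.subtype_injective).toEquiv).symm
  obtain ⟨x, -, hx⟩ := Cfsg.Agent.Lib.Helper14.AutGC.relSylConj p (⊤ : Subgroup N) S
    (P : Subgroup N) le_top hSc le_top P.2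
  refine ⟨Y₀.map (MulAut.conj x⁻¹ : N ≃* N).toMonoidHom, ?_, ?_, ?_⟩
  · intro g hg
    refine ⟨x * g * x⁻¹, hSY (hx g hg), ?_⟩
    show (MulAut.conj x⁻¹) (x * g * x⁻¹) = g
    rw [MulAut.conj_apply]
    group
  · intro r hr hrd
    apply hY₀ r hr
    rw [Nat.card_congr (Subgroup.equivMapOfInjective Y₀ (MulAut.conj x⁻¹ : N ≃* N).toMonoidHom
      (MulAut.conj x⁻¹ : N ≃* N).injective).toEquiv.symm] at hrd
    exact hrd
  · have := Subgroup.index_map_equiv Y₀ (MulAut.conj x⁻¹ : N ≃* N)
    intro h
    apply hY₀q
    rw [← this]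
    exact h

end Cfsg.Agent.Lib.Helper14.AutHALLABS
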