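import Mathlib

/-!
# Counting conjugates of a prime-order element in the normalizer of a Sylow subgroup of prime order

Piece G1 of helper11's plan for S0983 (board post 1426): `c2_count`.
-/

set_option autoImplicit false

namespace Cfsg.Agent.Lib.Helper14.C2Count

open Subgroup MulAction

variable {G : Type*} [Group G] [Finite G]

omit [Finite G] in
/-- a subgroup of prime order is commutative -/
lemma comm_of_card_prime {p : ℕ} [Fact p.Prime] (P : Subgroup G) (hP : Nat.card P = p) :
    ∀ x ∈ P, ∀ y ∈ P, x * y = y * x := by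
  have hcyc : IsCyclic P := isCyclic_of_prime_card hP
  intro x hx y hy
  obtain ⟨g, hg⟩ := IsCyclic.exists_generator (α := P)
  obtain ⟨a, ha⟩ := Subgroup.mem_zpowers_iff.1 (hg ⟨x, hx⟩)
  obtain ⟨b, hb⟩ := Subgroup.mem_zpowers_iff.1 (hg ⟨y, hy⟩)
  have h : (⟨x, hx⟩ : P) * ⟨y, hy⟩ = ⟨y, hy⟩ * ⟨x, hx⟩ := by
    rw [← ha, ← hb, ← zpow_add, ← zpow_add, add_comm]
  exact congrArg Subtype.val h

omit [Finite G] in
lemma le_centralizer_of_card_prime {p : ℕ} [Fact p.Prime] (P : Subgroup G) (hP : Nat.card P = p) :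
    P ≤ centralizer (P : Set G) := by
  intro x hx
  rw [mem_centralizer_iff]
  intro y hy
  exact comm_of_card_prime P hP y hy x hx

/-- the cosets `s P` for `s` running over `1` and a set `K₀` of `q`-elements of `C(P)` are
distinct -/
lemma coset_bound {p q : ℕ} [Fact p.Prime] [Fact q.Prime] (hqp : q ≠ p) (P : Subgroup G)
    (hP : Nat.card P = p) (K₀ : Set G) (hK₀C : ∀ s ∈ K₀, s ∈ centralizer (P : Set G))
    (hK₀q : ∀ s ∈ K₀, s ^ q = 1) (h1 : (1 : G) ∉ K₀) :
    (K₀.ncard + 1) * p ≤ Nat.card (centralizer (P : Set G)) := by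
  classical
  have hPC : P ≤ centralizer (P : Set G) := le_centralizer_of_card_prime P hP
  have hT : (insert 1 K₀ : Set G).ncard = K₀.ncard + 1 :=
    Set.ncard_insert_of_notMem h1 (Set.toFinite _)
  have hTC : ∀ s ∈ (insert 1 K₀ : Set G), s ∈ centralizer (P : Set G) := by
    rintro s (rfl | hs)
    · exact one_mem _
    · exact hK₀C s hs
  have hTq : ∀ s ∈ (insert 1 K₀ : Set G), s ^ q = 1 := by
    rintro s (rfl | hs)
    · exact one_pow q
    · exact hK₀q s hs
  have hinj : Set.InjOn (fun x : G × G => x.1 * x.2) ((insert 1 K₀ : Set G) ×ˢ (P : Set G)) := by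
    rintro ⟨s, x⟩ ⟨hs, hx⟩ ⟨s', x'⟩ ⟨hs', hx'⟩ h
    have h' : s * x = s' * x' := h
    have hy : x * x'⁻¹ ∈ P := P.mul_mem hx (P.inv_mem hx')
    have hs'eq : s' = s * (x * x'⁻¹) := by rw [← mul_assoc, h']; group
    have hcomm : Commute s (x * x'⁻¹) := ((mem_centralizer_iff.1 (hTC s hs)) _ hy).symm
    have hyq : (x * x'⁻¹) ^ q = 1 := by
      have h2 := hTq s' hs'
      rw [hs'eq, hcomm.mul_pow, hTq s hs, one_mul] at h2
      exact h2
    have hyp : (x * x'⁻¹) ^ p = 1 := by
      have h2 : (⟨x * x'⁻¹, hy⟩ : P) ^ Nat.card P = 1 := pow_card_eq_one'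
      rw [hP] at h2
      exact congrArg Subtype.val h2
    have hy1 : x * x'⁻¹ = 1 := by
      have d1 := orderOf_dvd_of_pow_eq_one hyq
      have d2 := orderOf_dvd_of_pow_eq_one hyp
      have hcop : Nat.Coprime q p :=
        (Nat.coprime_primes (Fact.out : q.Prime) (Fact.out : p.Prime)).2 hqp
      have d3 : orderOf (x * x'⁻¹) ∣ 1 := by
        have d4 := Nat.dvd_gcd d1 d2
        rwa [hcop.gcd_eq_one] at d4
      exact orderOf_eq_one_iff.1 (Nat.dvd_one.1 d3)
    have hxx : x = x' := mul_inv_eq_one.1 hy1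
    have hss : s = s' := by rw [hs'eq, hy1, mul_one]
    rw [hss, hxx]
  have hmaps : ∀ x ∈ ((insert 1 K₀ : Set G) ×ˢ (P : Set G)),
      (fun x : G × G => x.1 * x.2) x ∈ ((centralizer (P : Set G) : Subgroup G) : Set G) := by
    rintro ⟨s, x⟩ ⟨hs, hx⟩
    exact mul_mem (hTC s hs) (hPC hx)
  have hle := Set.ncard_le_ncard_of_injOn _ hmaps hinj (Set.toFinite _)
  rw [Set.ncard_prod, hT] at hle
  have e1 : ((P : Set G)).ncard = p := by
    rw [← hP]; exact (Nat.card_coe_set_eq (P : Set G)).symm
  have e2 : (((centralizer (P : Set G) : Subgroup G) : Set G)).ncard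
      = Nat.card (centralizer (P : Set G)) :=
    (Nat.card_coe_set_eq _).symm
  rw [e1, e2] at hle
  exact hle

omit [Finite G] in
/-- the centralizer is normal in the normalizer -/
lemma centralizer_normal_in_normalizer (P : Subgroup G) :
    ((centralizer (P : Set G)).subgroupOf (normalizer (P : Set G))).Normal := by
  refine ⟨fun c hc n => ?_⟩
  rw [mem_subgroupOf] at hc ⊢
  rw [mem_centralizer_iff] at hc ⊢
  intro y hy
  have hn := n.2
  have hy' : (n : G)⁻¹ * y * (n : G) ∈ P := by
    have h1 := (mem_normalizer_iff.1 hn ((n : G)⁻¹ * y * (n : G)))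
    apply h1.2
    have h2 : (n : G) * ((n : G)⁻¹ * y * (n : G)) * (n : G)⁻¹ = y := by group
    rw [h2]; exact hy
  have h3 := hc _ hy'
  show y * ((n : G) * (c : G) * (n : G)⁻¹) = (n : G) * (c : G) * (n : G)⁻¹ * y
  calc y * ((n : G) * (c : G) * (n : G)⁻¹)
      = (n : G) * (((n : G)⁻¹ * y * (n : G)) * (c : G)) * (n : G)⁻¹ := by group
    _ = (n : G) * ((c : G) * ((n : G)⁻¹ * y * (n : G))) * (n : G)⁻¹ := by rw [h3]
    _ = (n : G) * (c : G) * (n : G)⁻¹ * y := by group

omit [Finite G] in
/-- a `q`-element of `N(P)` lies in `C(P)` if `q ∤ |N(P) : C(P)|` -/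
lemma mem_centralizer_of_not_dvd {q : ℕ} [Fact q.Prime] (P : Subgroup G)
    (hq : ¬ q ∣ (centralizer (P : Set G)).relIndex (normalizer (P : Set G))) (s : G)
    (hsN : s ∈ normalizer (P : Set G)) (hsq : s ^ q = 1) : s ∈ centralizer (P : Set G) := by
  have hqp : q.Prime := Fact.out
  have hnorm := centralizer_normal_in_normalizer P
  have h1 : (⟨s, hsN⟩ : normalizer (P : Set G)) ^
      ((centralizer (P : Set G)).subgroupOf (normalizer (P : Set G))).index
      ∈ (centralizer (P : Set G)).subgroupOf (normalizer (P : Set G)) :=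
    Subgroup.pow_index_mem _ _
  have h2 : s ^ (centralizer (P : Set G)).relIndex (normalizer (P : Set G))
      ∈ centralizer (P : Set G) := by
    rw [mem_subgroupOf] at h1
    exact h1
  have hcop : Nat.Coprime ((centralizer (P : Set G)).relIndex (normalizer (P : Set G))) q :=
    (hqp.coprime_iff_not_dvd.2 hq).symm
  obtain ⟨m, -, hm⟩ := Nat.exists_mul_mod_eq_one_of_coprime hcop hqp.one_lt
  have h3 : s ^ ((centralizer (P : Set G)).relIndex (normalizer (P : Set G)) * m) = s := by
    have h4 : s ^ ((centralizer (P : Set G)).relIndex (normalizer (P : Set G)) * m)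
        = s ^ ((centralizer (P : Set G)).relIndex (normalizer (P : Set G)) * m % q) := by
      conv_lhs => rw [← Nat.mod_add_div
        ((centralizer (P : Set G)).relIndex (normalizer (P : Set G)) * m) q, pow_add, pow_mul,
        hsq, one_pow, mul_one]
    rw [h4, hm, pow_one]
  rw [← h3, pow_mul]
  exact (centralizer (P : Set G)).pow_mem h2 m

omit [Finite G] in
/-- an involution of `N(P) ∖ C(P)` inverts `P` -/
lemma inverts_of_involution {p : ℕ} [Fact p.Prime] (P : Subgroup G) (hP : Nat.card P = p)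
    (x : G) (hxN : x ∈ normalizer (P : Set G)) (hx2 : x * x = 1)
    (hxC : x ∉ centralizer (P : Set G)) : ∀ y ∈ P, x * y * x⁻¹ = y⁻¹ := by
  intro y hy
  have hconj : ∀ y' ∈ P, x * y' * x⁻¹ ∈ P := fun y' hy' => (mem_normalizer_iff.1 hxN y').1 hy'
  have hxinv : x⁻¹ = x := inv_eq_of_mul_eq_one_left hx2
  by_contra hne
  apply hxC
  -- `w = y * (x y x⁻¹) ≠ 1` is centralized by `x` and generates `P`
  have hwP : y * (x * y * x⁻¹) ∈ P := P.mul_mem hy (hconj y hy)
  have hw1 : y * (x * y * x⁻¹) ≠ 1 := by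
    intro h
    apply hne
    exact (eq_inv_of_mul_eq_one_right h)
  have hwx : x * (y * (x * y * x⁻¹)) = (y * (x * y * x⁻¹)) * x := by
    have hc := comm_of_card_prime P hP y hy (x * y * x⁻¹) (hconj y hy)
    calc x * (y * (x * y * x⁻¹)) = (x * y * x⁻¹) * ((x * x) * y * (x⁻¹ * x⁻¹)) * x := by group
      _ = (x * y * x⁻¹) * y * x := by rw [hxinv, hx2]; group
      _ = (y * (x * y * x⁻¹)) * x := by rw [hc]
  have htop : zpowers (⟨y * (x * y * x⁻¹), hwP⟩ : P) = ⊤ :=
    zpowers_eq_top_of_prime_card hP (fun h => hw1 (congrArg Subtype.val h))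
  rw [mem_centralizer_iff]
  intro y' hy'
  have hmem : (⟨y', hy'⟩ : P) ∈ zpowers (⟨y * (x * y * x⁻¹), hwP⟩ : P) := by
    rw [htop]; exact mem_top _
  obtain ⟨i, hi⟩ := mem_zpowers_iff.1 hmem
  have hi' : (y * (x * y * x⁻¹)) ^ i = y' := by
    have := congrArg Subtype.val hi
    simpa using this
  rw [← hi']
  exact ((Commute.zpow_right (show Commute x (y * (x * y * x⁻¹)) from hwx) i).eq).symm

theorem c2_count {G : Type*} [Group G] [Finite G] {p : ℕ} [Fact p.Prime] (P : Sylow p G)
    (hP : Nat.card (P : Subgroup G) = p) (q : ℕ) [Fact q.Prime] (hqp : q ≠ p) (u : G)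
    (hu : orderOf u = q) (huC : u ∈ centralizer ((P : Subgroup G) : Set G)) :
    1 ≤ {s : G | s ∈ normalizer ((P : Subgroup G) : Set G) ∧ ∃ g : G, g * u * g⁻¹ = s}.ncard ∧
    (¬ q ∣ (centralizer ((P : Subgroup G) : Set G)).relIndex (normalizer ((P : Subgroup G) : Set G)) →
      ({s : G | s ∈ normalizer ((P : Subgroup G) : Set G) ∧ ∃ g : G, g * u * g⁻¹ = s}.ncard + 1) * p ≤ Nat.card (centralizer ((P : Subgroup G) : Set G)) ∧
      (¬ q ^ 2 ∣ Nat.card (centralizer ((P : Subgroup G) : Set G)) → ∃ s : ℕ, s ∣ Nat.card (centralizer ((P : Subgroup G) : Set G)) / (p * q) ∧ s % q = 1 ∧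
          {s : G | s ∈ normalizer ((P : Subgroup G) : Set G) ∧ ∃ g : G, g * u * g⁻¹ = s}.ncard ≤ s * (q - 1))) ∧
    (q = 2 → {s : G | s ∈ normalizer ((P : Subgroup G) : Set G) ∧ ∃ g : G, g * u * g⁻¹ = s}.ncard + 1 ≤ Nat.card (centralizer ((P : Subgroup G) : Set G)) / p + Nat.card (centralizer ((P : Subgroup G) : Set G))) := by
  classical
  have hpp : p.Prime := Fact.out
  have hqq : q.Prime := Fact.out
  set N : Subgroup G := normalizer ((P : Subgroup G) : Set G) with hN
  set C : Subgroup G := centralizer ((P : Subgroup G) : Set G) with hC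
  set K : Set G := {s : G | s ∈ N ∧ ∃ g : G, g * u * g⁻¹ = s} with hK
  have hCN : C ≤ N := Subgroup.centralizer_le_normalizer _
  have hu1 : u ≠ 1 := by
    intro h
    rw [h, orderOf_one] at hu
    exact hqq.one_lt.ne hu
  have huq : u ^ q = 1 := by rw [← hu]; exact pow_orderOf_eq_one u
  have hKq : ∀ s ∈ K, s ^ q = 1 := by
    rintro s ⟨-, g, rfl⟩
    rw [conj_pow, huq, mul_one, mul_inv_cancel]
  have hK1 : (1 : G) ∉ K := by
    rintro ⟨-, g, hg⟩
    apply hu1
    have : u = g⁻¹ * (g * u * g⁻¹) * g := by group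
    rw [this, hg]; group
  have huK : u ∈ K := ⟨hCN huC, 1, by group⟩
  refine ⟨?_, ?_, ?_⟩
  · -- `1 ≤ k`
    have hne : K.Nonempty := ⟨u, huK⟩
    exact Nat.one_le_iff_ne_zero.2 (fun h => hne.ne_empty ((Set.ncard_eq_zero (Set.toFinite K)).1 h))
  · intro hq
    have hKC : ∀ s ∈ K, s ∈ C := fun s hs =>
      mem_centralizer_of_not_dvd (P : Subgroup G) hq s hs.1 (hKq s hs)
    refine ⟨coset_bound hqp (P : Subgroup G) hP K hKC hKq hK1, ?_⟩
    intro hq2
    -- Sylow `q`-subgroups of `C`
    have hqC : q ∣ Nat.card C := by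
      have h1 : orderOf (⟨u, huC⟩ : C) = q := by
        rw [← hu]; exact Subgroup.orderOf_mk u huC
      rw [← h1]; exact orderOf_dvd_natCard _
    have hfact : (Nat.card C).factorization q = 1 := by
      have hC0 : Nat.card C ≠ 0 := Nat.card_pos.ne'
      have h1 : 1 ≤ (Nat.card C).factorization q :=
        (hqq.pow_dvd_iff_le_factorization hC0).1 (by rwa [pow_one])
      have h2 : ¬ 2 ≤ (Nat.card C).factorization q := fun h =>
        hq2 ((hqq.pow_dvd_iff_le_factorization hC0).2 h)
      omega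
    have hQcard : ∀ Q : Sylow q C, Nat.card (Q : Subgroup C) = q := by
      intro Q
      rw [Sylow.card_eq_multiplicity, hfact, pow_one]
    let _ : Fintype (Sylow q C) := Fintype.ofFinite _
    obtain ⟨Q₀⟩ : Nonempty (Sylow q C) := inferInstance
    refine ⟨Nat.card (Sylow q C), ?_, ?_, ?_⟩
    · -- divisibility
      have h1 : Nat.card (Sylow q C) = (normalizer ((Q₀ : Subgroup C) : Set C)).index :=
        Sylow.card_eq_index_normalizer Q₀
      have h2 := Subgroup.card_mul_index (normalizer ((Q₀ : Subgroup C) : Set C))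
      have hqd : q ∣ Nat.card (normalizer ((Q₀ : Subgroup C) : Set C)) := by
        have h3 := Subgroup.card_dvd_of_le
          (le_normalizer : (Q₀ : Subgroup C) ≤ normalizer ((Q₀ : Subgroup C) : Set C))
        rwa [hQcard Q₀] at h3
      have hpd : p ∣ Nat.card (normalizer ((Q₀ : Subgroup C) : Set C)) := by
        have hPC : (P : Subgroup G) ≤ C := le_centralizer_of_card_prime (P : Subgroup G) hP
        have h3 : Nat.card ((P : Subgroup G).subgroupOf C) = p :=
          (Nat.card_congr (Subgroup.subgroupOfEquivOfLe hPC).toEquiv).trans hP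
        have h3' : (P : Subgroup G).subgroupOf C ≤ normalizer ((Q₀ : Subgroup C) : Set C) := by
          intro x hx
          rw [mem_subgroupOf] at hx
          rw [mem_normalizer_iff]
          intro c
          have hxc : x * c * x⁻¹ = c := by
            apply Subtype.ext
            have h4 := (mem_centralizer_iff.1 c.2) (x : G) hx
            show (x : G) * (c : G) * (x : G)⁻¹ = (c : G)
            rw [h4]; group
          rw [hxc]
        have h3'' := Subgroup.card_dvd_of_le h3'
        rwa [h3] at h3''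
      have hcop : Nat.Coprime p q := (Nat.coprime_primes hpp hqq).2 (Ne.symm hqp)
      obtain ⟨m, hm⟩ := hcop.mul_dvd_of_dvd_of_dvd hpd hqd
      rw [hm, ← h1] at h2
      have h5 : Nat.card C / (p * q) = m * Nat.card (Sylow q C) := by
        rw [← h2, mul_assoc]
        exact Nat.mul_div_cancel_left _ (Nat.mul_pos hpp.pos hqq.pos)
      rw [h5]
      exact dvd_mul_left _ _
    · have h1 : Nat.card (Sylow q C) ≡ 1 [MOD q] := card_sylow_modEq_one q C
      have h2 : 1 % q = 1 := Nat.mod_eq_of_lt hqq.one_lt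
      rw [← h2]; exact h1
    · -- `k ≤ n_q (q - 1)`
      have hKim : K = Subtype.val '' {c : C | (c : G) ∈ K} := by
        ext s
        constructor
        · intro hs
          exact ⟨⟨s, hKC s hs⟩, hs, rfl⟩
        · rintro ⟨c, hc, rfl⟩
          exact hc
      have hKn : K.ncard = ({c : C | (c : G) ∈ K} : Set C).ncard := by
        conv_lhs => rw [hKim]
        exact Set.ncard_image_of_injective _ Subtype.val_injective
      have hsub : ({c : C | (c : G) ∈ K} : Set C) ⊆
          ⋃ Q ∈ (Finset.univ : Finset (Sylow q C)), (((Q : Subgroup C) : Set C) \ {1}) := by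
        intro c hc
        have hcq : c ^ q = 1 := by
          apply Subtype.ext
          have := hKq _ hc
          simpa using this
        have hc1 : c ≠ 1 := by
          intro h
          apply hK1
          have : (c : G) = 1 := by rw [h]; rfl
          rw [← this]; exact hc
        have ho : orderOf c = q := orderOf_eq_prime hcq hc1
        have hpg : IsPGroup q (zpowers c) := by
          apply IsPGroup.of_card (n := 1)
          rw [Nat.card_zpowers, ho, pow_one]
        obtain ⟨Q, hQ⟩ := hpg.exists_le_sylow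
        simp only [Set.mem_iUnion, Finset.mem_univ, exists_true_left, Set.mem_sdiff,
          Set.mem_singleton_iff]
        exact ⟨Q, hQ (mem_zpowers c), hc1⟩
      have hle1 := Set.ncard_le_ncard hsub (Set.toFinite _)
      have hle2 := Finset.set_ncard_biUnion_le (Finset.univ : Finset (Sylow q C))
        (fun Q => (((Q : Subgroup C) : Set C) \ {1}))
      have hterm : ∀ Q : Sylow q C, ((((Q : Subgroup C) : Set C) \ {1})).ncard = q - 1 := by
        intro Q
        rw [Set.ncard_sdiff_singleton_of_mem (one_mem (Q : Subgroup C))]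
        have : (((Q : Subgroup C) : Set C)).ncard = q :=
          (Nat.card_coe_set_eq _).symm.trans (hQcard Q)
        rw [this]
      have hsum : ∑ Q ∈ (Finset.univ : Finset (Sylow q C)),
          ((((Q : Subgroup C) : Set C) \ {1})).ncard = Nat.card (Sylow q C) * (q - 1) := by
        rw [Finset.sum_congr rfl (fun Q _ => hterm Q), Finset.sum_const, Finset.card_univ,
          smul_eq_mul, Nat.card_eq_fintype_card]
      rw [hKn]
      calc ({c : C | (c : G) ∈ K} : Set C).ncard
          ≤ (⋃ Q ∈ (Finset.univ : Finset (Sylow q C)), (((Q : Subgroup C) : Set C) \ {1})).ncard :=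
            hle1
        _ ≤ ∑ Q ∈ (Finset.univ : Finset (Sylow q C)), ((((Q : Subgroup C) : Set C) \ {1})).ncard :=
            hle2
        _ = Nat.card (Sylow q C) * (q - 1) := hsum
  · intro hq2
    subst hq2
    -- split `K` along `C`
    have hsplit : K = (K ∩ (C : Set G)) ∪ (K \ (C : Set G)) := (Set.inter_union_sdiff K _).symm
    have h1 : ((K ∩ (C : Set G)).ncard + 1) * p ≤ Nat.card C :=
      coset_bound hqp (P : Subgroup G) hP (K ∩ (C : Set G)) (fun s hs => hs.2)
        (fun s hs => hKq s hs.1) (fun h => hK1 h.1)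
    have h1' : (K ∩ (C : Set G)).ncard + 1 ≤ Nat.card C / p :=
      (Nat.le_div_iff_mul_le hpp.pos).2 h1
    have h2 : (K \ (C : Set G)).ncard ≤ Nat.card C := by
      by_cases hemp : (K \ (C : Set G)) = ∅
      · rw [hemp, Set.ncard_empty]; exact Nat.zero_le _
      · obtain ⟨x₀, hx₀K, hx₀C⟩ := Set.nonempty_iff_ne_empty.2 hemp
        have hinv : ∀ s ∈ K \ (C : Set G), ∀ y ∈ (P : Subgroup G), s * y * s⁻¹ = y⁻¹ := by
          rintro s ⟨hsK, hsC⟩
          have hs2 : s * s = 1 := by rw [← pow_two]; exact hKq s hsK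
          exact inverts_of_involution (P : Subgroup G) hP s hsK.1 hs2 hsC
        have hmaps : ∀ s ∈ K \ (C : Set G), (fun s => x₀⁻¹ * s) s ∈ (C : Set G) := by
          intro s hs
          show x₀⁻¹ * s ∈ C
          rw [hC, mem_centralizer_iff]
          intro y hy
          have e1 := hinv s hs y hy
          have e2 := hinv x₀ ⟨hx₀K, hx₀C⟩ y hy
          -- s y = y⁻¹ s ; x₀ y = y⁻¹ x₀
          have e1' : s * y = y⁻¹ * s := by
            calc s * y = (s * y * s⁻¹) * s := by group
              _ = y⁻¹ * s := by rw [e1]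
          have e2' : x₀⁻¹ * y⁻¹ = y * x₀⁻¹ := by
            calc x₀⁻¹ * y⁻¹ = x₀⁻¹ * (x₀ * y * x₀⁻¹) := by rw [e2]
              _ = y * x₀⁻¹ := by group
          calc y * (x₀⁻¹ * s) = (y * x₀⁻¹) * s := by group
            _ = (x₀⁻¹ * y⁻¹) * s := by rw [e2']
            _ = x₀⁻¹ * (y⁻¹ * s) := by group
            _ = x₀⁻¹ * (s * y) := by rw [e1']
            _ = x₀⁻¹ * s * y := by group
        have hinj : Set.InjOn (fun s => x₀⁻¹ * s) (K \ (C : Set G)) :=
          fun a _ b _ h => mul_left_cancel h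
        have hle := Set.ncard_le_ncard_of_injOn _ hmaps hinj (Set.toFinite _)
        have e3 : ((C : Set G)).ncard = Nat.card C := (Nat.card_coe_set_eq _).symm
        rw [e3] at hle
        exact hle
    have h3 : K.ncard ≤ (K ∩ (C : Set G)).ncard + (K \ (C : Set G)).ncard := by
      conv_lhs => rw [hsplit]
      exact Set.ncard_union_le _ _
    omega

end Cfsg.Agent.Lib.Helper14.C2Count
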