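import Mathlib

set_option autoImplicit false

/-!
# Arithmetic for the dihedral centralizer problem
-/

namespace Cfsg.Agent.Lib.Helper14.D8Arith

theorem coreA (N g : ℕ) (hN : N % 16 = 8) (hg : 0 < g)
    (h : N * g ^ 2 = 256 * (g + 1) * (g + 2)) : N = 360 := by
  have h1 : 256 < N := by
    by_contra hle
    push Not at hle
    have : N * g ^ 2 ≤ 256 * g ^ 2 := Nat.mul_le_mul_right _ hle
    nlinarith
  have h2 : 264 ≤ N := by omega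
  have h3 : g ≤ 96 := by
    by_contra hgt
    push Not at hgt
    have : 264 * g ^ 2 ≤ N * g ^ 2 := Nat.mul_le_mul_right _ h2
    nlinarith
  interval_cases g <;> omega

theorem coreB (N g : ℕ) (hN : N % 16 = 8) (hg : 0 < g)
    (h : N * (g + 2) ^ 2 = 256 * g * (g + 1)) : N = 168 := by
  have h1 : N < 256 := by
    by_contra hle
    push Not at hle
    have : 256 * (g + 2) ^ 2 ≤ N * (g + 2) ^ 2 := Nat.mul_le_mul_right _ hle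
    nlinarith
  have h2 : N ≤ 248 := by omega
  have h3 : g ≤ 93 := by
    by_contra hgt
    push Not at hgt
    have : N * (g + 2) ^ 2 ≤ 248 * (g + 2) ^ 2 := Nat.mul_le_mul_right _ h2
    nlinarith
  interval_cases g <;> omega

theorem d_cases (c₁ c₂ d₁ d₂ : ℤ) (hc₁ : c₁ = 1 ∨ c₁ = -1) (hc₂ : c₂ = 1 ∨ c₂ = -1)
    (hcd : c₁ * d₁ + c₂ * d₂ = 1) (hdd : d₁ ^ 2 + d₂ ^ 2 ≤ 3) :
    (d₁ = 0 ∧ d₂ = c₂) ∨ (d₁ = c₁ ∧ d₂ = 0) := by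
  have b1 : -1 ≤ d₁ := by nlinarith [sq_nonneg d₁, sq_nonneg d₂]
  have b2 : d₁ ≤ 1 := by nlinarith [sq_nonneg d₁, sq_nonneg d₂]
  have b3 : -1 ≤ d₂ := by nlinarith [sq_nonneg d₁, sq_nonneg d₂]
  have b4 : d₂ ≤ 1 := by nlinarith [sq_nonneg d₁, sq_nonneg d₂]
  rcases hc₁ with rfl | rfl <;> rcases hc₂ with rfl | rfl <;> interval_cases d₁ <;>
    interval_cases d₂ <;> omega

theorem arith' (N f₁ f₂ : ℕ) (hN : N % 16 = 8) (hf₁ : 0 < f₁) (hf₂ : 0 < f₂) (c₁ c₂ : ℤ)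
    (hc₁ : c₁ = 1 ∨ c₁ = -1) (hc₂ : c₂ = 1 ∨ c₂ = -1)
    (hdeg : 1 + c₁ * f₁ + c₂ * f₂ = 0)
    (hcount : (N : ℂ) * (1 + c₁ / f₁ + 4 * c₂ / f₂) = 256) :
    N = 168 ∨ N = 360 := by
  rcases hc₁ with rfl | rfl <;> rcases hc₂ with rfl | rfl
  · exfalso; omega
  · right
    have hf : f₂ = f₁ + 1 := by omega
    subst hf
    obtain ⟨g, rfl⟩ : ∃ g, f₁ = g + 1 := ⟨f₁ - 1, by omega⟩
    have hne1 : (g : ℂ) + 1 ≠ 0 := by exact_mod_cast Nat.succ_ne_zero g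
    have hne2 : (g : ℂ) + 1 + 1 ≠ 0 := by exact_mod_cast Nat.succ_ne_zero (g + 1)
    have hcount' : (N : ℂ) * (1 + 1 / ((g : ℂ) + 1) - 4 / ((g : ℂ) + 1 + 1)) = 256 := by
      rw [← hcount]; push_cast; ring
    have key : (N : ℂ) * (g : ℂ) ^ 2 = 256 * ((g : ℂ) + 1) * ((g : ℂ) + 2) := by
      have : (N : ℂ) * (g : ℂ) ^ 2 =
          (N : ℂ) * (1 + 1 / ((g : ℂ) + 1) - 4 / ((g : ℂ) + 1 + 1)) *
            (((g : ℂ) + 1) * ((g : ℂ) + 1 + 1)) := by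
        field_simp
        ring
      rw [this, hcount']
      ring
    have keyN : N * g ^ 2 = 256 * (g + 1) * (g + 2) := by exact_mod_cast key
    have hg : 0 < g := by
      rcases Nat.eq_zero_or_pos g with h0 | h0
      · subst h0; omega
      · exact h0
    exact coreA N g hN hg keyN
  · left
    have hf : f₁ = f₂ + 1 := by omega
    subst hf
    have hne1 : (f₂ : ℂ) ≠ 0 := by exact_mod_cast hf₂.ne'
    have hne2 : (f₂ : ℂ) + 1 ≠ 0 := by exact_mod_cast Nat.succ_ne_zero f₂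
    have hcount' : (N : ℂ) * (1 - 1 / ((f₂ : ℂ) + 1) + 4 / (f₂ : ℂ)) = 256 := by
      rw [← hcount]; push_cast; ring
    have key : (N : ℂ) * ((f₂ : ℂ) + 2) ^ 2 = 256 * (f₂ : ℂ) * ((f₂ : ℂ) + 1) := by
      have : (N : ℂ) * ((f₂ : ℂ) + 2) ^ 2 =
          (N : ℂ) * (1 - 1 / ((f₂ : ℂ) + 1) + 4 / (f₂ : ℂ)) *
            ((f₂ : ℂ) * ((f₂ : ℂ) + 1)) := by
        field_simp
        ring
      rw [this, hcount']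
      ring
    have keyN : N * (f₂ + 2) ^ 2 = 256 * f₂ * (f₂ + 1) := by exact_mod_cast key
    exact coreB N f₂ hN hf₂ keyN
  · exfalso; omega

theorem arith (N : ℕ) (hN : N % 16 = 8) (c₁ c₂ d₁ d₂ : ℤ) (f₁ f₂ : ℕ) (hf₁ : 0 < f₁)
    (hf₂ : 0 < f₂) (hc₁ : c₁ = 1 ∨ c₁ = -1) (hc₂ : c₂ = 1 ∨ c₂ = -1)
    (hdeg : 1 + c₁ * f₁ + c₂ * f₂ = 0) (hcd : c₁ * d₁ + c₂ * d₂ = 1)
    (hdd : d₁ ^ 2 + d₂ ^ 2 ≤ 3)
    (hcount : (N : ℂ) * (1 + (c₁ : ℂ) * ((c₁ : ℂ) + (d₁ : ℂ)) ^ 2 / f₁ +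
      (c₂ : ℂ) * ((c₂ : ℂ) + (d₂ : ℂ)) ^ 2 / f₂) = 256) :
    N = 168 ∨ N = 360 := by
  have hs1 : (c₁ : ℂ) ^ 2 = 1 := by
    rcases hc₁ with h | h <;> rw [h] <;> norm_num
  have hs2 : (c₂ : ℂ) ^ 2 = 1 := by
    rcases hc₂ with h | h <;> rw [h] <;> norm_num
  rcases d_cases c₁ c₂ d₁ d₂ hc₁ hc₂ hcd hdd with ⟨h1, h2⟩ | ⟨h1, h2⟩
  · subst h1 h2
    refine arith' N f₁ f₂ hN hf₁ hf₂ c₁ d₂ hc₁ hc₂ hdeg ?_
    rw [← hcount]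
    have e1 : (d₂ : ℂ) * ((d₂ : ℂ) + (d₂ : ℂ)) ^ 2 = 4 * d₂ := by
      have : (d₂ : ℂ) * ((d₂ : ℂ) + (d₂ : ℂ)) ^ 2 = 4 * d₂ * (d₂ : ℂ) ^ 2 := by ring
      rw [this, hs2, mul_one]
    have e2 : (c₁ : ℂ) * ((c₁ : ℂ) + ((0 : ℤ) : ℂ)) ^ 2 = c₁ := by
      have : (c₁ : ℂ) * ((c₁ : ℂ) + ((0 : ℤ) : ℂ)) ^ 2 = c₁ * (c₁ : ℂ) ^ 2 := by
        push_cast; ring
      rw [this, hs1, mul_one]
    rw [e1, e2]
  · subst h1 h2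
    refine arith' N f₂ f₁ hN hf₂ hf₁ c₂ d₁ hc₂ hc₁ (by linarith) ?_
    rw [← hcount]
    have e1 : (d₁ : ℂ) * ((d₁ : ℂ) + (d₁ : ℂ)) ^ 2 = 4 * d₁ := by
      have : (d₁ : ℂ) * ((d₁ : ℂ) + (d₁ : ℂ)) ^ 2 = 4 * d₁ * (d₁ : ℂ) ^ 2 := by ring
      rw [this, hs1, mul_one]
    have e2 : (c₂ : ℂ) * ((c₂ : ℂ) + ((0 : ℤ) : ℂ)) ^ 2 = c₂ := by
      have : (c₂ : ℂ) * ((c₂ : ℂ) + ((0 : ℤ) : ℂ)) ^ 2 = c₂ * (c₂ : ℂ) ^ 2 := by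
        push_cast; ring
      rw [this, hs2, mul_one]
    rw [e1, e2]
    ring

end Cfsg.Agent.Lib.Helper14.D8Arith
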