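import Mathlib
import Cfsg.Agent.S0111

set_option autoImplicit false

/-!
# A group with an involution centralizer dihedral of order 8: the group-theoretic part
-/

namespace Cfsg.Agent.Lib.Helper14.D8Group

open DihedralGroup

theorem d8_center : ∀ x : DihedralGroup 4, (∀ y : DihedralGroup 4, x * y = y * x) →
    x = 1 ∨ x = r 2 := by decide

theorem d8_univ : (Finset.univ : Finset (DihedralGroup 4)) =
    {r 0, r 1, r 2, r 3, sr 0, sr 1, sr 2, sr 3} := by decide

theorem d8_cent_r1 : ∀ x : DihedralGroup 4, x * r 1 = r 1 * x →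
    x = r 0 ∨ x = r 1 ∨ x = r 2 ∨ x = r 3 := by decide

theorem d8_invol : ∀ x : DihedralGroup 4, x * x = 1 → x ≠ 1 → x ≠ r 2 →
    ∃ i : ZMod 4, x = sr i := by decide

theorem d8_inverts : ∀ x : DihedralGroup 4, x * r 1 * x⁻¹ = (r 1)⁻¹ →
    ∃ i : ZMod 4, x = sr i := by decide

/-- the rotation subgroup of the dihedral group of order 8 -/
def rot : Subgroup (DihedralGroup 4) where
  carrier := {x | x = r 0 ∨ x = r 1 ∨ x = r 2 ∨ x = r 3}
  mul_mem' := by
    intro a b ha hb
    revert a b
    simp only [Set.mem_ofPred_eq]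
    decide
  one_mem' := by
    simp only [Set.mem_ofPred_eq]
    decide
  inv_mem' := by
    intro a ha
    revert a
    simp only [Set.mem_ofPred_eq]
    decide

theorem mem_rot (x : DihedralGroup 4) : x ∈ rot ↔ x = r 0 ∨ x = r 1 ∨ x = r 2 ∨ x = r 3 :=
  Iff.rfl

/-- a four-subgroup of the dihedral group of order 8 -/
def four : Subgroup (DihedralGroup 4) where
  carrier := {x | x = r 0 ∨ x = r 2 ∨ x = sr 0 ∨ x = sr 2}
  mul_mem' := by
    intro a b ha hb
    revert a b
    simp only [Set.mem_ofPred_eq]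
    decide
  one_mem' := by
    simp only [Set.mem_ofPred_eq]
    decide
  inv_mem' := by
    intro a ha
    revert a
    simp only [Set.mem_ofPred_eq]
    decide

theorem mem_four (x : DihedralGroup 4) : x ∈ four ↔ x = r 0 ∨ x = r 2 ∨ x = sr 0 ∨ x = sr 2 :=
  Iff.rfl

theorem card_rot : Nat.card rot = 4 := by
  classical
  rw [Nat.card_eq_fintype_card,
    Fintype.card_of_subtype ({r 0, r 1, r 2, r 3} : Finset (DihedralGroup 4))
      (fun x => by simp only [Finset.mem_insert, Finset.mem_singleton]; exact Iff.rfl)]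
  decide

theorem card_four : Nat.card four = 4 := by
  classical
  rw [Nat.card_eq_fintype_card,
    Fintype.card_of_subtype ({r 0, r 2, sr 0, sr 2} : Finset (DihedralGroup 4))
      (fun x => by simp only [Finset.mem_insert, Finset.mem_singleton]; exact Iff.rfl)]
  decide

variable {G : Type*} [Group G] {t : G}

theorem t_sq (ht : orderOf t = 2) : t * t = 1 := by
  rw [← sq, ← ht, pow_orderOf_eq_one]

theorem t_ne_one (ht : orderOf t = 2) : t ≠ 1 := by
  rintro rfl
  rw [orderOf_one] at ht
  exact absurd ht (by norm_num)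

theorem no_index_two [Finite G] (hperf : commutator G = ⊤) (M : Subgroup G) [M.Normal]
    (hM : M.index = 2) : False := by
  have : Fact (Nat.Prime 2) := ⟨Nat.prime_two⟩
  have hcard : Nat.card (G ⧸ M) = 2 := hM
  have : IsCyclic (G ⧸ M) := isCyclic_of_prime_card hcard
  let _ : CommGroup (G ⧸ M) := IsCyclic.commGroup
  have h := Abelianization.commutator_subset_ker (QuotientGroup.mk' M)
  rw [QuotientGroup.ker_mk', hperf] at h
  have : M = ⊤ := top_le_iff.mp h
  rw [this, Subgroup.index_top] at hM
  exact absurd hM (by norm_num)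

/-- the embedding of the dihedral group as the centralizer of the involution -/
def phi (e : Subgroup.centralizer ({t} : Set G) ≃* DihedralGroup 4) : DihedralGroup 4 →* G :=
  (Subgroup.centralizer ({t} : Set G)).subtype.comp e.symm.toMonoidHom

variable (e : Subgroup.centralizer ({t} : Set G) ≃* DihedralGroup 4)

include e

theorem phi_apply (x : DihedralGroup 4) : phi e x = (e.symm x : G) := rfl

theorem phi_injective : Function.Injective (phi e) := by
  intro x y h
  have : e.symm x = e.symm y := Subtype.ext h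
  exact e.symm.injective this

theorem phi_mem (x : DihedralGroup 4) : phi e x ∈ Subgroup.centralizer ({t} : Set G) :=
  (e.symm x).2

theorem phi_comm (x : DihedralGroup 4) : phi e x * t = t * phi e x := by
  have := phi_mem e x
  rw [Subgroup.mem_centralizer_singleton_iff] at this
  exact this

theorem exists_phi {g : G} (hg : g * t = t * g) : ∃ x, phi e x = g := by
  have hg' : g ∈ Subgroup.centralizer ({t} : Set G) := by
    rw [Subgroup.mem_centralizer_singleton_iff]; exact hg
  exact ⟨e ⟨g, hg'⟩, by rw [phi_apply, e.symm_apply_apply]⟩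

theorem phi_r2 (ht : orderOf t = 2) : phi e (r 2) = t := by
  obtain ⟨x, hx⟩ := exists_phi e (rfl : t * t = t * t)
  have hcen : ∀ y : DihedralGroup 4, x * y = y * x := by
    intro y
    apply phi_injective e
    rw [map_mul, map_mul, hx]
    exact (phi_comm e y).symm
  rcases d8_center x hcen with h | h
  · exfalso
    rw [h, map_one] at hx
    exact t_ne_one ht hx.symm
  · rw [← h]; exact hx

theorem phi_r0 : phi e (r 0) = 1 := by
  rw [← DihedralGroup.one_def, map_one]

theorem card_centralizer : Nat.card (Subgroup.centralizer ({t} : Set G)) = 8 := by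
  rw [Nat.card_congr e.toEquiv, DihedralGroup.nat_card]

theorem exists_sylow [Finite G] (ht : orderOf t = 2) :
    ∃ P : Sylow 2 G, (P : Subgroup G) = Subgroup.centralizer ({t} : Set G) := by
  have : Fact (Nat.Prime 2) := ⟨Nat.prime_two⟩
  have hC : IsPGroup 2 (Subgroup.centralizer ({t} : Set G)) :=
    IsPGroup.of_card (n := 3) (by rw [card_centralizer e]; norm_num)
  obtain ⟨P, hP⟩ := hC.exists_le_sylow
  refine ⟨P, le_antisymm ?_ hP⟩
  have htP : t ∈ (P : Subgroup G) := hP (by rw [Subgroup.mem_centralizer_singleton_iff])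
  have : Nontrivial (P : Subgroup G) :=
    ⟨⟨⟨t, htP⟩, 1, fun h => t_ne_one ht (congrArg Subtype.val h)⟩⟩
  have := P.isPGroup'.center_nontrivial
  obtain ⟨z, hz1⟩ := exists_ne (1 : Subgroup.center (P : Subgroup G))
  have hz := z.2
  rw [Subgroup.mem_center_iff] at hz
  have hzt : (z : (P : Subgroup G)).1 * t = t * (z : (P : Subgroup G)).1 := by
    have := hz ⟨t, htP⟩
    exact (congrArg Subtype.val this).symm
  obtain ⟨x, hx⟩ := exists_phi e hzt
  have hcen : ∀ y : DihedralGroup 4, x * y = y * x := by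
    intro y
    apply phi_injective e
    rw [map_mul, map_mul, hx]
    have := hz ⟨phi e y, hP (phi_mem e y)⟩
    exact (congrArg Subtype.val this).symm
  have hzt' : (z : (P : Subgroup G)).1 = t := by
    rcases d8_center x hcen with h | h
    · exfalso
      rw [h, map_one] at hx
      apply hz1
      apply Subtype.ext
      apply Subtype.ext
      exact hx.symm
    · rw [← hx, h, phi_r2 e ht]
  intro g hg
  rw [Subgroup.mem_centralizer_singleton_iff]
  have := hz ⟨g, hg⟩
  have h2 := congrArg Subtype.val this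
  simp only [Subgroup.coe_mul] at h2
  rw [hzt'] at h2
  exact h2

theorem conj_sr [Finite G] (hperf : commutator G = ⊤) (ht : orderOf t = 2) (i : ZMod 4) :
    ∃ g : G, g * t * g⁻¹ = phi e (sr i) := by
  obtain ⟨P, hP⟩ := exists_sylow e ht
  set Q : Subgroup G := rot.map (phi e) with hQ
  have hQP : Q ≤ (P : Subgroup G) := by
    rw [hP]; rintro _ ⟨x, -, rfl⟩; exact phi_mem e x
  have hmemQ : ∀ x, phi e x ∈ Q ↔ x ∈ rot := fun x =>
    Subgroup.mem_map_iff_mem (phi_injective e)
  have hQi : Q.relIndex (P : Subgroup G) = 2 := by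
    rw [Subgroup.relIndex_eq_two_iff]
    refine ⟨phi e (sr 0), by rw [hP]; exact phi_mem e _, ?_⟩
    intro b hb
    rw [hP, Subgroup.mem_centralizer_singleton_iff] at hb
    obtain ⟨y, rfl⟩ := exists_phi e hb
    rw [← map_mul, hmemQ, hmemQ, mem_rot, mem_rot]
    have key : ∀ y : DihedralGroup 4,
        ((y * sr 0 = r 0 ∨ y * sr 0 = r 1 ∨ y * sr 0 = r 2 ∨ y * sr 0 = r 3) ∧
          ¬ (y = r 0 ∨ y = r 1 ∨ y = r 2 ∨ y = r 3)) ∨
        ((y = r 0 ∨ y = r 1 ∨ y = r 2 ∨ y = r 3) ∧
          ¬ (y * sr 0 = r 0 ∨ y * sr 0 = r 1 ∨ y * sr 0 = r 2 ∨ y * sr 0 = r 3)) := by decide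
    exact key y
  have hu : orderOf (phi e (sr i)) = 2 := by
    rw [orderOf_injective (phi e) (phi_injective e), DihedralGroup.orderOf_sr]
  have huP : phi e (sr i) ∈ (P : Subgroup G) := by rw [hP]; exact phi_mem e _
  have huQ : phi e (sr i) ∉ Q := by
    rw [hmemQ, mem_rot]
    have key : ∀ i : ZMod 4, ¬ ((sr i : DihedralGroup 4) = r 0 ∨ sr i = r 1 ∨ sr i = r 2 ∨
        sr i = r 3) := by decide
    exact key i
  rcases Cfsg.Agent.S0111.result P Q hQP hQi _ hu huP huQ with ⟨M, hMn, hM2, -⟩ | ⟨g, hg⟩
  · exact (no_index_two hperf M hM2).elim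
  · obtain ⟨x, hx, hxg⟩ := hg
    have huu : phi e (sr i) * phi e (sr i) = 1 := by
      rw [← map_mul]
      simp
    have hxx : x * x = 1 := by
      apply phi_injective e
      rw [map_mul, map_one, hxg]
      calc g * phi e (sr i) * g⁻¹ * (g * phi e (sr i) * g⁻¹)
          = g * (phi e (sr i) * phi e (sr i)) * g⁻¹ := by group
        _ = 1 := by rw [huu]; group
    have hx1 : x ≠ 1 := by
      rintro rfl
      rw [map_one] at hxg
      have h1 : phi e (sr i) = 1 := by
        calc phi e (sr i) = g⁻¹ * (g * phi e (sr i) * g⁻¹) * g := by group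
          _ = 1 := by rw [← hxg]; group
      rw [← map_one (phi e)] at h1
      have := phi_injective e h1
      have key : ∀ i : ZMod 4, (sr i : DihedralGroup 4) ≠ 1 := by decide
      exact key i this
    have hxr : x = r 2 := by
      have hx' : x ∈ rot := hx
      rw [mem_rot] at hx'
      have key : ∀ x : DihedralGroup 4, (x = r 0 ∨ x = r 1 ∨ x = r 2 ∨ x = r 3) → x * x = 1 →
          x ≠ 1 → x = r 2 := by decide
      exact key x hx' hxx hx1
    refine ⟨g⁻¹, ?_⟩
    rw [hxr, phi_r2 e ht] at hxg
    calc g⁻¹ * t * g⁻¹⁻¹ = g⁻¹ * (g * phi e (sr i) * g⁻¹) * g⁻¹⁻¹ := by rw [← hxg]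
      _ = phi e (sr i) := by group

theorem card_centralizer_a (ht : orderOf t = 2) :
    Nat.card (Subgroup.centralizer ({phi e (r 1)} : Set G)) = 4 := by
  have h : Subgroup.centralizer ({phi e (r 1)} : Set G) = rot.map (phi e) := by
    ext g
    rw [Subgroup.mem_centralizer_singleton_iff]
    constructor
    · intro hg
      have hgt : g * t = t * g := by
        rw [← phi_r2 e ht]
        have : (r 2 : DihedralGroup 4) = r 1 * r 1 := by decide
        rw [this, map_mul]
        rw [← mul_assoc, hg, mul_assoc, hg, ← mul_assoc]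
      obtain ⟨x, rfl⟩ := exists_phi e hgt
      rw [← map_mul, ← map_mul] at hg
      have := phi_injective e hg
      exact Subgroup.mem_map_of_mem _ ((mem_rot x).mpr (d8_cent_r1 x this))
    · rintro ⟨x, hx, rfl⟩
      rw [← map_mul, ← map_mul]
      congr 1
      have hx' : x ∈ rot := hx
      rw [mem_rot] at hx'
      have key : ∀ x : DihedralGroup 4, (x = r 0 ∨ x = r 1 ∨ x = r 2 ∨ x = r 3) →
          x * r 1 = r 1 * x := by decide
      exact key x hx'
  rw [h, Subgroup.card_map_of_injective (phi_injective e)]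
  exact card_rot

theorem not_isConj_t_a (ht : orderOf t = 2) : ¬ IsConj t (phi e (r 1)) := by
  intro h
  obtain ⟨c, hc⟩ := isConj_iff.mp h
  have h1 : phi e (r 1) * phi e (r 1) = 1 := by
    rw [← hc]
    calc c * t * c⁻¹ * (c * t * c⁻¹) = c * (t * t) * c⁻¹ := by group
      _ = 1 := by rw [t_sq ht]; group
  rw [← map_mul, ← map_one (phi e)] at h1
  have := phi_injective e h1
  revert this
  decide

theorem card_mod [Finite G] (ht : orderOf t = 2) : Nat.card G % 16 = 8 := by
  have : Fact (Nat.Prime 2) := ⟨Nat.prime_two⟩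
  obtain ⟨P, hP⟩ := exists_sylow e ht
  have h1 := Subgroup.card_mul_index (P : Subgroup G)
  have h2 : ¬ 2 ∣ (P : Subgroup G).index := P.not_dvd_index
  rw [hP] at h1 h2
  rw [card_centralizer e] at h1
  omega

theorem phi_r3 : phi e (r 3) = phi e (sr 0) * phi e (r 1) * (phi e (sr 0))⁻¹ := by
  rw [← map_inv, ← map_mul, ← map_mul]
  congr 1

end Cfsg.Agent.Lib.Helper14.D8Group
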