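import Mathlib
import Cfsg.Agent.Lib.Helper14.D8Group

set_option autoImplicit false

/-!
# A group with an involution centralizer dihedral of order 8: counting pairs of conjugates
-/

namespace Cfsg.Agent.Lib.Helper14.D8Count

open DihedralGroup Cfsg.Agent.Lib.Helper14.D8Group

variable {G : Type*} [Group G] {t : G}
variable (e : Subgroup.centralizer ({t} : Set G) ≃* DihedralGroup 4)

include e

theorem conj_phi (gs : ZMod 4 → G) (hgs : ∀ i, gs i * t * (gs i)⁻¹ = phi e (sr i))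
    (i : ZMod 4) (x : DihedralGroup 4) :
    (gs i * phi e x) * t * (gs i * phi e x)⁻¹ = phi e (sr i) := by
  rw [mul_inv_rev, ← hgs i]
  have := phi_comm e x
  calc gs i * phi e x * t * ((phi e x)⁻¹ * (gs i)⁻¹)
      = gs i * (phi e x * t) * (phi e x)⁻¹ * (gs i)⁻¹ := by group
    _ = gs i * (t * phi e x) * (phi e x)⁻¹ * (gs i)⁻¹ := by rw [this]
    _ = _ := by group

theorem exists_phi_of_conj (gs : ZMod 4 → G) (hgs : ∀ i, gs i * t * (gs i)⁻¹ = phi e (sr i))
    (i : ZMod 4) (g : G) (hi : g * t * g⁻¹ = phi e (sr i)) :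
    ∃ x, phi e x = (gs i)⁻¹ * g := by
  apply exists_phi e
  have h1 : g * t * g⁻¹ = gs i * t * (gs i)⁻¹ := by rw [hi, hgs]
  have h2 : g * t = gs i * t * (gs i)⁻¹ * g := by rw [← h1]; group
  calc (gs i)⁻¹ * g * t = (gs i)⁻¹ * (g * t) := by group
    _ = (gs i)⁻¹ * (gs i * t * (gs i)⁻¹ * g) := by rw [h2]
    _ = _ := by group

theorem pair_count [Fintype G] [DecidableEq G]
    (gs : ZMod 4 → G) (hgs : ∀ i, gs i * t * (gs i)⁻¹ = phi e (sr i)) (δ : ZMod 4)
    (hδ : ∀ g h : G, g * t * g⁻¹ * (h * t * h⁻¹) = phi e (r δ) →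
      ∃ i, g * t * g⁻¹ = phi e (sr i)) :
    (Finset.univ.filter fun p : G × G =>
      p.1 * t * p.1⁻¹ * (p.2 * t * p.2⁻¹) = phi e (r δ)).card = 256 := by
  let F : (DihedralGroup 4 × DihedralGroup 4) × ZMod 4 → G × G :=
    fun q => (gs q.2 * phi e q.1.1, gs (q.2 + δ) * phi e q.1.2)
  have hF : Function.Injective F := by
    rintro ⟨⟨x, y⟩, i⟩ ⟨⟨x', y'⟩, i'⟩ h
    simp only [F, Prod.mk.injEq] at h
    obtain ⟨h1, h2⟩ := h
    have hi : i = i' := by
      have h3 := conj_phi e gs hgs i x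
      rw [h1, conj_phi e gs hgs i' x'] at h3
      have := phi_injective e h3
      exact (DihedralGroup.sr.inj this).symm
    subst hi
    have hx : x = x' := phi_injective e (mul_left_cancel h1)
    have hy : y = y' := phi_injective e (mul_left_cancel h2)
    rw [hx, hy]
  have himg : (Finset.univ.filter fun p : G × G =>
      p.1 * t * p.1⁻¹ * (p.2 * t * p.2⁻¹) = phi e (r δ)) = Finset.univ.image F := by
    ext ⟨g, h⟩
    simp only [Finset.mem_filter, Finset.mem_univ, true_and, Finset.mem_image]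
    constructor
    · intro hgh
      obtain ⟨i, hi⟩ := hδ g h hgh
      have hh : h * t * h⁻¹ = phi e (sr (i + δ)) := by
        rw [hi] at hgh
        have h4 : (sr (i + δ) : DihedralGroup 4) = (sr i)⁻¹ * r δ := by simp
        rw [h4, map_mul, map_inv, ← hgh]
        group
      obtain ⟨x, hx⟩ := exists_phi_of_conj e gs hgs i g hi
      obtain ⟨y, hy⟩ := exists_phi_of_conj e gs hgs (i + δ) h hh
      refine ⟨((x, y), i), ?_⟩
      simp only [F]
      rw [hx, hy]
      simp
    · rintro ⟨⟨⟨x, y⟩, i⟩, hxy⟩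
      simp only [F, Prod.mk.injEq] at hxy
      obtain ⟨rfl, rfl⟩ := hxy
      rw [conj_phi e gs hgs, conj_phi e gs hgs, ← map_mul]
      congr 1
      simp
  rw [himg, Finset.card_image_of_injective _ hF]
  simp [Fintype.card_prod, DihedralGroup.card, ZMod.card]

omit e in
theorem conj_sq (ht : orderOf t = 2) (g : G) : g * t * g⁻¹ * (g * t * g⁻¹) = 1 := by
  calc g * t * g⁻¹ * (g * t * g⁻¹) = g * (t * t) * g⁻¹ := by group
    _ = 1 := by rw [t_sq ht]; group

omit e in
theorem conj_ne_one (ht : orderOf t = 2) (g : G) : g * t * g⁻¹ ≠ 1 := by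
  intro h1
  apply t_ne_one ht
  calc t = g⁻¹ * (g * t * g⁻¹) * g := by group
    _ = 1 := by rw [h1]; group

theorem core_two (ht : orderOf t = 2) (x y : G) (hxx : x * x = 1) (hyy : y * y = 1)
    (hx1 : x ≠ 1) (hy1 : y ≠ 1) (hgh : x * y = phi e (r 2)) :
    ∃ i, x = phi e (sr i) := by
  rw [phi_r2 e ht] at hgh
  have htt := t_sq ht
  have hyx : y = x * t := by
    calc y = x * x * y := by rw [hxx, one_mul]
      _ = x * (x * y) := by group
      _ = x * t := by rw [hgh]
  have hcomm : x * t = t * x := by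
    have h1 : x * t * (x * t) = 1 := by rw [← hyx]; exact hyy
    have h2 : x * t * (x * t) * (t * x) = x * t := by
      calc x * t * (x * t) * (t * x) = x * t * x * (t * t) * x := by group
        _ = x * t * (x * x) := by rw [htt]; group
        _ = x * t := by rw [hxx, mul_one]
    calc x * t = x * t * (x * t) * (t * x) := h2.symm
      _ = t * x := by rw [h1, one_mul]
  obtain ⟨x₀, hx₀⟩ := exists_phi e hcomm
  have h00 : x₀ * x₀ = 1 := by
    apply phi_injective e
    rw [map_mul, map_one, hx₀, hxx]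
  have h01 : x₀ ≠ 1 := by
    rintro rfl
    rw [map_one] at hx₀
    exact hx1 hx₀.symm
  have h02 : x₀ ≠ r 2 := by
    rintro rfl
    rw [phi_r2 e ht] at hx₀
    apply hy1
    rw [hyx, ← hx₀, htt]
  obtain ⟨i, hi⟩ := d8_invol x₀ h00 h01 h02
  exact ⟨i, by rw [← hi, hx₀]⟩

theorem core_one (ht : orderOf t = 2) (x y : G) (hxx : x * x = 1) (hyy : y * y = 1)
    (hgh : x * y = phi e (r 1)) :
    ∃ i, x = phi e (sr i) := by
  have htt := t_sq ht
  have hxinv : x⁻¹ = x := inv_eq_of_mul_eq_one_left hxx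
  have hyinv : y⁻¹ = y := inv_eq_of_mul_eq_one_left hyy
  have haa : phi e (r 1) * phi e (r 1) = t := by
    rw [← map_mul]
    have : (r 1 * r 1 : DihedralGroup 4) = r 2 := by decide
    rw [this]
    exact phi_r2 e ht
  have hinv : x * phi e (r 1) * x⁻¹ = (phi e (r 1))⁻¹ := by
    calc x * phi e (r 1) * x⁻¹ = x * (x * y) * x := by rw [hgh, hxinv]
      _ = x * x * (y * x) := by group
      _ = y * x := by rw [hxx, one_mul]
      _ = y⁻¹ * x⁻¹ := by rw [hxinv, hyinv]
      _ = (x * y)⁻¹ := by rw [mul_inv_rev]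
      _ = (phi e (r 1))⁻¹ := by rw [hgh]
  have hcomm : x * t = t * x := by
    have h1 : x * t * x⁻¹ = t := by
      calc x * t * x⁻¹ = x * (phi e (r 1) * phi e (r 1)) * x⁻¹ := by rw [haa]
        _ = (x * phi e (r 1) * x⁻¹) * (x * phi e (r 1) * x⁻¹) := by group
        _ = (phi e (r 1) * phi e (r 1))⁻¹ := by rw [hinv]; group
        _ = t := by rw [haa]; exact inv_eq_of_mul_eq_one_left htt
    calc x * t = x * t * x⁻¹ * x := by group
      _ = t * x := by rw [h1]
  obtain ⟨x₀, hx₀⟩ := exists_phi e hcomm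
  have h0 : x₀ * r 1 * x₀⁻¹ = (r 1)⁻¹ := by
    apply phi_injective e
    rw [map_mul, map_mul, map_inv, map_inv, hx₀]
    exact hinv
  obtain ⟨i, hi⟩ := d8_inverts x₀ h0
  exact ⟨i, by rw [← hi, hx₀]⟩

theorem hdelta_two (ht : orderOf t = 2) (g h : G)
    (hgh : g * t * g⁻¹ * (h * t * h⁻¹) = phi e (r 2)) :
    ∃ i, g * t * g⁻¹ = phi e (sr i) :=
  core_two e ht _ _ (conj_sq ht g) (conj_sq ht h) (conj_ne_one ht g) (conj_ne_one ht h) hgh

theorem hdelta_one (ht : orderOf t = 2) (g h : G)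
    (hgh : g * t * g⁻¹ * (h * t * h⁻¹) = phi e (r 1)) :
    ∃ i, g * t * g⁻¹ = phi e (sr i) :=
  core_one e ht _ _ (conj_sq ht g) (conj_sq ht h) hgh

end Cfsg.Agent.Lib.Helper14.D8Count
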