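import Mathlib
import Cfsg.Agent.Lib.Helper14.D8Count
import Cfsg.Agent.Lib.Helper14.D8Arith
import Cfsg.Agent.Lib.Helper14.BSChar
import Cfsg.Agent.Lib.CT.ClassMult
import Cfsg.Agent.Lib.CT.PairCount
import Cfsg.Agent.Lib.CT.Orth
import Cfsg.Agent.Lib.CT.Ops

set_option autoImplicit false

/-!
# A perfect group with an involution centralizer dihedral of order 8 has order 168 or 360
-/

namespace Cfsg.Agent.Lib.Helper14.D8Char

open DihedralGroup Cfsg Cfsg.Agent.Lib.Helper14.D8Group Cfsg.Agent.Lib.Helper14.D8Count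
open Cfsg.Agent.Lib.CT.Wedderburn Cfsg.Agent.Lib.CT.Orth
open scoped ComplexConjugate

theorem conj_int (n : ℤ) : conj (n : ℂ) = n := map_intCast _ _

theorem sum_d8 {M : Type*} [AddCommMonoid M] (F : DihedralGroup 4 → M) :
    ∑ x, F x = F (r 0) + F (r 1) + F (r 2) + F (r 3) + F (sr 0) + F (sr 1) + F (sr 2) +
      F (sr 3) := by
  rw [d8_univ]
  rw [Finset.sum_insert (by decide), Finset.sum_insert (by decide),
    Finset.sum_insert (by decide), Finset.sum_insert (by decide), Finset.sum_insert (by decide),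
    Finset.sum_insert (by decide), Finset.sum_insert (by decide), Finset.sum_singleton]
  simp only [add_assoc]

theorem sum_three {ι : Type*} [Fintype ι] [DecidableEq ι] {R : Type*} [AddCommMonoid R]
    (F : ι → R) (a b c : ι) (hab : a ≠ b) (hac : a ≠ c) (hbc : b ≠ c)
    (h : ∀ k, k ≠ a → k ≠ b → k ≠ c → F k = 0) : ∑ k, F k = F a + F b + F c := by
  rw [← Finset.sum_subset (Finset.subset_univ {a, b, c})]
  · rw [Finset.sum_insert (by simp [hab, hac]), Finset.sum_insert (by simp [hbc]),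
      Finset.sum_singleton, add_assoc]
  · intro k _ hk
    simp only [Finset.mem_insert, Finset.mem_singleton, not_or] at hk
    exact h k hk.1 hk.2.1 hk.2.2

universe u
variable {G : Type u} [Group G] {t : G}
variable (e : Subgroup.centralizer ({t} : Set G) ≃* DihedralGroup 4)

include e

theorem char_values {χ : G → ℂ} (hχ : IsCharacter G χ) (ht : orderOf t = 2)
    (hsr : ∀ i : ZMod 4, χ (phi e (sr i)) = χ t) :
    ∃ c d : ℤ, χ t = ((c + d : ℤ) : ℂ) ∧ χ (phi e (r 1)) = ((c - d : ℤ) : ℂ) := by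
  classical
  have hχ' : IsCharacter (DihedralGroup 4) (fun x => χ (phi e x)) :=
    Cfsg.Agent.Lib.CT.Ops.isCharacter_comp_hom (phi e) hχ
  have hr3 : χ (phi e (r 3)) = χ (phi e (r 1)) := by
    rw [phi_r3 e]
    exact char_isClassFunction hχ _ _
  obtain ⟨m₁, h₁⟩ := Cfsg.Agent.Lib.CT.PairCount.char_sum_subgroup hχ' rot
  obtain ⟨m₂, h₂⟩ := Cfsg.Agent.Lib.CT.PairCount.char_sum_subgroup hχ' four
  obtain ⟨m₃, h₃⟩ := Cfsg.Agent.Lib.CT.PairCount.char_sum_subgroup hχ'
    (⊤ : Subgroup (DihedralGroup 4))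
  rw [card_rot] at h₁
  rw [card_four] at h₂
  rw [Subgroup.card_top, DihedralGroup.nat_card] at h₃
  have s₁ : ∑ w : rot, (fun x => χ (phi e x)) (w : DihedralGroup 4) =
      χ 1 + χ (phi e (r 1)) + χ t + χ (phi e (r 1)) := by
    rw [← Finset.sum_subtype ({r 0, r 1, r 2, r 3} : Finset (DihedralGroup 4))
      (fun x => by simp only [Finset.mem_insert, Finset.mem_singleton]; exact Iff.rfl)
      (fun x => χ (phi e x))]
    rw [Finset.sum_insert (by decide), Finset.sum_insert (by decide),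
      Finset.sum_insert (by decide), Finset.sum_singleton, phi_r0, phi_r2 e ht, hr3]
    ring
  have s₂ : ∑ w : four, (fun x => χ (phi e x)) (w : DihedralGroup 4) =
      χ 1 + χ t + χ t + χ t := by
    rw [← Finset.sum_subtype ({r 0, r 2, sr 0, sr 2} : Finset (DihedralGroup 4))
      (fun x => by simp only [Finset.mem_insert, Finset.mem_singleton]; exact Iff.rfl)
      (fun x => χ (phi e x))]
    rw [Finset.sum_insert (by decide), Finset.sum_insert (by decide),
      Finset.sum_insert (by decide), Finset.sum_singleton, phi_r0, phi_r2 e ht, hsr, hsr]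
    ring
  have s₃ : ∑ w : (⊤ : Subgroup (DihedralGroup 4)), (fun x => χ (phi e x)) (w : DihedralGroup 4) =
      χ 1 + χ (phi e (r 1)) + χ t + χ (phi e (r 1)) + χ t + χ t + χ t + χ t := by
    rw [← Finset.sum_subtype (Finset.univ : Finset (DihedralGroup 4))
      (fun x => by simp) (fun x => χ (phi e x))]
    rw [sum_d8, phi_r0, phi_r2 e ht, hr3, hsr, hsr, hsr, hsr]
  rw [s₁] at h₁
  rw [s₂] at h₂
  rw [s₃] at h₃
  refine ⟨2 * m₃ - m₂, m₂ - m₁, ?_, ?_⟩
  · push_cast
    linear_combination (1 / 4 : ℂ) * h₃ - (1 / 4 : ℂ) * h₁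
  · push_cast
    linear_combination (1 / 4 : ℂ) * h₁ - (1 / 2 : ℂ) * h₂ + (1 / 4 : ℂ) * h₃

theorem main [Finite G] (hperf : commutator G = ⊤) (ht : orderOf t = 2) :
    Nat.card G = 168 ∨ Nat.card G = 360 := by
  classical
  have := Fintype.ofFinite G
  have := finite_irrCharacter G
  have := Fintype.ofFinite (IrrCharacter G)
  choose gs hgs using conj_sr e hperf ht
  have hsr : ∀ (χ : IrrCharacter G) (i : ZMod 4),
      (χ : G → ℂ) (phi e (sr i)) = (χ : G → ℂ) t := by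
    intro χ i
    rw [← hgs i]
    exact char_isClassFunction (isCharacter_of_irr χ.2) _ _
  have key : ∀ χ : IrrCharacter G, ∃ c d : ℤ, (χ : G → ℂ) t = ((c + d : ℤ) : ℂ) ∧
      (χ : G → ℂ) (phi e (r 1)) = ((c - d : ℤ) : ℂ) :=
    fun χ => char_values e (isCharacter_of_irr χ.2) ht (hsr χ)
  choose c d hc hd using key
  have deg : ∀ χ : IrrCharacter G, ∃ f : ℕ, 0 < f ∧ (χ : G → ℂ) 1 = f :=
    fun χ => irr_exists_apply_one_pos χ.2
  choose f hf0 hf using deg
  -- the trivial character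
  let χ₀ : IrrCharacter G := ⟨fun _ => 1, Cfsg.Agent.Lib.CT.Ops.isIrrCharacter_one⟩
  have hc0 : c χ₀ = 1 ∧ d χ₀ = 0 := by
    have h1 : ((c χ₀ + d χ₀ : ℤ) : ℂ) = ((1 : ℤ) : ℂ) := by
      rw [← hc χ₀]; simp [χ₀]
    have h2 : ((c χ₀ - d χ₀ : ℤ) : ℂ) = ((1 : ℤ) : ℂ) := by
      rw [← hd χ₀]; simp [χ₀]
    have h1' := Int.cast_injective h1
    have h2' := Int.cast_injective h2
    constructor <;> omega
  have hf00 : f χ₀ = 1 := by
    have h1 : ((f χ₀ : ℕ) : ℂ) = ((1 : ℕ) : ℂ) := by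
      rw [← hf χ₀]; simp [χ₀]
    exact Nat.cast_injective h1
  -- orthogonality relations
  have O1 : ∑ χ : IrrCharacter G, (c χ + d χ) ^ 2 = 8 := by
    have h := second_orthogonality_sum_of_isConj t t (IsConj.refl t)
    rw [card_centralizer e] at h
    have h2 : ((∑ χ : IrrCharacter G, (c χ + d χ) ^ 2 : ℤ) : ℂ) = ((8 : ℤ) : ℂ) := by
      rw [Int.cast_sum]
      have : ((8 : ℤ) : ℂ) = ((8 : ℕ) : ℂ) := by norm_num
      rw [this, ← h]
      refine Finset.sum_congr rfl fun χ _ => ?_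
      rw [hc χ, conj_int]
      push_cast; ring
    exact Int.cast_injective h2
  have O2 : ∑ χ : IrrCharacter G, (c χ - d χ) ^ 2 = 4 := by
    have h := second_orthogonality_sum_of_isConj (phi e (r 1)) (phi e (r 1)) (IsConj.refl _)
    rw [card_centralizer_a e ht] at h
    have h2 : ((∑ χ : IrrCharacter G, (c χ - d χ) ^ 2 : ℤ) : ℂ) = ((4 : ℤ) : ℂ) := by
      rw [Int.cast_sum]
      have : ((4 : ℤ) : ℂ) = ((4 : ℕ) : ℂ) := by norm_num
      rw [this, ← h]
      refine Finset.sum_congr rfl fun χ _ => ?_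
      rw [hd χ, conj_int]
      push_cast; ring
    exact Int.cast_injective h2
  have O3 : ∑ χ : IrrCharacter G, (c χ + d χ) * (c χ - d χ) = 0 := by
    have h := second_orthogonality_sum_of_not_isConj t (phi e (r 1)) (not_isConj_t_a e ht)
    have h2 : ((∑ χ : IrrCharacter G, (c χ + d χ) * (c χ - d χ) : ℤ) : ℂ) = ((0 : ℤ) : ℂ) := by
      rw [Int.cast_sum, Int.cast_zero, ← h]
      refine Finset.sum_congr rfl fun χ _ => ?_
      rw [hc χ, hd χ, conj_int]
      push_cast; ring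
    exact Int.cast_injective h2
  have O4 : ∑ χ : IrrCharacter G, (c χ + d χ) * (f χ : ℤ) = 0 := by
    have h := second_orthogonality_sum_of_not_isConj t (1 : G)
      (fun hc => t_ne_one ht (isConj_one_left.mp hc))
    have h2 : ((∑ χ : IrrCharacter G, (c χ + d χ) * (f χ : ℤ) : ℤ) : ℂ) = ((0 : ℤ) : ℂ) := by
      rw [Int.cast_sum, Int.cast_zero, ← h]
      refine Finset.sum_congr rfl fun χ _ => ?_
      rw [hc χ, hf χ, Complex.conj_natCast]
      push_cast; ring
    exact Int.cast_injective h2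
  have ha1 : phi e (r 1) ≠ 1 := by
    intro h
    rw [← map_one (phi e)] at h
    have := phi_injective e h
    revert this
    decide
  have O5 : ∑ χ : IrrCharacter G, (c χ - d χ) * (f χ : ℤ) = 0 := by
    have h := second_orthogonality_sum_of_not_isConj (phi e (r 1)) (1 : G)
      (fun hc => ha1 (isConj_one_left.mp hc))
    have h2 : ((∑ χ : IrrCharacter G, (c χ - d χ) * (f χ : ℤ) : ℤ) : ℂ) = ((0 : ℤ) : ℂ) := by
      rw [Int.cast_sum, Int.cast_zero, ← h]
      refine Finset.sum_congr rfl fun χ _ => ?_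
      rw [hd χ, hf χ, Complex.conj_natCast]
      push_cast; ring
    exact Int.cast_injective h2
  have Scc : ∑ χ : IrrCharacter G, c χ ^ 2 = 3 := by
    have : ∑ χ : IrrCharacter G, (c χ + d χ) ^ 2 + ∑ χ : IrrCharacter G, (c χ - d χ) ^ 2 +
        2 * ∑ χ : IrrCharacter G, (c χ + d χ) * (c χ - d χ) =
        4 * ∑ χ : IrrCharacter G, c χ ^ 2 := by
      rw [Finset.mul_sum, Finset.mul_sum, ← Finset.sum_add_distrib, ← Finset.sum_add_distrib]
      exact Finset.sum_congr rfl fun χ _ => by ring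
    linarith
  have Sdd : ∑ χ : IrrCharacter G, d χ ^ 2 = 3 := by
    have : ∑ χ : IrrCharacter G, (c χ + d χ) ^ 2 + ∑ χ : IrrCharacter G, (c χ - d χ) ^ 2 -
        2 * ∑ χ : IrrCharacter G, (c χ + d χ) * (c χ - d χ) =
        4 * ∑ χ : IrrCharacter G, d χ ^ 2 := by
      rw [Finset.mul_sum, Finset.mul_sum, ← Finset.sum_add_distrib, ← Finset.sum_sub_distrib]
      exact Finset.sum_congr rfl fun χ _ => by ring
    linarith
  have Scd : ∑ χ : IrrCharacter G, c χ * d χ = 1 := by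
    have : ∑ χ : IrrCharacter G, (c χ + d χ) ^ 2 - ∑ χ : IrrCharacter G, (c χ - d χ) ^ 2 =
        4 * ∑ χ : IrrCharacter G, c χ * d χ := by
      rw [Finset.mul_sum, ← Finset.sum_sub_distrib]
      exact Finset.sum_congr rfl fun χ _ => by ring
    linarith
  have Scf : ∑ χ : IrrCharacter G, c χ * (f χ : ℤ) = 0 := by
    have : ∑ χ : IrrCharacter G, (c χ + d χ) * (f χ : ℤ) +
        ∑ χ : IrrCharacter G, (c χ - d χ) * (f χ : ℤ) =
        2 * ∑ χ : IrrCharacter G, c χ * (f χ : ℤ) := by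
      rw [Finset.mul_sum, ← Finset.sum_add_distrib]
      exact Finset.sum_congr rfl fun χ _ => by ring
    linarith
  obtain ⟨i, j, hi0, hj0, hij, hci, hcj, hzero⟩ :=
    Cfsg.Agent.Lib.Helper14.BSChar.three_squares c χ₀ hc0.1 Scc
  have hzero' : ∀ k, k ≠ χ₀ → k ≠ i → k ≠ j → c k = 0 := hzero
  have hdeg : 1 + c i * (f i : ℤ) + c j * (f j : ℤ) = 0 := by
    have h := sum_three (fun χ => c χ * (f χ : ℤ)) χ₀ i j (Ne.symm hi0) (Ne.symm hj0) hij
      (fun k h1 h2 h3 => by simp only [hzero' k h1 h2 h3, zero_mul])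
    rw [Scf] at h
    simp only [hc0.1, hf00] at h
    push_cast at h
    linarith
  have hcd : c i * d i + c j * d j = 1 := by
    have h := sum_three (fun χ => c χ * d χ) χ₀ i j (Ne.symm hi0) (Ne.symm hj0) hij
      (fun k h1 h2 h3 => by simp only [hzero' k h1 h2 h3, zero_mul])
    rw [Scd] at h
    simp only [hc0.1, hc0.2] at h
    linarith
  have hdd : d i ^ 2 + d j ^ 2 ≤ 3 := by
    have h := Finset.sum_le_sum_of_subset_of_nonneg (Finset.subset_univ ({i, j} : Finset _))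
      (f := fun χ => d χ ^ 2) (fun _ _ _ => sq_nonneg _)
    rw [Finset.sum_pair hij, Sdd] at h
    exact h
  -- the two pair counts
  have P1 := Cfsg.Agent.Lib.CT.ClassMult.conj_pair_count t t (phi e (r 2))
  rw [pair_count e gs hgs 2 (hdelta_two e ht), phi_r2 e ht] at P1
  have P2 := Cfsg.Agent.Lib.CT.ClassMult.conj_pair_count t t (phi e (r 1))
  rw [pair_count e gs hgs 1 (hdelta_one e ht)] at P2
  have hcount : (Nat.card G : ℂ) * (1 + (c i : ℂ) * ((c i : ℂ) + (d i : ℂ)) ^ 2 / (f i : ℂ) +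
      (c j : ℂ) * ((c j : ℂ) + (d j : ℂ)) ^ 2 / (f j : ℂ)) = 256 := by
    have h := sum_three (fun χ => (c χ : ℂ) * ((c χ : ℂ) + (d χ : ℂ)) ^ 2 / (f χ : ℂ)) χ₀ i j
      (Ne.symm hi0) (Ne.symm hj0) hij
      (fun k h1 h2 h3 => by simp only [hzero' k h1 h2 h3, Int.cast_zero, zero_mul, zero_div])
    simp only [hc0.1, hc0.2, hf00] at h
    have h' : (1 : ℂ) + (c i : ℂ) * ((c i : ℂ) + (d i : ℂ)) ^ 2 / (f i : ℂ) +
        (c j : ℂ) * ((c j : ℂ) + (d j : ℂ)) ^ 2 / (f j : ℂ) =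
        ∑ χ : IrrCharacter G, (c χ : ℂ) * ((c χ : ℂ) + (d χ : ℂ)) ^ 2 / (f χ : ℂ) := by
      rw [h]; norm_num
    rw [h']
    have e1 : ∑ χ : IrrCharacter G, (c χ : ℂ) * ((c χ : ℂ) + (d χ : ℂ)) ^ 2 / (f χ : ℂ) =
        (1 / 2 : ℂ) * (∑ χ : IrrCharacter G,
          (χ : G → ℂ) t * (χ : G → ℂ) t * conj ((χ : G → ℂ) t) / (χ : G → ℂ) 1 +
        ∑ χ : IrrCharacter G,
          (χ : G → ℂ) t * (χ : G → ℂ) t * conj ((χ : G → ℂ) (phi e (r 1))) / (χ : G → ℂ) 1) := by
      rw [← Finset.sum_add_distrib, Finset.mul_sum]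
      refine Finset.sum_congr rfl fun χ _ => ?_
      rw [hc χ, hd χ, hf χ, conj_int, conj_int]
      push_cast
      ring
    rw [e1, mul_comm (1 / 2 : ℂ), ← mul_assoc, mul_add, ← P1, ← P2]
    norm_num
  exact Cfsg.Agent.Lib.Helper14.D8Arith.arith (Nat.card G) (card_mod e ht) (c i) (c j) (d i)
    (d j) (f i) (f j) (hf0 i) (hf0 j) hci hcj hdeg hcd hdd hcount

end Cfsg.Agent.Lib.Helper14.D8Char
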