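import Mathlib
import Cfsg.Agent.Lib.Helper14.D8Char

set_option autoImplicit false

/-!
# Dihedral involution centralizer of order 8: versions with the conjugacy of the reflections as
a hypothesis, and simplicity
-/

namespace Cfsg.Agent.Lib.Helper14.D8Gen

open DihedralGroup Cfsg Cfsg.Agent.Lib.Helper14.D8Group Cfsg.Agent.Lib.Helper14.D8Count
open Cfsg.Agent.Lib.Helper14.D8Char
open Cfsg.Agent.Lib.CT.Wedderburn Cfsg.Agent.Lib.CT.Orth
open scoped ComplexConjugate

universe u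
variable {G : Type u} [Group G] {t : G}
variable (e : Subgroup.centralizer ({t} : Set G) ≃* DihedralGroup 4)

include e

theorem transfer_alt [Finite G] (ht : orderOf t = 2) (i : ZMod 4) :
    (∃ M : Subgroup G, M.Normal ∧ M.index = 2 ∧ phi e (sr i) ∉ M) ∨
      ∃ g : G, g * t * g⁻¹ = phi e (sr i) := by
  obtain ⟨P, hP⟩ := exists_sylow e ht
  set Q : Subgroup G := rot.map (phi e) with hQ
  have hQP : Q ≤ (P : Subgroup G) := by
    rw [hP]; rintro _ ⟨x, -, rfl⟩; exact phi_mem e x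
  have hmemQ : ∀ x, phi e x ∈ Q ↔ x ∈ rot := fun x =>
    Subgroup.mem_map_iff_mem (phi_injective e)
  have hQi : Q.relIndex (P : Subgroup G) = 2 := by
    rw [Subgroup.relIndex_eq_two_iff]
    refine ⟨phi e (sr 0), by rw [hP]; exact phi_mem e _, ?_⟩
    intro b hb
    rw [hP, Subgroup.mem_centralizer_singleton_iff] at hb
    obtain ⟨y, rfl⟩ := exists_phi e hb
    rw [← map_mul, hmemQ, hmemQ, mem_rot, mem_rot]
    have key : ∀ y : DihedralGroup 4,
        ((y * sr 0 = r 0 ∨ y * sr 0 = r 1 ∨ y * sr 0 = r 2 ∨ y * sr 0 = r 3) ∧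
          ¬ (y = r 0 ∨ y = r 1 ∨ y = r 2 ∨ y = r 3)) ∨
        ((y = r 0 ∨ y = r 1 ∨ y = r 2 ∨ y = r 3) ∧
          ¬ (y * sr 0 = r 0 ∨ y * sr 0 = r 1 ∨ y * sr 0 = r 2 ∨ y * sr 0 = r 3)) := by decide
    exact key y
  have hu : orderOf (phi e (sr i)) = 2 := by
    rw [orderOf_injective (phi e) (phi_injective e), DihedralGroup.orderOf_sr]
  have huP : phi e (sr i) ∈ (P : Subgroup G) := by rw [hP]; exact phi_mem e _
  have huQ : phi e (sr i) ∉ Q := by
    rw [hmemQ, mem_rot]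
    have key : ∀ i : ZMod 4, ¬ ((sr i : DihedralGroup 4) = r 0 ∨ sr i = r 1 ∨ sr i = r 2 ∨
        sr i = r 3) := by decide
    exact key i
  rcases Cfsg.Agent.S0111.result P Q hQP hQi _ hu huP huQ with h | ⟨g, hg⟩
  · exact Or.inl h
  · right
    obtain ⟨x, hx, hxg⟩ := hg
    have huu : phi e (sr i) * phi e (sr i) = 1 := by
      rw [← map_mul]
      simp
    have hxx : x * x = 1 := by
      apply phi_injective e
      rw [map_mul, map_one, hxg]
      calc g * phi e (sr i) * g⁻¹ * (g * phi e (sr i) * g⁻¹)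
          = g * (phi e (sr i) * phi e (sr i)) * g⁻¹ := by group
        _ = 1 := by rw [huu]; group
    have hx1 : x ≠ 1 := by
      rintro rfl
      rw [map_one] at hxg
      have h1 : phi e (sr i) = 1 := by
        calc phi e (sr i) = g⁻¹ * (g * phi e (sr i) * g⁻¹) * g := by group
          _ = 1 := by rw [← hxg]; group
      rw [← map_one (phi e)] at h1
      have := phi_injective e h1
      have key : ∀ i : ZMod 4, (sr i : DihedralGroup 4) ≠ 1 := by decide
      exact key i this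
    have hxr : x = r 2 := by
      have hx' : x ∈ rot := hx
      rw [mem_rot] at hx'
      have key : ∀ x : DihedralGroup 4, (x = r 0 ∨ x = r 1 ∨ x = r 2 ∨ x = r 3) → x * x = 1 →
          x ≠ 1 → x = r 2 := by decide
      exact key x hx' hxx hx1
    refine ⟨g⁻¹, ?_⟩
    rw [hxr, phi_r2 e ht] at hxg
    calc g⁻¹ * t * g⁻¹⁻¹ = g⁻¹ * (g * phi e (sr i) * g⁻¹) * g⁻¹⁻¹ := by rw [← hxg]
      _ = phi e (sr i) := by group

theorem conj_sr_of_no_index_two [Finite G] (hno : ∀ M : Subgroup G, M.Normal → M.index ≠ 2)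
    (ht : orderOf t = 2) (i : ZMod 4) : ∃ g : G, g * t * g⁻¹ = phi e (sr i) := by
  rcases transfer_alt e ht i with ⟨M, hM, hM2, -⟩ | h
  · exact (hno M hM hM2).elim
  · exact h

theorem order_of_conj [Finite G] (ht : orderOf t = 2)
    (hconj : ∀ i : ZMod 4, ∃ g : G, g * t * g⁻¹ = phi e (sr i)) :
    Nat.card G = 168 ∨ Nat.card G = 360 := by
  classical
  have := Fintype.ofFinite G
  have := finite_irrCharacter G
  have := Fintype.ofFinite (IrrCharacter G)
  choose gs hgs using hconj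
  have hsr : ∀ (χ : IrrCharacter G) (i : ZMod 4),
      (χ : G → ℂ) (phi e (sr i)) = (χ : G → ℂ) t := by
    intro χ i
    rw [← hgs i]
    exact char_isClassFunction (isCharacter_of_irr χ.2) _ _
  have key : ∀ χ : IrrCharacter G, ∃ c d : ℤ, (χ : G → ℂ) t = ((c + d : ℤ) : ℂ) ∧
      (χ : G → ℂ) (phi e (r 1)) = ((c - d : ℤ) : ℂ) :=
    fun χ => char_values e (isCharacter_of_irr χ.2) ht (hsr χ)
  choose c d hc hd using key
  have deg : ∀ χ : IrrCharacter G, ∃ f : ℕ, 0 < f ∧ (χ : G → ℂ) 1 = f :=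
    fun χ => irr_exists_apply_one_pos χ.2
  choose f hf0 hf using deg
  -- the trivial character
  let χ₀ : IrrCharacter G := ⟨fun _ => 1, Cfsg.Agent.Lib.CT.Ops.isIrrCharacter_one⟩
  have hc0 : c χ₀ = 1 ∧ d χ₀ = 0 := by
    have h1 : ((c χ₀ + d χ₀ : ℤ) : ℂ) = ((1 : ℤ) : ℂ) := by
      rw [← hc χ₀]; simp [χ₀]
    have h2 : ((c χ₀ - d χ₀ : ℤ) : ℂ) = ((1 : ℤ) : ℂ) := by
      rw [← hd χ₀]; simp [χ₀]
    have h1' := Int.cast_injective h1
    have h2' := Int.cast_injective h2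
    constructor <;> omega
  have hf00 : f χ₀ = 1 := by
    have h1 : ((f χ₀ : ℕ) : ℂ) = ((1 : ℕ) : ℂ) := by
      rw [← hf χ₀]; simp [χ₀]
    exact Nat.cast_injective h1
  -- orthogonality relations
  have O1 : ∑ χ : IrrCharacter G, (c χ + d χ) ^ 2 = 8 := by
    have h := second_orthogonality_sum_of_isConj t t (IsConj.refl t)
    rw [card_centralizer e] at h
    have h2 : ((∑ χ : IrrCharacter G, (c χ + d χ) ^ 2 : ℤ) : ℂ) = ((8 : ℤ) : ℂ) := by
      rw [Int.cast_sum]
      have : ((8 : ℤ) : ℂ) = ((8 : ℕ) : ℂ) := by norm_num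
      rw [this, ← h]
      refine Finset.sum_congr rfl fun χ _ => ?_
      rw [hc χ, conj_int]
      push_cast; ring
    exact Int.cast_injective h2
  have O2 : ∑ χ : IrrCharacter G, (c χ - d χ) ^ 2 = 4 := by
    have h := second_orthogonality_sum_of_isConj (phi e (r 1)) (phi e (r 1)) (IsConj.refl _)
    rw [card_centralizer_a e ht] at h
    have h2 : ((∑ χ : IrrCharacter G, (c χ - d χ) ^ 2 : ℤ) : ℂ) = ((4 : ℤ) : ℂ) := by
      rw [Int.cast_sum]
      have : ((4 : ℤ) : ℂ) = ((4 : ℕ) : ℂ) := by norm_num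
      rw [this, ← h]
      refine Finset.sum_congr rfl fun χ _ => ?_
      rw [hd χ, conj_int]
      push_cast; ring
    exact Int.cast_injective h2
  have O3 : ∑ χ : IrrCharacter G, (c χ + d χ) * (c χ - d χ) = 0 := by
    have h := second_orthogonality_sum_of_not_isConj t (phi e (r 1)) (not_isConj_t_a e ht)
    have h2 : ((∑ χ : IrrCharacter G, (c χ + d χ) * (c χ - d χ) : ℤ) : ℂ) = ((0 : ℤ) : ℂ) := by
      rw [Int.cast_sum, Int.cast_zero, ← h]
      refine Finset.sum_congr rfl fun χ _ => ?_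
      rw [hc χ, hd χ, conj_int]
      push_cast; ring
    exact Int.cast_injective h2
  have O4 : ∑ χ : IrrCharacter G, (c χ + d χ) * (f χ : ℤ) = 0 := by
    have h := second_orthogonality_sum_of_not_isConj t (1 : G)
      (fun hc => t_ne_one ht (isConj_one_left.mp hc))
    have h2 : ((∑ χ : IrrCharacter G, (c χ + d χ) * (f χ : ℤ) : ℤ) : ℂ) = ((0 : ℤ) : ℂ) := by
      rw [Int.cast_sum, Int.cast_zero, ← h]
      refine Finset.sum_congr rfl fun χ _ => ?_
      rw [hc χ, hf χ, Complex.conj_natCast]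
      push_cast; ring
    exact Int.cast_injective h2
  have ha1 : phi e (r 1) ≠ 1 := by
    intro h
    rw [← map_one (phi e)] at h
    have := phi_injective e h
    revert this
    decide
  have O5 : ∑ χ : IrrCharacter G, (c χ - d χ) * (f χ : ℤ) = 0 := by
    have h := second_orthogonality_sum_of_not_isConj (phi e (r 1)) (1 : G)
      (fun hc => ha1 (isConj_one_left.mp hc))
    have h2 : ((∑ χ : IrrCharacter G, (c χ - d χ) * (f χ : ℤ) : ℤ) : ℂ) = ((0 : ℤ) : ℂ) := by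
      rw [Int.cast_sum, Int.cast_zero, ← h]
      refine Finset.sum_congr rfl fun χ _ => ?_
      rw [hd χ, hf χ, Complex.conj_natCast]
      push_cast; ring
    exact Int.cast_injective h2
  have Scc : ∑ χ : IrrCharacter G, c χ ^ 2 = 3 := by
    have : ∑ χ : IrrCharacter G, (c χ + d χ) ^ 2 + ∑ χ : IrrCharacter G, (c χ - d χ) ^ 2 +
        2 * ∑ χ : IrrCharacter G, (c χ + d χ) * (c χ - d χ) =
        4 * ∑ χ : IrrCharacter G, c χ ^ 2 := by
      rw [Finset.mul_sum, Finset.mul_sum, ← Finset.sum_add_distrib, ← Finset.sum_add_distrib]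
      exact Finset.sum_congr rfl fun χ _ => by ring
    linarith
  have Sdd : ∑ χ : IrrCharacter G, d χ ^ 2 = 3 := by
    have : ∑ χ : IrrCharacter G, (c χ + d χ) ^ 2 + ∑ χ : IrrCharacter G, (c χ - d χ) ^ 2 -
        2 * ∑ χ : IrrCharacter G, (c χ + d χ) * (c χ - d χ) =
        4 * ∑ χ : IrrCharacter G, d χ ^ 2 := by
      rw [Finset.mul_sum, Finset.mul_sum, ← Finset.sum_add_distrib, ← Finset.sum_sub_distrib]
      exact Finset.sum_congr rfl fun χ _ => by ring
    linarith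
  have Scd : ∑ χ : IrrCharacter G, c χ * d χ = 1 := by
    have : ∑ χ : IrrCharacter G, (c χ + d χ) ^ 2 - ∑ χ : IrrCharacter G, (c χ - d χ) ^ 2 =
        4 * ∑ χ : IrrCharacter G, c χ * d χ := by
      rw [Finset.mul_sum, ← Finset.sum_sub_distrib]
      exact Finset.sum_congr rfl fun χ _ => by ring
    linarith
  have Scf : ∑ χ : IrrCharacter G, c χ * (f χ : ℤ) = 0 := by
    have : ∑ χ : IrrCharacter G, (c χ + d χ) * (f χ : ℤ) +
        ∑ χ : IrrCharacter G, (c χ - d χ) * (f χ : ℤ) =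
        2 * ∑ χ : IrrCharacter G, c χ * (f χ : ℤ) := by
      rw [Finset.mul_sum, ← Finset.sum_add_distrib]
      exact Finset.sum_congr rfl fun χ _ => by ring
    linarith
  obtain ⟨i, j, hi0, hj0, hij, hci, hcj, hzero⟩ :=
    Cfsg.Agent.Lib.Helper14.BSChar.three_squares c χ₀ hc0.1 Scc
  have hzero' : ∀ k, k ≠ χ₀ → k ≠ i → k ≠ j → c k = 0 := hzero
  have hdeg : 1 + c i * (f i : ℤ) + c j * (f j : ℤ) = 0 := by
    have h := sum_three (fun χ => c χ * (f χ : ℤ)) χ₀ i j (Ne.symm hi0) (Ne.symm hj0) hij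
      (fun k h1 h2 h3 => by simp only [hzero' k h1 h2 h3, zero_mul])
    rw [Scf] at h
    simp only [hc0.1, hf00] at h
    push_cast at h
    linarith
  have hcd : c i * d i + c j * d j = 1 := by
    have h := sum_three (fun χ => c χ * d χ) χ₀ i j (Ne.symm hi0) (Ne.symm hj0) hij
      (fun k h1 h2 h3 => by simp only [hzero' k h1 h2 h3, zero_mul])
    rw [Scd] at h
    simp only [hc0.1, hc0.2] at h
    linarith
  have hdd : d i ^ 2 + d j ^ 2 ≤ 3 := by
    have h := Finset.sum_le_sum_of_subset_of_nonneg (Finset.subset_univ ({i, j} : Finset _))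
      (f := fun χ => d χ ^ 2) (fun _ _ _ => sq_nonneg _)
    rw [Finset.sum_pair hij, Sdd] at h
    exact h
  -- the two pair counts
  have P1 := Cfsg.Agent.Lib.CT.ClassMult.conj_pair_count t t (phi e (r 2))
  rw [pair_count e gs hgs 2 (hdelta_two e ht), phi_r2 e ht] at P1
  have P2 := Cfsg.Agent.Lib.CT.ClassMult.conj_pair_count t t (phi e (r 1))
  rw [pair_count e gs hgs 1 (hdelta_one e ht)] at P2
  have hcount : (Nat.card G : ℂ) * (1 + (c i : ℂ) * ((c i : ℂ) + (d i : ℂ)) ^ 2 / (f i : ℂ) +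
      (c j : ℂ) * ((c j : ℂ) + (d j : ℂ)) ^ 2 / (f j : ℂ)) = 256 := by
    have h := sum_three (fun χ => (c χ : ℂ) * ((c χ : ℂ) + (d χ : ℂ)) ^ 2 / (f χ : ℂ)) χ₀ i j
      (Ne.symm hi0) (Ne.symm hj0) hij
      (fun k h1 h2 h3 => by simp only [hzero' k h1 h2 h3, Int.cast_zero, zero_mul, zero_div])
    simp only [hc0.1, hc0.2, hf00] at h
    have h' : (1 : ℂ) + (c i : ℂ) * ((c i : ℂ) + (d i : ℂ)) ^ 2 / (f i : ℂ) +
        (c j : ℂ) * ((c j : ℂ) + (d j : ℂ)) ^ 2 / (f j : ℂ) =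
        ∑ χ : IrrCharacter G, (c χ : ℂ) * ((c χ : ℂ) + (d χ : ℂ)) ^ 2 / (f χ : ℂ) := by
      rw [h]; norm_num
    rw [h']
    have e1 : ∑ χ : IrrCharacter G, (c χ : ℂ) * ((c χ : ℂ) + (d χ : ℂ)) ^ 2 / (f χ : ℂ) =
        (1 / 2 : ℂ) * (∑ χ : IrrCharacter G,
          (χ : G → ℂ) t * (χ : G → ℂ) t * conj ((χ : G → ℂ) t) / (χ : G → ℂ) 1 +
        ∑ χ : IrrCharacter G,
          (χ : G → ℂ) t * (χ : G → ℂ) t * conj ((χ : G → ℂ) (phi e (r 1))) / (χ : G → ℂ) 1) := by
      rw [← Finset.sum_add_distrib, Finset.mul_sum]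
      refine Finset.sum_congr rfl fun χ _ => ?_
      rw [hc χ, hd χ, hf χ, conj_int, conj_int]
      push_cast
      ring
    rw [e1, mul_comm (1 / 2 : ℂ), ← mul_assoc, mul_add, ← P1, ← P2]
    norm_num
  exact Cfsg.Agent.Lib.Helper14.D8Arith.arith (Nat.card G) (card_mod e ht) (c i) (c j) (d i)
    (d j) (f i) (f j) (hf0 i) (hf0 j) hci hcj hdeg hcd hdd hcount


end Cfsg.Agent.Lib.Helper14.D8Gen
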