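import Mathlib
import Cfsg.Agent.Lib.Helper14.D8Gen
import Cfsg.Agent.Lib.Helper14.BSKer

set_option autoImplicit false

/-!
# Dihedral involution centralizer of order 8 with all involutions conjugate: the group is simple
-/

namespace Cfsg.Agent.Lib.Helper14.D8Simple

open DihedralGroup Cfsg.Agent.Lib.Helper14.D8Group

variable {G : Type*} [Group G] {t : G}

/-- an involution acting without fixed points on a finite normal subgroup inverts it -/
theorem inverts [Finite G] (N : Subgroup G) [hN : N.Normal] (u : G) (hu : u * u = 1)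
    (hcent : ∀ x ∈ N, u * x = x * u → x = 1) : ∀ x ∈ N, u * x * u⁻¹ = x⁻¹ := by
  have huinv : u⁻¹ = u := inv_eq_of_mul_eq_one_left hu
  let f : N → N := fun n =>
    ⟨n.1⁻¹ * (u * n.1 * u⁻¹), N.mul_mem (N.inv_mem n.2) (hN.conj_mem _ n.2 u)⟩
  have hf : Function.Injective f := by
    intro n m h
    have h' : n.1⁻¹ * (u * n.1 * u⁻¹) = m.1⁻¹ * (u * m.1 * u⁻¹) := congrArg Subtype.val h
    have h2 : m.1 * n.1⁻¹ = u * (m.1 * n.1⁻¹) * u⁻¹ := by
      calc m.1 * n.1⁻¹ = m.1 * (n.1⁻¹ * (u * n.1 * u⁻¹)) * (u * n.1⁻¹ * u⁻¹) := by group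
        _ = m.1 * (m.1⁻¹ * (u * m.1 * u⁻¹)) * (u * n.1⁻¹ * u⁻¹) := by rw [h']
        _ = u * (m.1 * n.1⁻¹) * u⁻¹ := by group
    have h1 : u * (m.1 * n.1⁻¹) = (m.1 * n.1⁻¹) * u := by
      calc u * (m.1 * n.1⁻¹) = u * (m.1 * n.1⁻¹) * u⁻¹ * u := by group
        _ = (m.1 * n.1⁻¹) * u := by rw [← h2]
    have h3 := hcent _ (N.mul_mem m.2 (N.inv_mem n.2)) h1
    apply Subtype.ext
    have : m.1 = n.1 := by rw [← mul_inv_eq_one]; exact h3
    exact this.symm
  have hs := Finite.surjective_of_injective hf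
  intro x hx
  obtain ⟨n, hn⟩ := hs ⟨x, hx⟩
  have hx' : x = n.1⁻¹ * (u * n.1 * u⁻¹) := (congrArg Subtype.val hn).symm
  rw [hx', huinv]
  have h4 : (n.1⁻¹ * (u * n.1 * u))⁻¹ = u⁻¹ * n.1⁻¹ * u⁻¹ * n.1 := by group
  rw [h4, huinv]
  calc u * (n.1⁻¹ * (u * n.1 * u)) * u = u * n.1⁻¹ * u * n.1 * (u * u) := by group
    _ = u * n.1⁻¹ * u * n.1 := by rw [hu, mul_one]

variable (e : Subgroup.centralizer ({t} : Set G) ≃* DihedralGroup 4)

include e

theorem odd_normal_trivial [Finite G] (ht : orderOf t = 2)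
    (hconj : ∀ i : ZMod 4, ∃ g : G, g * t * g⁻¹ = phi e (sr i))
    (N : Subgroup G) [N.Normal] (hodd : ¬ 2 ∣ Nat.card N) : N = ⊥ := by
  have hcop2 : Nat.Coprime 2 (Nat.card N) :=
    (Nat.Prime.coprime_iff_not_dvd Nat.prime_two).mpr hodd
  have hpowN : ∀ x ∈ N, x ^ Nat.card N = 1 := by
    intro x hx
    have := pow_card_eq_one' (G := N) (x := ⟨x, hx⟩)
    exact congrArg Subtype.val this
  have hone : ∀ x ∈ N, ∀ k : ℕ, x ^ (2 ^ k) = 1 → x = 1 := by
    intro x hx k hk
    have h1 : orderOf x ∣ 2 ^ k := orderOf_dvd_of_pow_eq_one hk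
    have h2 : orderOf x ∣ Nat.card N := orderOf_dvd_of_pow_eq_one (hpowN x hx)
    have h3 : orderOf x ∣ Nat.gcd (2 ^ k) (Nat.card N) := Nat.dvd_gcd h1 h2
    have h4 : Nat.gcd (2 ^ k) (Nat.card N) = 1 := Nat.Coprime.pow_left k hcop2
    rw [h4, Nat.dvd_one] at h3
    exact orderOf_eq_one_iff.mp h3
  have hcent : ∀ (g : G) (x : G), x ∈ N → (g * t * g⁻¹) * x = x * (g * t * g⁻¹) → x = 1 := by
    intro g x hx hc
    have h1 : (g⁻¹ * x * g) * t = t * (g⁻¹ * x * g) := by
      calc g⁻¹ * x * g * t = g⁻¹ * (x * (g * t * g⁻¹)) * g := by group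
        _ = g⁻¹ * ((g * t * g⁻¹) * x) * g := by rw [hc]
        _ = _ := by group
    obtain ⟨y, hy⟩ := exists_phi e h1
    have hy8 : y ^ (2 ^ 3) = 1 := by
      have key : ∀ y : DihedralGroup 4, y ^ (2 ^ 3) = 1 := by decide
      exact key y
    have hxg : x = g * phi e y * g⁻¹ := by rw [hy]; group
    apply hone x hx 3
    rw [hxg, conj_pow, ← map_pow, hy8, map_one]
    group
  obtain ⟨g₀, hg₀⟩ := hconj 0
  obtain ⟨g₂, hg₂⟩ := hconj 2
  have h₁ : ∀ x ∈ N, t * x * t⁻¹ = x⁻¹ :=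
    inverts N t (t_sq ht) (fun x hx hc => hcent 1 x hx (by simpa using hc))
  have h₂ : ∀ x ∈ N, phi e (sr 0) * x * (phi e (sr 0))⁻¹ = x⁻¹ :=
    inverts N _ (by rw [← map_mul]; simp) (fun x hx hc => hcent g₀ x hx (by rw [hg₀]; exact hc))
  have h₃ : ∀ x ∈ N, phi e (sr 2) * x * (phi e (sr 2))⁻¹ = x⁻¹ :=
    inverts N _ (by rw [← map_mul]; simp) (fun x hx hc => hcent g₂ x hx (by rw [hg₂]; exact hc))
  have h02 : phi e (sr 2) = t * phi e (sr 0) := by
    have h : (sr 2 : DihedralGroup 4) = r 2 * sr 0 := by decide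
    rw [h, map_mul, phi_r2 e ht]
  rw [Subgroup.eq_bot_iff_forall]
  intro x hx
  have h5 : x⁻¹ = x := by
    have h6 := h₃ x hx
    rw [h02] at h6
    have h7 : t * phi e (sr 0) * x * (t * phi e (sr 0))⁻¹ =
        t * (phi e (sr 0) * x * (phi e (sr 0))⁻¹) * t⁻¹ := by group
    rw [h7, h₂ x hx, h₁ x⁻¹ (N.inv_mem hx), inv_inv] at h6
    exact h6.symm
  apply hone x hx 1
  rw [pow_one, sq]
  calc x * x = x * x⁻¹ := by rw [h5]
    _ = 1 := mul_inv_cancel x

theorem involution_conj [Finite G] (ht : orderOf t = 2)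
    (hconj : ∀ i : ZMod 4, ∃ g : G, g * t * g⁻¹ = phi e (sr i)) (u : G) (hu : orderOf u = 2) :
    ∃ k : G, k * t * k⁻¹ = u := by
  obtain ⟨P, hP⟩ := exists_sylow e ht
  obtain ⟨g, hg⟩ := Cfsg.Agent.Lib.Helper14.BSKer.exists_conj_involution P u hu
  rw [hP, Subgroup.mem_centralizer_singleton_iff] at hg
  obtain ⟨x, hx⟩ := exists_phi e hg
  have hxx : x * x = 1 := by
    apply phi_injective e
    rw [map_mul, map_one, hx]
    calc g * u * g⁻¹ * (g * u * g⁻¹) = g * (u * u) * g⁻¹ := by group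
      _ = 1 := by rw [t_sq hu]; group
  have hx1 : x ≠ 1 := by
    rintro rfl
    rw [map_one] at hx
    apply t_ne_one hu
    calc u = g⁻¹ * (g * u * g⁻¹) * g := by group
      _ = 1 := by rw [← hx]; group
  have hu' : u = g⁻¹ * phi e x * g := by rw [hx]; group
  by_cases hx2 : x = r 2
  · refine ⟨g⁻¹, ?_⟩
    rw [hu', hx2, phi_r2 e ht, inv_inv]
  · obtain ⟨i, hi⟩ := d8_invol x hxx hx1 hx2
    obtain ⟨k, hk⟩ := hconj i
    refine ⟨g⁻¹ * k, ?_⟩
    rw [hu', hi, ← hk]
    group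

theorem normalizer_le (ht : orderOf t = 2) (n : G)
    (hn : ∀ x : G, x * t = t * x → (n * x * n⁻¹) * t = t * (n * x * n⁻¹))
    (hn' : ∀ x : G, x * t = t * x → (n⁻¹ * x * n) * t = t * (n⁻¹ * x * n)) : n * t = t * n := by
  have h1 := hn t rfl
  obtain ⟨x, hx⟩ := exists_phi e h1
  have hcen : ∀ y : DihedralGroup 4, x * y = y * x := by
    intro y
    apply phi_injective e
    rw [map_mul, map_mul, hx]
    have h2 := hn' (phi e y) (phi_comm e y)
    calc n * t * n⁻¹ * phi e y = n * (t * (n⁻¹ * phi e y * n)) * n⁻¹ := by group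
      _ = n * ((n⁻¹ * phi e y * n) * t) * n⁻¹ := by rw [h2]
      _ = phi e y * (n * t * n⁻¹) := by group
  rcases d8_center x hcen with h | h
  · exfalso
    rw [h, map_one] at hx
    apply t_ne_one ht
    calc t = n⁻¹ * (n * t * n⁻¹) * n := by group
      _ = 1 := by rw [← hx]; group
  · rw [h, phi_r2 e ht] at hx
    calc n * t = n * t * n⁻¹ * n := by group
      _ = t * n := by rw [← hx]

theorem simple_of_conj [Finite G] (ht : orderOf t = 2)
    (hconj : ∀ i : ZMod 4, ∃ g : G, g * t * g⁻¹ = phi e (sr i)) : IsSimpleGroup G := by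
  have : Fact (Nat.Prime 2) := ⟨Nat.prime_two⟩
  have hnt : Nontrivial G := ⟨⟨t, 1, t_ne_one ht⟩⟩
  refine { exists_pair_ne := hnt.exists_pair_ne, eq_bot_or_eq_top_of_normal := fun N hN => ?_ }
  by_cases hodd : 2 ∣ Nat.card N
  · right
    obtain ⟨u, hu⟩ := exists_prime_orderOf_dvd_card' 2 hodd
    have hu' : orderOf (u : G) = 2 := by rw [Subgroup.orderOf_coe]; exact hu
    obtain ⟨k, hk⟩ := involution_conj e ht hconj u hu'
    have htN : t ∈ N := by
      have : t = k⁻¹ * u * k⁻¹⁻¹ := by rw [← hk]; group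
      rw [this]
      exact hN.conj_mem _ u.2 _
    have hsrN : ∀ i : ZMod 4, phi e (sr i) ∈ N := by
      intro i
      obtain ⟨g, hg⟩ := hconj i
      rw [← hg]
      exact hN.conj_mem _ htN _
    obtain ⟨P, hP⟩ := exists_sylow e ht
    have hPN : (P : Subgroup G) ≤ N := by
      rw [hP]
      intro c hc
      rw [Subgroup.mem_centralizer_singleton_iff] at hc
      obtain ⟨x, rfl⟩ := exists_phi e hc
      have key : ∀ x : DihedralGroup 4, ∃ i j : ZMod 4, x = sr i ∨ x = sr i * sr j := by decide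
      obtain ⟨i, j, h | h⟩ := key x
      · rw [h]; exact hsrN i
      · rw [h, map_mul]; exact N.mul_mem (hsrN i) (hsrN j)
    have hfr := Sylow.normalizer_sup_eq_top (P.subtype hPN)
    have hmap : ((P.subtype hPN : Sylow 2 N) : Subgroup N).map N.subtype = (P : Subgroup G) := by
      rw [Sylow.coe_subtype, Subgroup.map_subgroupOf_eq_of_le hPN]
    rw [hmap] at hfr
    have hnorm : Subgroup.normalizer ((P : Subgroup G) : Set G) ≤ N := by
      intro n hn
      apply hPN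
      rw [hP, Subgroup.mem_centralizer_singleton_iff]
      rw [Subgroup.mem_normalizer_iff] at hn
      refine normalizer_le e ht n (fun x hx => ?_) (fun x hx => ?_)
      · have hx' : x ∈ (P : Subgroup G) := by
          rw [hP, Subgroup.mem_centralizer_singleton_iff]; exact hx
        have := (hn x).mp hx'
        rw [hP, Subgroup.mem_centralizer_singleton_iff] at this
        exact this
      · have hx' : x ∈ (P : Subgroup G) := by
          rw [hP, Subgroup.mem_centralizer_singleton_iff]; exact hx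
        have h3 : n * (n⁻¹ * x * n) * n⁻¹ ∈ (P : Subgroup G) := by
          have : n * (n⁻¹ * x * n) * n⁻¹ = x := by group
          rw [this]; exact hx'
        have := (hn (n⁻¹ * x * n)).mpr h3
        rw [hP, Subgroup.mem_centralizer_singleton_iff] at this
        exact this
    rw [← hfr]
    exact (sup_le hnorm le_rfl).antisymm le_sup_right |>.symm ▸ rfl
  · left
    exact odd_normal_trivial e ht hconj N hodd

end Cfsg.Agent.Lib.Helper14.D8Simple
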