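import Mathlib

set_option autoImplicit false

/-!
# Arithmetic for a group with an involution whose centralizer is a four-group
-/

namespace Cfsg.Agent.Lib.Helper14.V4Arith

/-- one negative sign: the third degree is `f₁ + f₂ + 1` -/
theorem coreA (N f₁ f₂ : ℕ) (hN : N % 8 = 4) (h1 : 0 < f₁) (h2 : 0 < f₂)
    (h : N * (f₁ * f₂ * (f₁ + f₂ + 1) + f₂ * (f₁ + f₂ + 1) + f₁ * (f₁ + f₂ + 1)) =
      32 * (f₁ * f₂ * (f₁ + f₂ + 1)) + N * (f₁ * f₂))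
    (E3 : 1 + f₁ ^ 2 + f₂ ^ 2 + (f₁ + f₂ + 1) ^ 2 ≤ N) : N = 12 := by
  have hP : 0 < f₁ * f₂ * (f₁ + f₂ + 1) := by positivity
  have hN32 : N ≤ 32 := by
    by_contra hgt
    push Not at hgt
    have e1 : 33 * (f₁ * f₂ * (f₁ + f₂ + 1)) ≤ N * (f₁ * f₂ * (f₁ + f₂ + 1)) :=
      Nat.mul_le_mul_right _ hgt
    have e2 : N * (f₁ * f₂) ≤ N * (f₁ * (f₁ + f₂ + 1)) :=
      Nat.mul_le_mul_left _ (Nat.mul_le_mul_left _ (by omega))
    have e3 : N * (f₁ * f₂ * (f₁ + f₂ + 1) + f₂ * (f₁ + f₂ + 1) + f₁ * (f₁ + f₂ + 1)) =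
        N * (f₁ * f₂ * (f₁ + f₂ + 1)) + N * (f₂ * (f₁ + f₂ + 1)) +
          N * (f₁ * (f₁ + f₂ + 1)) := by ring
    have e4 : 0 ≤ N * (f₂ * (f₁ + f₂ + 1)) := Nat.zero_le _
    omega
  have h5 : f₁ + f₂ ≤ 4 := by
    by_contra hgt
    push Not at hgt
    have : 6 * 6 ≤ (f₁ + f₂ + 1) * (f₁ + f₂ + 1) := Nat.mul_le_mul (by omega) (by omega)
    nlinarith
  have h6 : f₁ ≤ 3 := by omega
  have h7 : f₂ ≤ 3 := by omega
  interval_cases f₁ <;> interval_cases f₂ <;> omega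

/-- two negative signs: the degrees are `a + b + 1`, `a + 1`, `b + 1` -/
theorem coreB (N a b : ℕ) (hN : N % 8 = 4)
    (h : N * ((a + b + 2) * a * b) = 32 * ((a + b + 1) * (a + 1) * (b + 1)))
    (E3 : 1 + (a + b + 1) ^ 2 + (a + 1) ^ 2 + (b + 1) ^ 2 ≤ N) : N = 60 := by
  have ha : 0 < a := by
    rcases Nat.eq_zero_or_pos a with h0 | h0
    · subst h0
      simp at h
    · exact h0
  have hb : 0 < b := by
    rcases Nat.eq_zero_or_pos b with h0 | h0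
    · subst h0
      simp at h
    · exact h0
  have hQ : 0 < (a + b + 2) * a * b := by positivity
  have hN128 : N ≤ 128 := by
    have e1 : (a + b + 1) * (a + 1) * (b + 1) ≤ (a + b + 2) * (2 * a) * (2 * b) :=
      Nat.mul_le_mul (Nat.mul_le_mul (by omega) (by omega)) (by omega)
    have e2 : (a + b + 2) * (2 * a) * (2 * b) = 4 * ((a + b + 2) * a * b) := by ring
    have e3 : N * ((a + b + 2) * a * b) ≤ 128 * ((a + b + 2) * a * b) := by omega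
    exact Nat.le_of_mul_le_mul_right e3 hQ
  have h5 : a + b ≤ 10 := by
    by_contra hgt
    push Not at hgt
    have : 12 * 12 ≤ (a + b + 1) * (a + b + 1) := Nat.mul_le_mul (by omega) (by omega)
    nlinarith
  have h6 : a ≤ 9 := by omega
  have h7 : b ≤ 9 := by omega
  interval_cases a <;> interval_cases b <;> omega

theorem arith (N : ℕ) (hN : N % 8 = 4) (ε₁ ε₂ ε₃ : ℤ) (f₁ f₂ f₃ : ℕ) (h1 : 0 < f₁)
    (h2 : 0 < f₂) (h3 : 0 < f₃) (hε₁ : ε₁ = 1 ∨ ε₁ = -1) (hε₂ : ε₂ = 1 ∨ ε₂ = -1)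
    (hε₃ : ε₃ = 1 ∨ ε₃ = -1)
    (E1 : 1 + ε₁ * f₁ + ε₂ * f₂ + ε₃ * f₃ = 0)
    (E2 : (N : ℂ) * (1 + ε₁ / f₁ + ε₂ / f₂ + ε₃ / f₃) = 32)
    (E3 : 1 + f₁ ^ 2 + f₂ ^ 2 + f₃ ^ 2 ≤ N) : N = 12 ∨ N = 60 := by
  have hne1 : (f₁ : ℂ) ≠ 0 := by exact_mod_cast h1.ne'
  have hne2 : (f₂ : ℂ) ≠ 0 := by exact_mod_cast h2.ne'
  have hne3 : (f₃ : ℂ) ≠ 0 := by exact_mod_cast h3.ne'
  have keyC : (N : ℂ) * ((f₁ : ℂ) * f₂ * f₃ + ε₁ * (f₂ * f₃) + ε₂ * (f₁ * f₃) + ε₃ * (f₁ * f₂)) =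
      32 * ((f₁ : ℂ) * f₂ * f₃) := by
    have : (N : ℂ) * ((f₁ : ℂ) * f₂ * f₃ + ε₁ * (f₂ * f₃) + ε₂ * (f₁ * f₃) + ε₃ * (f₁ * f₂)) =
        (N : ℂ) * (1 + ε₁ / f₁ + ε₂ / f₂ + ε₃ / f₃) * ((f₁ : ℂ) * f₂ * f₃) := by
      field_simp
    rw [this, E2]
  have key : (N : ℤ) * ((f₁ : ℤ) * f₂ * f₃ + ε₁ * (f₂ * f₃) + ε₂ * (f₁ * f₃) + ε₃ * (f₁ * f₂)) =
      32 * ((f₁ : ℤ) * f₂ * f₃) := by exact_mod_cast keyC
  rcases hε₁ with rfl | rfl <;> rcases hε₂ with rfl | rfl <;> rcases hε₃ with rfl | rfl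
  · exfalso; omega
  · -- + + -
    left
    have hf : f₃ = f₁ + f₂ + 1 := by omega
    subst hf
    refine coreA N f₁ f₂ hN h1 h2 ?_ E3
    have : ((N * (f₁ * f₂ * (f₁ + f₂ + 1) + f₂ * (f₁ + f₂ + 1) + f₁ * (f₁ + f₂ + 1)) : ℕ) : ℤ) =
        ((32 * (f₁ * f₂ * (f₁ + f₂ + 1)) + N * (f₁ * f₂) : ℕ) : ℤ) := by
      push_cast
      push_cast at key
      linear_combination key
    exact_mod_cast this
  · -- + - +
    left
    have hf : f₂ = f₁ + f₃ + 1 := by omega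
    subst hf
    refine coreA N f₁ f₃ hN h1 h3 ?_ (by linarith)
    have : ((N * (f₁ * f₃ * (f₁ + f₃ + 1) + f₃ * (f₁ + f₃ + 1) + f₁ * (f₁ + f₃ + 1)) : ℕ) : ℤ) =
        ((32 * (f₁ * f₃ * (f₁ + f₃ + 1)) + N * (f₁ * f₃) : ℕ) : ℤ) := by
      push_cast
      push_cast at key
      linear_combination key
    exact_mod_cast this
  · -- + - - : f₁ + 1 = f₂ + f₃
    right
    obtain ⟨a, rfl⟩ : ∃ a, f₂ = a + 1 := ⟨f₂ - 1, by omega⟩
    obtain ⟨b, rfl⟩ : ∃ b, f₃ = b + 1 := ⟨f₃ - 1, by omega⟩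
    have hf : f₁ = a + b + 1 := by omega
    subst hf
    refine coreB N a b hN ?_ (by linarith)
    have : ((N * ((a + b + 2) * a * b) : ℕ) : ℤ) =
        ((32 * ((a + b + 1) * (a + 1) * (b + 1)) : ℕ) : ℤ) := by
      push_cast
      push_cast at key
      linear_combination key
    exact_mod_cast this
  · -- - + +
    left
    have hf : f₁ = f₂ + f₃ + 1 := by omega
    subst hf
    refine coreA N f₂ f₃ hN h2 h3 ?_ (by linarith)
    have : ((N * (f₂ * f₃ * (f₂ + f₃ + 1) + f₃ * (f₂ + f₃ + 1) + f₂ * (f₂ + f₃ + 1)) : ℕ) : ℤ) =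
        ((32 * (f₂ * f₃ * (f₂ + f₃ + 1)) + N * (f₂ * f₃) : ℕ) : ℤ) := by
      push_cast
      push_cast at key
      linear_combination key
    exact_mod_cast this
  · -- - + - : f₂ + 1 = f₁ + f₃
    right
    obtain ⟨a, rfl⟩ : ∃ a, f₁ = a + 1 := ⟨f₁ - 1, by omega⟩
    obtain ⟨b, rfl⟩ : ∃ b, f₃ = b + 1 := ⟨f₃ - 1, by omega⟩
    have hf : f₂ = a + b + 1 := by omega
    subst hf
    refine coreB N a b hN ?_ (by linarith)
    have : ((N * ((a + b + 2) * a * b) : ℕ) : ℤ) =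
        ((32 * ((a + b + 1) * (a + 1) * (b + 1)) : ℕ) : ℤ) := by
      push_cast
      push_cast at key
      linear_combination key
    exact_mod_cast this
  · -- - - + : f₃ + 1 = f₁ + f₂
    right
    obtain ⟨a, rfl⟩ : ∃ a, f₁ = a + 1 := ⟨f₁ - 1, by omega⟩
    obtain ⟨b, rfl⟩ : ∃ b, f₂ = b + 1 := ⟨f₂ - 1, by omega⟩
    have hf : f₃ = a + b + 1 := by omega
    subst hf
    refine coreB N a b hN ?_ (by linarith)
    have : ((N * ((a + b + 2) * a * b) : ℕ) : ℤ) =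
        ((32 * ((a + b + 1) * (a + 1) * (b + 1)) : ℕ) : ℤ) := by
      push_cast
      push_cast at key
      linear_combination key
    exact_mod_cast this
  · exfalso; omega

end Cfsg.Agent.Lib.Helper14.V4Arith
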