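import Mathlib
import Cfsg.Agent.Lib.Helper14.V4Arith
import Cfsg.Agent.Lib.Helper14.D8Char

set_option autoImplicit false

/-!
# A group with an involution whose centralizer is a four-group with all involutions conjugate,
of order `4 mod 8`, has order 12 or 60
-/

namespace Cfsg.Agent.Lib.Helper14.V4Char

open Cfsg Cfsg.Agent.Lib.CT.Wedderburn Cfsg.Agent.Lib.CT.Orth
open Cfsg.Agent.Lib.Helper14.D8Char
open scoped ComplexConjugate

/-- integer combinatorics: a sum of squares equal to 4 with one coefficient 1 -/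
theorem four_squares {ι : Type*} [Fintype ι] [DecidableEq ι] (c : ι → ℤ) (t : ι) (ht : c t = 1)
    (hsum : ∑ i, c i ^ 2 = 4) :
    ∃ i j k, i ≠ t ∧ j ≠ t ∧ k ≠ t ∧ i ≠ j ∧ i ≠ k ∧ j ≠ k ∧ (c i = 1 ∨ c i = -1) ∧
      (c j = 1 ∨ c j = -1) ∧ (c k = 1 ∨ c k = -1) ∧
      ∀ l, l ≠ t → l ≠ i → l ≠ j → l ≠ k → c l = 0 := by
  classical
  have h1 : ∑ i ∈ Finset.univ.erase t, c i ^ 2 = 3 := by
    have := Finset.add_sum_erase Finset.univ (fun i => c i ^ 2) (Finset.mem_univ t)
    simp only [ht] at this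
    linarith
  set T := (Finset.univ.erase t).filter (fun i => c i ≠ 0) with hT
  have h2 : ∑ i ∈ T, c i ^ 2 = 3 := by
    rw [← h1, hT]
    apply Finset.sum_subset (Finset.filter_subset _ _)
    intro i hi hni
    rw [Finset.mem_filter] at hni
    push Not at hni
    rw [hni hi]
    ring
  have hmemT : ∀ i, i ∈ T ↔ i ≠ t ∧ c i ≠ 0 := by
    intro i
    rw [hT, Finset.mem_filter, Finset.mem_erase]
    simp
  have hpm : ∀ i ∈ T, c i = 1 ∨ c i = -1 := by
    intro i hi
    have hne : c i ≠ 0 := ((hmemT i).mp hi).2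
    have hle : c i ^ 2 ≤ 3 := by
      rw [← h2]
      exact Finset.single_le_sum (f := fun i => c i ^ 2) (fun j _ => sq_nonneg (c j)) hi
    have h3 : c i ≤ 1 := by nlinarith
    have h4 : -1 ≤ c i := by nlinarith
    omega
  have hcard : T.card = 3 := by
    have : ∑ i ∈ T, c i ^ 2 = ∑ i ∈ T, (1 : ℤ) := by
      refine Finset.sum_congr rfl fun i hi => ?_
      rcases hpm i hi with h | h <;> rw [h] <;> norm_num
    rw [h2] at this
    simp at this
    exact_mod_cast this.symm
  obtain ⟨i, j, k, hij, hik, hjk, hTe⟩ := Finset.card_eq_three.mp hcard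
  have hi : i ∈ T := by rw [hTe]; simp
  have hj : j ∈ T := by rw [hTe]; simp
  have hk : k ∈ T := by rw [hTe]; simp
  refine ⟨i, j, k, ((hmemT i).mp hi).1, ((hmemT j).mp hj).1, ((hmemT k).mp hk).1, hij, hik, hjk,
    hpm i hi, hpm j hj, hpm k hk, ?_⟩
  intro l hlt hli hlj hlk
  by_contra hne
  have hl : l ∈ T := (hmemT l).mpr ⟨hlt, hne⟩
  rw [hTe] at hl
  simp only [Finset.mem_insert, Finset.mem_singleton] at hl
  rcases hl with h | h | h
  · exact hli h
  · exact hlj h
  · exact hlk h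

theorem sum_four {ι : Type*} [Fintype ι] [DecidableEq ι] {R : Type*} [AddCommMonoid R]
    (F : ι → R) (a b c d : ι) (hab : a ≠ b) (hac : a ≠ c) (had : a ≠ d) (hbc : b ≠ c)
    (hbd : b ≠ d) (hcd : c ≠ d)
    (h : ∀ k, k ≠ a → k ≠ b → k ≠ c → k ≠ d → F k = 0) :
    ∑ k, F k = F a + F b + F c + F d := by
  rw [← Finset.sum_subset (Finset.subset_univ {a, b, c, d})]
  · rw [Finset.sum_insert (by simp [hab, hac, had]), Finset.sum_insert (by simp [hbc, hbd]),
      Finset.sum_insert (by simp [hcd]), Finset.sum_singleton]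
    simp only [add_assoc]
  · intro k _ hk
    simp only [Finset.mem_insert, Finset.mem_singleton, not_or] at hk
    exact h k hk.1 hk.2.1 hk.2.2.1 hk.2.2.2

universe u
variable {H : Type u} [Group H]

/-- the subgroup generated by an involution -/
def pair (z : H) (hz : z * z = 1) : Subgroup H where
  carrier := {x | x = 1 ∨ x = z}
  mul_mem' := by
    rintro a b (rfl | rfl) (rfl | rfl)
    · left; simp
    · right; simp
    · right; simp
    · left; exact hz
  one_mem' := Or.inl rfl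
  inv_mem' := by
    rintro a (rfl | rfl)
    · left; simp
    · right; exact inv_eq_of_mul_eq_one_left hz

theorem char_involution_int {χ : H → ℂ} (hχ : IsCharacter H χ) (z : H) (hz : z * z = 1)
    (hz1 : z ≠ 1) (f : ℕ) (hf : χ 1 = f) : ∃ c : ℤ, χ z = (c : ℂ) := by
  classical
  have hfin : Fintype (pair z hz) :=
    Fintype.subtype ({1, z} : Finset H)
      (fun x => by simp only [Finset.mem_insert, Finset.mem_singleton]; exact Iff.rfl)
  obtain ⟨m, hm⟩ := Cfsg.Agent.Lib.CT.PairCount.char_sum_subgroup hχ (pair z hz)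
  have hcard : Nat.card (pair z hz) = 2 := by
    rw [Nat.card_eq_fintype_card,
      Fintype.card_of_subtype ({1, z} : Finset H)
        (fun x => by simp only [Finset.mem_insert, Finset.mem_singleton]; exact Iff.rfl)]
    rw [Finset.card_insert_of_notMem (by simpa using hz1.symm), Finset.card_singleton]
  have hsum : ∑ w : pair z hz, χ (w : H) = χ 1 + χ z := by
    rw [← Finset.sum_subtype ({1, z} : Finset H)
      (fun x => by simp only [Finset.mem_insert, Finset.mem_singleton]; exact Iff.rfl)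
      (fun x => χ x)]
    rw [Finset.sum_insert (by simpa using hz1.symm), Finset.sum_singleton]
  rw [hsum, hcard, hf] at hm
  refine ⟨2 * m - f, ?_⟩
  push_cast
  linear_combination hm

theorem card_four_set [DecidableEq H] (z b : H) (hzz : z * z = 1)
    (hz1 : z ≠ 1) (hb1 : b ≠ 1) (hbz : b ≠ z) : ({1, z, b, z * b} : Finset H).card = 4 := by
  have hzb1 : z * b ≠ 1 := by
    intro h
    apply hbz
    calc b = z * z * b := by rw [hzz, one_mul]
      _ = z * (z * b) := by group
      _ = z := by rw [h, mul_one]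
  have hzbz : z * b ≠ z := by
    intro h
    exact hb1 (by simpa using h)
  have hzbb : z * b ≠ b := by
    intro h
    exact hz1 (by simpa using h)
  rw [Finset.card_insert_of_notMem, Finset.card_insert_of_notMem, Finset.card_insert_of_notMem,
    Finset.card_singleton]
  · simp only [Finset.mem_singleton]
    exact fun h => hzbb h.symm
  · simp only [Finset.mem_insert, Finset.mem_singleton, not_or]
    exact ⟨fun h => hbz h.symm, fun h => hzbz h.symm⟩
  · simp only [Finset.mem_insert, Finset.mem_singleton, not_or]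
    exact ⟨fun h => hz1 h.symm, fun h => hb1 h.symm, fun h => hzb1 h.symm⟩

theorem card_filter_conj [Fintype H] [DecidableEq H] (z b : H)
    (hcent : ∀ x : H, x * z = z * x ↔ x = 1 ∨ x = z ∨ x = b ∨ x = z * b) (hzz : z * z = 1)
    (hz1 : z ≠ 1) (hb1 : b ≠ 1) (hbz : b ≠ z) (g : H) (u : H) (hg : g * z * g⁻¹ = u) :
    (Finset.univ.filter fun x : H => x * z * x⁻¹ = u).card = 4 := by
  have himg : (Finset.univ.filter fun x : H => x * z * x⁻¹ = u) =
      ({1, z, b, z * b} : Finset H).image (fun x => g * x) := by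
    ext x
    simp only [Finset.mem_filter, Finset.mem_univ, true_and, Finset.mem_image,
      Finset.mem_insert, Finset.mem_singleton]
    constructor
    · intro hx
      refine ⟨g⁻¹ * x, ?_, by group⟩
      rw [← hcent]
      have h1 : x * z = g * z * g⁻¹ * x := by rw [hg, ← hx]; group
      calc g⁻¹ * x * z = g⁻¹ * (x * z) := by group
        _ = g⁻¹ * (g * z * g⁻¹ * x) := by rw [h1]
        _ = z * (g⁻¹ * x) := by group
    · rintro ⟨y, hy, rfl⟩
      rw [← hcent] at hy
      rw [← hg]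
      calc g * y * z * (g * y)⁻¹ = g * (y * z) * y⁻¹ * g⁻¹ := by group
        _ = g * (z * y) * y⁻¹ * g⁻¹ := by rw [hy]
        _ = g * z * g⁻¹ := by group
  rw [himg, Finset.card_image_of_injective _ (mul_right_injective g)]
  exact card_four_set z b hzz hz1 hb1 hbz

theorem card_centralizer_four [Finite H] (z b : H)
    (hcent : ∀ x : H, x * z = z * x ↔ x = 1 ∨ x = z ∨ x = b ∨ x = z * b) (hzz : z * z = 1)
    (hz1 : z ≠ 1) (hb1 : b ≠ 1) (hbz : b ≠ z) :
    Nat.card (Subgroup.centralizer ({z} : Set H)) = 4 := by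
  classical
  have : Fintype (Subgroup.centralizer ({z} : Set H)) := Fintype.ofFinite _
  rw [Nat.card_eq_fintype_card,
    Fintype.card_of_subtype ({1, z, b, z * b} : Finset H)
      (fun x => by
        rw [Subgroup.mem_centralizer_singleton_iff, hcent]
        simp only [Finset.mem_insert, Finset.mem_singleton])]
  exact card_four_set z b hzz hz1 hb1 hbz

/-- the number of pairs of conjugates of `z` with product `z` -/
theorem pair_count [Fintype H] [DecidableEq H] (z b : H)
    (hcent : ∀ x : H, x * z = z * x ↔ x = 1 ∨ x = z ∨ x = b ∨ x = z * b) (hzz : z * z = 1)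
    (hz1 : z ≠ 1) (hb1 : b ≠ 1) (hbz : b ≠ z)
    (g₁ : H) (hg₁ : g₁ * z * g₁⁻¹ = b) (g₂ : H) (hg₂ : g₂ * z * g₂⁻¹ = z * b) :
    (Finset.univ.filter fun p : H × H =>
      p.1 * z * p.1⁻¹ * (p.2 * z * p.2⁻¹) = z).card = 32 := by
  have hbz' : b * z = z * b := (hcent b).mpr (Or.inr (Or.inr (Or.inl rfl)))
  have hbb : b * b = 1 := by
    rw [← hg₁]
    calc g₁ * z * g₁⁻¹ * (g₁ * z * g₁⁻¹) = g₁ * (z * z) * g₁⁻¹ := by group
      _ = 1 := by rw [hzz]; group
  have hzbb : z * b ≠ b := by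
    intro h
    exact hz1 (by simpa using h)
  set A₁ := Finset.univ.filter fun x : H => x * z * x⁻¹ = b with hA₁
  set A₂ := Finset.univ.filter fun x : H => x * z * x⁻¹ = z * b with hA₂
  have hc₁ : A₁.card = 4 := card_filter_conj z b hcent hzz hz1 hb1 hbz g₁ b hg₁
  have hc₂ : A₂.card = 4 := card_filter_conj z b hcent hzz hz1 hb1 hbz g₂ (z * b) hg₂
  have hset : (Finset.univ.filter fun p : H × H =>
      p.1 * z * p.1⁻¹ * (p.2 * z * p.2⁻¹) = z) = (A₁ ×ˢ A₂) ∪ (A₂ ×ˢ A₁) := by
    ext ⟨g, h⟩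
    simp only [Finset.mem_filter, Finset.mem_univ, true_and, Finset.mem_union,
      Finset.mem_product, hA₁, hA₂]
    constructor
    · intro hgh
      -- u = g z g⁻¹ and v = h z h⁻¹ are involutions with u v = z
      have huu : g * z * g⁻¹ * (g * z * g⁻¹) = 1 := by
        calc g * z * g⁻¹ * (g * z * g⁻¹) = g * (z * z) * g⁻¹ := by group
          _ = 1 := by rw [hzz]; group
      have hvv : h * z * h⁻¹ * (h * z * h⁻¹) = 1 := by
        calc h * z * h⁻¹ * (h * z * h⁻¹) = h * (z * z) * h⁻¹ := by group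
          _ = 1 := by rw [hzz]; group
      have hv : h * z * h⁻¹ = g * z * g⁻¹ * z := by
        calc h * z * h⁻¹ = g * z * g⁻¹ * (g * z * g⁻¹) * (h * z * h⁻¹) := by rw [huu, one_mul]
          _ = g * z * g⁻¹ * (g * z * g⁻¹ * (h * z * h⁻¹)) := by group
          _ = g * z * g⁻¹ * z := by rw [hgh]
      have hcomm : g * z * g⁻¹ * z = z * (g * z * g⁻¹) := by
        have h3 : z * (g * z * g⁻¹) * (g * z * g⁻¹ * z) = 1 := by
          calc z * (g * z * g⁻¹) * (g * z * g⁻¹ * z)
              = z * (g * z * g⁻¹ * (g * z * g⁻¹)) * z := by group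
            _ = 1 := by rw [huu, mul_one, hzz]
        have h4 : g * z * g⁻¹ * z * (g * z * g⁻¹ * z) = 1 := by rw [← hv]; exact hvv
        calc g * z * g⁻¹ * z = (z * (g * z * g⁻¹) * (g * z * g⁻¹ * z)) * (g * z * g⁻¹ * z) := by
              rw [h3, one_mul]
          _ = z * (g * z * g⁻¹) * (g * z * g⁻¹ * z * (g * z * g⁻¹ * z)) := by group
          _ = z * (g * z * g⁻¹) := by rw [h4, mul_one]
      rcases (hcent _).mp hcomm with h1 | h1 | h1 | h1
      · exfalso
        apply hz1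
        calc z = g⁻¹ * (g * z * g⁻¹) * g := by group
          _ = 1 := by rw [h1]; group
      · exfalso
        rw [h1, hzz] at hv
        apply hz1
        calc z = h⁻¹ * (h * z * h⁻¹) * h := by group
          _ = 1 := by rw [hv]; group
      · left
        refine ⟨h1, ?_⟩
        rw [hv, h1, hbz']
      · right
        refine ⟨h1, ?_⟩
        rw [hv, h1]
        calc z * b * z = z * (b * z) := by group
          _ = z * (z * b) := by rw [hbz']
          _ = z * z * b := by group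
          _ = b := by rw [hzz, one_mul]
    · rintro (⟨h1, h2⟩ | ⟨h1, h2⟩)
      · rw [h1, h2]
        calc b * (z * b) = b * z * b := by group
          _ = z * b * b := by rw [hbz']
          _ = z * (b * b) := by group
          _ = z := by rw [hbb, mul_one]
      · rw [h1, h2]
        calc z * b * b = z * (b * b) := by group
          _ = z := by rw [hbb, mul_one]
  rw [hset, Finset.card_union_of_disjoint, Finset.card_product, Finset.card_product, hc₁, hc₂]
  rw [Finset.disjoint_left]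
  rintro ⟨g, h⟩ h1 h2
  simp only [Finset.mem_product, hA₁, hA₂, Finset.mem_filter, Finset.mem_univ, true_and] at h1 h2
  exact hzbb (h2.1.symm.trans h1.1)

theorem order_of_klein [Finite H] (z b : H) (hz : orderOf z = 2)
    (hcent : ∀ x : H, x * z = z * x ↔ x = 1 ∨ x = z ∨ x = b ∨ x = z * b)
    (hb1 : b ≠ 1) (hbz : b ≠ z)
    (g₁ : H) (hg₁ : g₁ * z * g₁⁻¹ = b) (g₂ : H) (hg₂ : g₂ * z * g₂⁻¹ = z * b)
    (hmod : Nat.card H % 8 = 4) : Nat.card H = 12 ∨ Nat.card H = 60 := by
  classical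
  have := Fintype.ofFinite H
  have := finite_irrCharacter H
  have := Fintype.ofFinite (IrrCharacter H)
  have hzz : z * z = 1 := Cfsg.Agent.Lib.Helper14.D8Group.t_sq hz
  have hz1 : z ≠ 1 := Cfsg.Agent.Lib.Helper14.D8Group.t_ne_one hz
  have deg : ∀ χ : IrrCharacter H, ∃ f : ℕ, 0 < f ∧ (χ : H → ℂ) 1 = f :=
    fun χ => irr_exists_apply_one_pos χ.2
  choose f hf0 hf using deg
  have key : ∀ χ : IrrCharacter H, ∃ c : ℤ, (χ : H → ℂ) z = (c : ℂ) :=
    fun χ => char_involution_int (isCharacter_of_irr χ.2) z hzz hz1 (f χ) (hf χ)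
  choose c hc using key
  let χ₀ : IrrCharacter H := ⟨fun _ => 1, Cfsg.Agent.Lib.CT.Ops.isIrrCharacter_one⟩
  have hc0 : c χ₀ = 1 := by
    have h1 : ((c χ₀ : ℤ) : ℂ) = ((1 : ℤ) : ℂ) := by
      rw [← hc χ₀]; simp [χ₀]
    exact Int.cast_injective h1
  have hf00 : f χ₀ = 1 := by
    have h1 : ((f χ₀ : ℕ) : ℂ) = ((1 : ℕ) : ℂ) := by
      rw [← hf χ₀]; simp [χ₀]
    exact Nat.cast_injective h1
  have O1 : ∑ χ : IrrCharacter H, c χ ^ 2 = 4 := by
    have h := second_orthogonality_sum_of_isConj z z (IsConj.refl z)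
    rw [card_centralizer_four z b hcent hzz hz1 hb1 hbz] at h
    have h2 : ((∑ χ : IrrCharacter H, c χ ^ 2 : ℤ) : ℂ) = ((4 : ℤ) : ℂ) := by
      rw [Int.cast_sum]
      have : ((4 : ℤ) : ℂ) = ((4 : ℕ) : ℂ) := by norm_num
      rw [this, ← h]
      refine Finset.sum_congr rfl fun χ _ => ?_
      rw [hc χ, conj_int]
      push_cast; ring
    exact Int.cast_injective h2
  have O4 : ∑ χ : IrrCharacter H, c χ * (f χ : ℤ) = 0 := by
    have h := second_orthogonality_sum_of_not_isConj z (1 : H)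
      (fun hc => hz1 (isConj_one_left.mp hc))
    have h2 : ((∑ χ : IrrCharacter H, c χ * (f χ : ℤ) : ℤ) : ℂ) = ((0 : ℤ) : ℂ) := by
      rw [Int.cast_sum, Int.cast_zero, ← h]
      refine Finset.sum_congr rfl fun χ _ => ?_
      rw [hc χ, hf χ, Complex.conj_natCast]
      push_cast; ring
    exact Int.cast_injective h2
  have O5 : ∑ χ : IrrCharacter H, (f χ : ℤ) ^ 2 = (Nat.card H : ℤ) := by
    have h := sum_apply_one_sq_sum (G := H)
    have h2 : ((∑ χ : IrrCharacter H, (f χ : ℤ) ^ 2 : ℤ) : ℂ) = (((Nat.card H : ℕ) : ℤ) : ℂ) := by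
      rw [Int.cast_sum]
      push_cast
      rw [← h]
      refine Finset.sum_congr rfl fun χ _ => ?_
      rw [hf χ]
    exact Int.cast_injective h2
  obtain ⟨i, j, k, hi0, hj0, hk0, hij, hik, hjk, hci, hcj, hck, hzero⟩ :=
    four_squares c χ₀ hc0 O1
  have hzero' : ∀ l, l ≠ χ₀ → l ≠ i → l ≠ j → l ≠ k → c l = 0 := hzero
  have hdeg : 1 + c i * (f i : ℤ) + c j * (f j : ℤ) + c k * (f k : ℤ) = 0 := by
    have h := sum_four (fun χ => c χ * (f χ : ℤ)) χ₀ i j k (Ne.symm hi0) (Ne.symm hj0)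
      (Ne.symm hk0) hij hik hjk
      (fun l h1 h2 h3 h4 => by simp only [hzero' l h1 h2 h3 h4, zero_mul])
    rw [O4] at h
    simp only [hc0, hf00] at h
    push_cast at h
    linarith
  have hsq : 1 + f i ^ 2 + f j ^ 2 + f k ^ 2 ≤ Nat.card H := by
    have h := Finset.sum_le_sum_of_subset_of_nonneg
      (Finset.subset_univ ({χ₀, i, j, k} : Finset (IrrCharacter H)))
      (f := fun χ => (f χ : ℤ) ^ 2) (fun _ _ _ => sq_nonneg _)
    rw [Finset.sum_insert (by simp [Ne.symm hi0, Ne.symm hj0, Ne.symm hk0]),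
      Finset.sum_insert (by simp [hij, hik]), Finset.sum_insert (by simp [hjk]),
      Finset.sum_singleton, O5, hf00] at h
    have h' : ((1 + f i ^ 2 + f j ^ 2 + f k ^ 2 : ℕ) : ℤ) ≤ ((Nat.card H : ℕ) : ℤ) := by
      push_cast
      push_cast at h
      linarith
    exact_mod_cast h'
  have cube : ∀ x : ℤ, (x = 1 ∨ x = -1) → (x : ℂ) * (x : ℂ) * (x : ℂ) = (x : ℂ) := by
    rintro x (rfl | rfl) <;> norm_num
  have P := Cfsg.Agent.Lib.CT.ClassMult.conj_pair_count z z z
  rw [pair_count z b hcent hzz hz1 hb1 hbz g₁ hg₁ g₂ hg₂] at P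
  have hcount : (Nat.card H : ℂ) * (1 + (c i : ℂ) / (f i : ℂ) + (c j : ℂ) / (f j : ℂ) +
      (c k : ℂ) / (f k : ℂ)) = 32 := by
    have h := sum_four (fun χ : IrrCharacter H =>
        (χ : H → ℂ) z * (χ : H → ℂ) z * conj ((χ : H → ℂ) z) / (χ : H → ℂ) 1) χ₀ i j k
      (Ne.symm hi0) (Ne.symm hj0) (Ne.symm hk0) hij hik hjk
      (fun l h1 h2 h3 h4 => by
        rw [hc l, hzero' l h1 h2 h3 h4]; simp)
    have t0 : (χ₀ : H → ℂ) z * (χ₀ : H → ℂ) z * conj ((χ₀ : H → ℂ) z) / (χ₀ : H → ℂ) 1 = 1 := by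
      simp [χ₀]
    have ti : ∀ l : IrrCharacter H, (c l = 1 ∨ c l = -1) →
        (l : H → ℂ) z * (l : H → ℂ) z * conj ((l : H → ℂ) z) / (l : H → ℂ) 1 =
          (c l : ℂ) / (f l : ℂ) := by
      intro l hl
      rw [hc l, hf l, conj_int, cube _ hl]
    rw [h, t0, ti i hci, ti j hcj, ti k hck] at P
    rw [← P]
    norm_num
  exact Cfsg.Agent.Lib.Helper14.V4Arith.arith (Nat.card H) hmod (c i) (c j) (c k) (f i) (f j)
    (f k) (hf0 i) (hf0 j) (hf0 k) hci hcj hck hdeg hcount hsq

end Cfsg.Agent.Lib.Helper14.V4Char
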