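import Mathlib
import Cfsg.Agent.Lib.Helper14.V4Char
import Cfsg.Agent.Lib.Helper14.D8Simple

set_option autoImplicit false

/-!
# Dihedral involution centralizer of order 8, the case where exactly one class of reflections
is conjugate to the central involution: the group has order 24 or 120
-/

namespace Cfsg.Agent.Lib.Helper14.D8Sym

open DihedralGroup Cfsg.Agent.Lib.Helper14.D8Group

universe u
variable {G : Type u} [Group G] {t : G}
variable (e : Subgroup.centralizer ({t} : Set G) ≃* DihedralGroup 4)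

include e

theorem conj_add_two (i : ZMod 4) (h : ∃ g : G, g * t * g⁻¹ = phi e (sr i)) :
    ∃ g : G, g * t * g⁻¹ = phi e (sr (i + 2)) := by
  obtain ⟨g, hg⟩ := h
  refine ⟨phi e (r 1) * g, ?_⟩
  have key : ∀ i : ZMod 4, (sr (i + 2) : DihedralGroup 4) = r 1 * sr i * (r 1)⁻¹ := by decide
  rw [key i, map_mul, map_mul, map_inv, ← hg]
  group

theorem phi_sr2 (ht : orderOf t = 2) : phi e (sr 2) = t * phi e (sr 0) := by
  have h : (sr 2 : DihedralGroup 4) = r 2 * sr 0 := by decide
  rw [h, map_mul, phi_r2 e ht]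

theorem phi_four (ht : orderOf t = 2) (x : DihedralGroup 4) (hx : x ∈ four) :
    phi e x = 1 ∨ phi e x = t ∨ phi e x = phi e (sr 0) ∨ phi e x = t * phi e (sr 0) := by
  rw [mem_four] at hx
  rcases hx with rfl | rfl | rfl | rfl
  · left; exact phi_r0 e
  · right; left; exact phi_r2 e ht
  · right; right; left; rfl
  · right; right; right; exact phi_sr2 e ht

theorem even_normal_mem [Finite G] (ht : orderOf t = 2) (K : Subgroup G) [hK : K.Normal]
    (h2 : 2 ∣ Nat.card K) : t ∈ K := by
  have : Fact (Nat.Prime 2) := ⟨Nat.prime_two⟩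
  obtain ⟨u, hu⟩ := exists_prime_orderOf_dvd_card' 2 h2
  have hu' : orderOf (u : G) = 2 := by rw [Subgroup.orderOf_coe]; exact hu
  obtain ⟨P, hP⟩ := exists_sylow e ht
  obtain ⟨g, hg⟩ := Cfsg.Agent.Lib.Helper14.BSKer.exists_conj_involution P u hu'
  rw [hP, Subgroup.mem_centralizer_singleton_iff] at hg
  obtain ⟨x, hx⟩ := exists_phi e hg
  have hwK : phi e x ∈ K := by rw [hx]; exact hK.conj_mem _ u.2 _
  have hxx : x * x = 1 := by
    apply phi_injective e
    rw [map_mul, map_one, hx]
    calc g * u * g⁻¹ * (g * u * g⁻¹) = g * ((u : G) * u) * g⁻¹ := by group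
      _ = 1 := by rw [t_sq hu']; group
  have hx1 : x ≠ 1 := by
    rintro rfl
    rw [map_one] at hx
    apply t_ne_one hu'
    calc (u : G) = g⁻¹ * (g * u * g⁻¹) * g := by group
      _ = 1 := by rw [← hx]; group
  by_cases hx2 : x = r 2
  · rw [← phi_r2 e ht, ← hx2]; exact hwK
  · obtain ⟨i, rfl⟩ := d8_invol x hxx hx1 hx2
    have key : ∀ i : ZMod 4, (r 2 : DihedralGroup 4) =
        sr i * (sr (i + 1) * sr i * (sr (i + 1))⁻¹) := by decide
    rw [← phi_r2 e ht, key i, map_mul, map_mul, map_mul, map_inv]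
    exact K.mul_mem hwK (hK.conj_mem _ hwK _)

theorem four_map_le (ht : orderOf t = 2) (h0 : ∃ g : G, g * t * g⁻¹ = phi e (sr 0))
    (K : Subgroup G) [hK : K.Normal] (htK : t ∈ K) : four.map (phi e) ≤ K := by
  obtain ⟨g, hg⟩ := h0
  have hb : phi e (sr 0) ∈ K := by rw [← hg]; exact hK.conj_mem _ htK _
  rintro _ ⟨x, hx, rfl⟩
  rcases phi_four e ht x hx with h | h | h | h <;> rw [h]
  · exact K.one_mem
  · exact htK
  · exact hb
  · exact K.mul_mem htK hb

theorem card_four_map : Nat.card (four.map (phi e)) = 4 := by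
  rw [Subgroup.card_map_of_injective (phi_injective e)]
  exact card_four

theorem odd_normal_trivial' [Finite G] (ht : orderOf t = 2)
    (h0 : ∃ g : G, g * t * g⁻¹ = phi e (sr 0))
    (N : Subgroup G) [N.Normal] (hodd : ¬ 2 ∣ Nat.card N) : N = ⊥ := by
  have hcop2 : Nat.Coprime 2 (Nat.card N) :=
    (Nat.Prime.coprime_iff_not_dvd Nat.prime_two).mpr hodd
  have hpowN : ∀ x ∈ N, x ^ Nat.card N = 1 := by
    intro x hx
    have := pow_card_eq_one' (G := N) (x := ⟨x, hx⟩)
    exact congrArg Subtype.val this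
  have hone : ∀ x ∈ N, ∀ k : ℕ, x ^ (2 ^ k) = 1 → x = 1 := by
    intro x hx k hk
    have h1 : orderOf x ∣ 2 ^ k := orderOf_dvd_of_pow_eq_one hk
    have h2 : orderOf x ∣ Nat.card N := orderOf_dvd_of_pow_eq_one (hpowN x hx)
    have h3 : orderOf x ∣ Nat.gcd (2 ^ k) (Nat.card N) := Nat.dvd_gcd h1 h2
    have h4 : Nat.gcd (2 ^ k) (Nat.card N) = 1 := Nat.Coprime.pow_left k hcop2
    rw [h4, Nat.dvd_one] at h3
    exact orderOf_eq_one_iff.mp h3
  have hcent : ∀ (g : G) (x : G), x ∈ N → (g * t * g⁻¹) * x = x * (g * t * g⁻¹) → x = 1 := by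
    intro g x hx hc
    have h1 : (g⁻¹ * x * g) * t = t * (g⁻¹ * x * g) := by
      calc g⁻¹ * x * g * t = g⁻¹ * (x * (g * t * g⁻¹)) * g := by group
        _ = g⁻¹ * ((g * t * g⁻¹) * x) * g := by rw [hc]
        _ = _ := by group
    obtain ⟨y, hy⟩ := exists_phi e h1
    have hy8 : y ^ (2 ^ 3) = 1 := by
      have key : ∀ y : DihedralGroup 4, y ^ (2 ^ 3) = 1 := by decide
      exact key y
    have hxg : x = g * phi e y * g⁻¹ := by rw [hy]; group
    apply hone x hx 3
    rw [hxg, conj_pow, ← map_pow, hy8, map_one]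
    group
  obtain ⟨g₀, hg₀⟩ := h0
  obtain ⟨g₂, hg₂⟩ := conj_add_two e 0 ⟨g₀, hg₀⟩
  have h022 : ((0 : ZMod 4) + 2) = 2 := by decide
  rw [h022] at hg₂
  have h₁ : ∀ x ∈ N, t * x * t⁻¹ = x⁻¹ :=
    Cfsg.Agent.Lib.Helper14.D8Simple.inverts N t (t_sq ht)
      (fun x hx hc => hcent 1 x hx (by simpa using hc))
  have h₂ : ∀ x ∈ N, phi e (sr 0) * x * (phi e (sr 0))⁻¹ = x⁻¹ :=
    Cfsg.Agent.Lib.Helper14.D8Simple.inverts N _ (by rw [← map_mul]; simp)
      (fun x hx hc => hcent g₀ x hx (by rw [hg₀]; exact hc))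
  have h₃ : ∀ x ∈ N, phi e (sr 2) * x * (phi e (sr 2))⁻¹ = x⁻¹ :=
    Cfsg.Agent.Lib.Helper14.D8Simple.inverts N _ (by rw [← map_mul]; simp)
      (fun x hx hc => hcent g₂ x hx (by rw [hg₂]; exact hc))
  have h02 : phi e (sr 2) = t * phi e (sr 0) := phi_sr2 e ht
  rw [Subgroup.eq_bot_iff_forall]
  intro x hx
  have h5 : x⁻¹ = x := by
    have h6 := h₃ x hx
    rw [h02] at h6
    have h7 : t * phi e (sr 0) * x * (t * phi e (sr 0))⁻¹ =
        t * (phi e (sr 0) * x * (phi e (sr 0))⁻¹) * t⁻¹ := by group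
    rw [h7, h₂ x hx, h₁ x⁻¹ (N.inv_mem hx), inv_inv] at h6
    exact h6.symm
  apply hone x hx 1
  rw [pow_one, sq]
  calc x * x = x * x⁻¹ := by rw [h5]
    _ = 1 := mul_inv_cancel x

omit e in
/-- a group of order `n!` with a core-free subgroup of index `n` is the symmetric group -/
theorem perm_of_core {G : Type*} [Group G] [Finite G] (H : Subgroup G) (n : ℕ)
    (hidx : H.index = n) (hcore : H.normalCore = ⊥) (hcard : Nat.card G = n.factorial) :
    Nonempty (G ≃* Equiv.Perm (Fin n)) := by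
  have hn : n ≠ 0 := by
    rintro rfl
    exact Subgroup.index_ne_zero_of_finite hidx
  have : Finite (G ⧸ H) := inferInstance
  have hc : Nat.card (G ⧸ H) = n := hidx
  have eqv : (G ⧸ H) ≃ Fin n := Finite.equivFinOfCardEq hc
  let f : G →* Equiv.Perm (Fin n) :=
    (eqv.permCongrHom.toMonoidHom).comp (MulAction.toPermHom G (G ⧸ H))
  have hf : Function.Injective f := by
    rw [← MonoidHom.ker_eq_bot_iff]
    rw [MonoidHom.ker_eq_bot_iff]
    apply Function.Injective.comp eqv.permCongrHom.injective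
    rw [← MonoidHom.ker_eq_bot_iff, ← Subgroup.normalCore_eq_ker, hcore]
  have hb : Function.Bijective f := by
    rw [Nat.bijective_iff_injective_and_card]
    refine ⟨hf, ?_⟩
    rw [hcard, Nat.card_perm, Nat.card_eq_fintype_card, Fintype.card_fin]
  exact ⟨MulEquiv.ofBijective f hb⟩

theorem sym4 [Finite G] (ht : orderOf t = 2) (h0 : ∃ g : G, g * t * g⁻¹ = phi e (sr 0))
    (hcard : Nat.card G = 24) : Nonempty (G ≃* Equiv.Perm (Fin 4)) := by
  have : Fact (Nat.Prime 3) := ⟨by norm_num⟩
  obtain ⟨P⟩ : Nonempty (Sylow 3 G) := inferInstance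
  obtain ⟨n, hn⟩ := IsPGroup.iff_card.mp P.isPGroup'
  have h1 := Subgroup.card_mul_index (P : Subgroup G)
  have h2 : ¬ 3 ∣ (P : Subgroup G).index := P.not_dvd_index
  rw [hcard, hn] at h1
  have hn1 : n = 1 := by
    rcases n with _ | _ | n
    · exfalso
      simp at h1
      omega
    · rfl
    · exfalso
      have h9 : 9 ∣ 24 := ⟨3 ^ n * (P : Subgroup G).index, by rw [← h1]; ring⟩
      omega
  subst hn1
  have hidx : (P : Subgroup G).index = 8 := by omega
  have hcardP : Nat.card (P : Subgroup G) = 3 := by simpa using hn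
  have h3 := card_sylow_modEq_one 3 G
  have h4 : Nat.card (Sylow 3 G) ∣ 8 := hidx ▸ P.card_dvd_index
  have h5 := P.card_eq_index_normalizer
  have h6 : Nat.card (Sylow 3 G) = 1 ∨ Nat.card (Sylow 3 G) = 4 := by
    have hle : Nat.card (Sylow 3 G) ≤ 8 := Nat.le_of_dvd (by norm_num) h4
    have hmod : Nat.card (Sylow 3 G) % 3 = 1 := h3
    interval_cases (Nat.card (Sylow 3 G)) <;> omega
  rcases h6 with h6 | h6
  · exfalso
    rw [h6] at h5
    have hnorm : (P : Subgroup G).Normal :=
      Subgroup.normalizer_eq_top_iff.mp (Subgroup.index_eq_one.mp h5.symm)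
    have hbot := odd_normal_trivial' e ht h0 (P : Subgroup G) (by rw [hcardP]; norm_num)
    rw [hbot, Subgroup.card_bot] at hcardP
    omega
  · rw [h6] at h5
    obtain ⟨H, hHi⟩ : ∃ H : Subgroup G, H.index = 4 := ⟨_, h5.symm⟩
    have hHcard : Nat.card H = 6 := by
      have := Subgroup.card_mul_index H
      rw [hHi, hcard] at this
      omega
    have hKn : H.normalCore.Normal := Subgroup.normalCore_normal H
    have hcore : H.normalCore = ⊥ := by
      by_cases h2K : 2 ∣ Nat.card H.normalCore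
      · exfalso
        have htK := even_normal_mem e ht H.normalCore h2K
        have hle := four_map_le e ht h0 H.normalCore htK
        have hd1 := Subgroup.card_dvd_of_le hle
        have hd2 := Subgroup.card_dvd_of_le (Subgroup.normalCore_le H)
        rw [card_four_map e] at hd1
        rw [hHcard] at hd2
        have := hd1.trans hd2
        omega
      · exact odd_normal_trivial' e ht h0 H.normalCore h2K
    exact perm_of_core H 4 hHi hcore (by rw [hcard]; rfl)

theorem mem_V_iff (ht : orderOf t = 2) (v : G) :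
    v ∈ four.map (phi e) ↔ v = 1 ∨ v = t ∨ v = phi e (sr 0) ∨ v = t * phi e (sr 0) := by
  constructor
  · rintro ⟨x, hx, rfl⟩
    exact phi_four e ht x hx
  · intro h
    rcases h with h | h | h | h
    · exact ⟨r 0, Or.inl rfl, (phi_r0 e).trans h.symm⟩
    · exact ⟨r 2, Or.inr (Or.inl rfl), (phi_r2 e ht).trans h.symm⟩
    · exact ⟨sr 0, Or.inr (Or.inr (Or.inl rfl)), h.symm⟩
    · exact ⟨sr 2, Or.inr (Or.inr (Or.inr rfl)), (phi_sr2 e ht).trans h.symm⟩

theorem V_comm (v w : G) (hv : v ∈ four.map (phi e)) (hw : w ∈ four.map (phi e)) :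
    v * w = w * v := by
  obtain ⟨x, hx, rfl⟩ := hv
  obtain ⟨y, hy, rfl⟩ := hw
  have key : ∀ x y : DihedralGroup 4, (x = r 0 ∨ x = r 2 ∨ x = sr 0 ∨ x = sr 2) →
      (y = r 0 ∨ y = r 2 ∨ y = sr 0 ∨ y = sr 2) → x * y = y * x := by decide
  rw [← map_mul, ← map_mul, key x y hx hy]

theorem cent_le_normalizer : Subgroup.centralizer ({t} : Set G) ≤
    Subgroup.normalizer ((four.map (phi e) : Subgroup G) : Set G) := by
  intro c hc'
  rw [Subgroup.mem_centralizer_singleton_iff] at hc'
  obtain ⟨y, rfl⟩ := exists_phi e hc'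
  have key : ∀ y x : DihedralGroup 4, (x = r 0 ∨ x = r 2 ∨ x = sr 0 ∨ x = sr 2) →
      (y * x * y⁻¹ = r 0 ∨ y * x * y⁻¹ = r 2 ∨ y * x * y⁻¹ = sr 0 ∨ y * x * y⁻¹ = sr 2) := by
    decide
  rw [Subgroup.mem_normalizer_iff]
  intro h
  constructor
  · rintro ⟨x, hx, rfl⟩
    exact ⟨y * x * y⁻¹, key y x hx, by simp⟩
  · rintro ⟨x, hx, hxh⟩
    refine ⟨y⁻¹ * x * y, ?_, ?_⟩
    · have := key y⁻¹ x hx
      rwa [inv_inv] at this
    · rw [map_mul, map_mul, map_inv, hxh]
      group

theorem card_normalizer_le [Finite G] (ht : orderOf t = 2) :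
    Nat.card (Subgroup.normalizer ((four.map (phi e) : Subgroup G) : Set G)) ≤ 24 := by
  classical
  have := Fintype.ofFinite G
  set N := Subgroup.normalizer ((four.map (phi e) : Subgroup G) : Set G) with hN
  let sN : Finset G := Finset.univ.filter (· ∈ N)
  let sC : Finset G := Finset.univ.filter (fun g => g ∈ Subgroup.centralizer ({t} : Set G))
  have hsN : Nat.card N = sN.card := by
    rw [Nat.card_eq_fintype_card, Fintype.card_subtype]
  have hsC : sC.card = 8 := by
    rw [← card_centralizer e, Nat.card_eq_fintype_card, Fintype.card_subtype]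
  have himg : sN.image (fun n => n * t * n⁻¹) ⊆ {t, phi e (sr 0), t * phi e (sr 0)} := by
    intro a ha
    obtain ⟨n, hn, rfl⟩ := Finset.mem_image.mp ha
    have hnN : n ∈ N := (Finset.mem_filter.mp hn).2
    have htV : t ∈ four.map (phi e) := (mem_V_iff e ht t).mpr (Or.inr (Or.inl rfl))
    have := (Subgroup.mem_normalizer_iff.mp hnN t).mp htV
    rcases (mem_V_iff e ht _).mp this with h | h | h | h
    · exfalso
      apply t_ne_one ht
      calc t = n⁻¹ * (n * t * n⁻¹) * n := by group
        _ = 1 := by rw [h]; group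
    · simp [h]
    · simp [h]
    · simp [h]
  have hfib : ∀ a ∈ sN.image (fun n => n * t * n⁻¹),
      (sN.filter (fun n => n * t * n⁻¹ = a)).card ≤ 8 := by
    intro a ha
    obtain ⟨n₀, hn₀, rfl⟩ := Finset.mem_image.mp ha
    rw [← hsC]
    apply Finset.card_le_card_of_injOn (fun x => n₀⁻¹ * x)
    · intro x hx
      have hx' : x * t * x⁻¹ = n₀ * t * n₀⁻¹ := (Finset.mem_filter.mp (Finset.mem_coe.mp hx)).2
      have h1 : x * t = n₀ * t * n₀⁻¹ * x := by rw [← hx']; group
      have h2 : n₀⁻¹ * x * t = t * (n₀⁻¹ * x) := by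
        calc n₀⁻¹ * x * t = n₀⁻¹ * (x * t) := by group
          _ = n₀⁻¹ * (n₀ * t * n₀⁻¹ * x) := by rw [h1]
          _ = t * (n₀⁻¹ * x) := by group
      simp only [sC, Finset.coe_filter, Finset.mem_univ, true_and, Set.mem_ofPred_eq,
        Subgroup.mem_centralizer_singleton_iff]
      exact h2
    · intro x _ y _ hxy
      exact mul_left_cancel hxy
  have h1 := Finset.card_le_mul_card_image sN 8 hfib
  have h2 : (sN.image (fun n => n * t * n⁻¹)).card ≤ 3 :=
    (Finset.card_le_card himg).trans Finset.card_le_three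
  rw [hsN]
  omega

section index_two

variable (M : Subgroup G) [hMn : M.Normal] (hM : M.index = 2) (hc : phi e (sr 1) ∉ M)
variable (h0 : ∃ g : G, g * t * g⁻¹ = phi e (sr 0))

include hM

omit hMn in
theorem t_mem (ht : orderOf t = 2) : t ∈ M := by
  rw [← phi_r2 e ht]
  have h : (r 2 : DihedralGroup 4) = r 1 * r 1 := by decide
  rw [h, map_mul]
  exact Subgroup.mul_self_mem_of_index_two hM _

include hMn h0

theorem b_mem (ht : orderOf t = 2) : phi e (sr 0) ∈ M := by
  obtain ⟨g, hg⟩ := h0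
  rw [← hg]
  exact hMn.conj_mem _ (t_mem e M hM ht) _

include hc

theorem phi_mem_iff (ht : orderOf t = 2) (x : DihedralGroup 4) : phi e x ∈ M ↔ x ∈ four := by
  constructor
  · intro hx
    by_contra hx4
    have key : ∀ x : DihedralGroup 4, ¬ (x = r 0 ∨ x = r 2 ∨ x = sr 0 ∨ x = sr 2) →
        (x * sr 1 = r 0 ∨ x * sr 1 = r 2 ∨ x * sr 1 = sr 0 ∨ x * sr 1 = sr 2) := by decide
    have h1 : x * sr 1 ∈ four := key x hx4
    have h2 : phi e (x * sr 1) ∈ M := by
      rcases phi_four e ht _ h1 with h | h | h | h <;> rw [h]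
      · exact M.one_mem
      · exact t_mem e M hM ht
      · exact b_mem e M hM h0 ht
      · exact M.mul_mem (t_mem e M hM ht) (b_mem e M hM h0 ht)
    rw [map_mul] at h2
    exact hc ((Subgroup.mul_mem_cancel_left M hx).mp h2)
  · intro hx
    rcases phi_four e ht x hx with h | h | h | h <;> rw [h]
    · exact M.one_mem
    · exact t_mem e M hM ht
    · exact b_mem e M hM h0 ht
    · exact M.mul_mem (t_mem e M hM ht) (b_mem e M hM h0 ht)

theorem cent_M (ht : orderOf t = 2) (x : G) (hx : x ∈ M) (hxt : x * t = t * x) :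
    x = 1 ∨ x = t ∨ x = phi e (sr 0) ∨ x = t * phi e (sr 0) := by
  obtain ⟨y, rfl⟩ := exists_phi e hxt
  exact phi_four e ht y ((phi_mem_iff e M hM hc h0 ht y).mp hx)

omit hMn h0 in
theorem conj_in_M (g : G) : ∃ m ∈ M, m * t * m⁻¹ = g * t * g⁻¹ := by
  by_cases hg : g ∈ M
  · exact ⟨g, hg, rfl⟩
  · refine ⟨g * phi e (sr 1), ?_, ?_⟩
    · rw [Subgroup.mul_mem_iff_of_index_two hM]
      exact ⟨fun h => (hg h).elim, fun h => (hc h).elim⟩
    · have := phi_comm e (sr 1)
      calc g * phi e (sr 1) * t * (g * phi e (sr 1))⁻¹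
          = g * (phi e (sr 1) * t) * (phi e (sr 1))⁻¹ * g⁻¹ := by group
        _ = g * (t * phi e (sr 1)) * (phi e (sr 1))⁻¹ * g⁻¹ := by rw [this]
        _ = g * t * g⁻¹ := by group

omit hMn hc h0 in
theorem card_M [Finite G] (ht : orderOf t = 2) :
    Nat.card G = 2 * Nat.card M ∧ Nat.card M % 8 = 4 := by
  have h1 := card_mod e ht
  have h2 := Subgroup.card_mul_index M
  rw [hM] at h2
  constructor <;> omega

theorem order_caseC [Finite G] (ht : orderOf t = 2) :
    Nat.card G = 24 ∨ Nat.card G = 120 := by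
  have htM := t_mem e M hM ht
  have hbM := b_mem e M hM h0 ht
  obtain ⟨g₀, hg₀⟩ := h0
  obtain ⟨g₂, hg₂⟩ := conj_add_two e 0 ⟨g₀, hg₀⟩
  have h022 : ((0 : ZMod 4) + 2) = 2 := by decide
  rw [h022, phi_sr2 e ht] at hg₂
  obtain ⟨m₁, hm₁, hm₁'⟩ := conj_in_M e M hM hc g₀
  obtain ⟨m₂, hm₂, hm₂'⟩ := conj_in_M e M hM hc g₂
  rw [hg₀] at hm₁'
  rw [hg₂] at hm₂'
  obtain ⟨hc1, hc2⟩ := card_M e M hM ht
  have hb1 : phi e (sr 0) ≠ 1 := by
    intro h
    rw [← map_one (phi e)] at h
    have := phi_injective e h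
    revert this
    decide
  have hbt : phi e (sr 0) ≠ t := by
    intro h
    have := phi_injective e (h.trans (phi_r2 e ht).symm)
    revert this
    decide
  have hres := Cfsg.Agent.Lib.Helper14.V4Char.order_of_klein (H := M) ⟨t, htM⟩
    ⟨phi e (sr 0), hbM⟩ (by rw [Subgroup.orderOf_mk]; exact ht)
    (by
      intro x
      constructor
      · intro hx
        have hx' : (x : G) * t = t * x := congrArg Subtype.val hx
        rcases cent_M e M hM hc ⟨g₀, hg₀⟩ ht x x.2 hx' with h | h | h | h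
        · left; exact Subtype.ext h
        · right; left; exact Subtype.ext h
        · right; right; left; exact Subtype.ext h
        · right; right; right; exact Subtype.ext h
      · have hbc := phi_comm e (sr 0)
        rintro (rfl | rfl | rfl | rfl)
        · simp
        · rfl
        · exact Subtype.ext hbc
        · apply Subtype.ext
          show t * phi e (sr 0) * t = t * (t * phi e (sr 0))
          rw [mul_assoc, hbc])
    (fun h => hb1 (congrArg Subtype.val h)) (fun h => hbt (congrArg Subtype.val h))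
    ⟨m₁, hm₁⟩ (Subtype.ext hm₁') ⟨m₂, hm₂⟩ (Subtype.ext hm₂') hc2
  omega

theorem cent_M' (ht : orderOf t = 2) (x : G) (hx : x ∈ M) (hxt : x * t = t * x) :
    x ∈ four.map (phi e) :=
  (mem_V_iff e ht x).mpr (cent_M e M hM hc h0 ht x hx hxt)

theorem V_le_M (ht : orderOf t = 2) : four.map (phi e) ≤ M := by
  rintro _ ⟨x, hx, rfl⟩
  exact (phi_mem_iff e M hM hc h0 ht x).mpr hx

theorem mem_normalizer_of_conj [Finite G] (ht : orderOf t = 2) (m : G) (hm : m ∈ M)
    (hmt : m * t * m⁻¹ ∈ four.map (phi e)) :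
    m ∈ Subgroup.normalizer ((four.map (phi e) : Subgroup G) : Set G) := by
  have hle : four.map (phi e) ≤ (four.map (phi e)).map (MulAut.conj m).toMonoidHom := by
    intro v hv
    refine ⟨m⁻¹ * v * m, ?_, ?_⟩
    · apply cent_M' e M hM hc h0 ht
      · exact M.mul_mem (M.mul_mem (M.inv_mem hm) (V_le_M e M hM hc h0 ht hv)) hm
      · have h1 := V_comm e v (m * t * m⁻¹) hv hmt
        calc m⁻¹ * v * m * t = m⁻¹ * (v * (m * t * m⁻¹)) * m := by group
          _ = m⁻¹ * ((m * t * m⁻¹) * v) * m := by rw [h1]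
          _ = t * (m⁻¹ * v * m) := by group
    · simp only [MulEquiv.coe_toMonoidHom, MulAut.conj_apply]
      group
  have heq : four.map (phi e) = (four.map (phi e)).map (MulAut.conj m).toMonoidHom :=
    Subgroup.eq_of_le_of_card_ge hle
      (by rw [Subgroup.card_map_of_injective (MulAut.conj m).injective])
  rw [Subgroup.mem_normalizer_iff]
  intro h
  constructor
  · intro hh
    rw [heq]
    exact ⟨h, hh, by simp only [MulEquiv.coe_toMonoidHom, MulAut.conj_apply]⟩
  · intro hh
    rw [heq] at hh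
    obtain ⟨v, hv, hvh⟩ := hh
    simp only [MulEquiv.coe_toMonoidHom, MulAut.conj_apply] at hvh
    have : v = h := mul_left_cancel (mul_right_cancel hvh)
    rw [← this]
    exact hv

omit hMn in
theorem exists_conj_V (ht : orderOf t = 2) (v : G) (hv : v ∈ four.map (phi e)) (hv1 : v ≠ 1) :
    ∃ m ∈ M, m * t * m⁻¹ = v := by
  obtain ⟨g₀, hg₀⟩ := h0
  rcases (mem_V_iff e ht v).mp hv with h | h | h | h
  · exact (hv1 h).elim
  · exact ⟨1, M.one_mem, by rw [h]; group⟩
  · obtain ⟨m, hm, hm'⟩ := conj_in_M e M hM hc g₀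
    exact ⟨m, hm, by rw [hm', hg₀, h]⟩
  · obtain ⟨g₂, hg₂⟩ := conj_add_two e 0 ⟨g₀, hg₀⟩
    have h022 : ((0 : ZMod 4) + 2) = 2 := by decide
    rw [h022, phi_sr2 e ht] at hg₂
    obtain ⟨m, hm, hm'⟩ := conj_in_M e M hM hc g₂
    exact ⟨m, hm, by rw [hm', hg₂, h]⟩

theorem cent_V [Finite G] (ht : orderOf t = 2) (v : G) (hv : v ∈ four.map (phi e))
    (hv1 : v ≠ 1) (x : G) (hx : x ∈ M) (hxv : x * v = v * x) : x ∈ four.map (phi e) := by
  obtain ⟨m, hm, rfl⟩ := exists_conj_V e M hM hc h0 ht v hv hv1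
  have hmN := mem_normalizer_of_conj e M hM hc h0 ht m hm hv
  have h1 : (m⁻¹ * x * m) * t = t * (m⁻¹ * x * m) := by
    calc m⁻¹ * x * m * t = m⁻¹ * (x * (m * t * m⁻¹)) * m := by group
      _ = m⁻¹ * ((m * t * m⁻¹) * x) * m := by rw [hxv]
      _ = t * (m⁻¹ * x * m) := by group
  have h2 : m⁻¹ * x * m ∈ four.map (phi e) :=
    cent_M' e M hM hc h0 ht _ (M.mul_mem (M.mul_mem (M.inv_mem hm) hx) hm) h1
  have h3 := (Subgroup.mem_normalizer_iff.mp hmN (m⁻¹ * x * m)).mp h2
  have h4 : m * (m⁻¹ * x * m) * m⁻¹ = x := by group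
  rw [h4] at h3
  exact h3

theorem invol_normalizer [Finite G] (ht : orderOf t = 2) (u : G) (huM : u ∈ M)
    (huu : u * u = 1)
    (huN : u ∈ Subgroup.normalizer ((four.map (phi e) : Subgroup G) : Set G)) :
    u ∈ four.map (phi e) := by
  have huinv : u⁻¹ = u := inv_eq_of_mul_eq_one_left huu
  have htV : t ∈ four.map (phi e) := (mem_V_iff e ht t).mpr (Or.inr (Or.inl rfl))
  have hbV : phi e (sr 0) ∈ four.map (phi e) :=
    (mem_V_iff e ht _).mpr (Or.inr (Or.inr (Or.inl rfl)))
  have htbV : t * phi e (sr 0) ∈ four.map (phi e) :=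
    (mem_V_iff e ht _).mpr (Or.inr (Or.inr (Or.inr rfl)))
  have hbt := phi_comm e (sr 0)
  have hb1 : phi e (sr 0) ≠ 1 := by
    intro h
    rw [← map_one (phi e)] at h
    have := phi_injective e h
    revert this
    decide
  have hbt' : phi e (sr 0) ≠ t := by
    intro h
    have := phi_injective e (h.trans (phi_r2 e ht).symm)
    revert this
    decide
  have htb1 : t * phi e (sr 0) ≠ 1 := by
    intro h
    apply hbt'
    calc phi e (sr 0) = t * t * phi e (sr 0) := by rw [t_sq ht, one_mul]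
      _ = t * (t * phi e (sr 0)) := by group
      _ = t := by rw [h, mul_one]
  have h := (Subgroup.mem_normalizer_iff.mp huN t).mp htV
  rw [huinv] at h
  rcases (mem_V_iff e ht _).mp h with h1 | h1 | h1 | h1
  · exfalso
    apply t_ne_one ht
    calc t = u * u * t * (u * u) := by rw [huu]; group
      _ = u * (u * t * u) * u := by group
      _ = 1 := by rw [h1, mul_one, huu]
  · apply cent_M' e M hM hc h0 ht u huM
    calc u * t = u * t * (u * u) := by rw [huu, mul_one]
      _ = (u * t * u) * u := by group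
      _ = t * u := by rw [h1]
  · apply cent_V e M hM hc h0 ht (t * phi e (sr 0)) htbV htb1 u huM
    have h2 : u * phi e (sr 0) * u = t := by
      rw [← h1]
      calc u * (u * t * u) * u = (u * u) * t * (u * u) := by group
        _ = t := by rw [huu]; group
    have h3 : (u * t * u) * (u * phi e (sr 0) * u) * u =
        u * t * (u * u) * phi e (sr 0) * (u * u) := by group
    calc u * (t * phi e (sr 0)) = (u * t * u) * (u * phi e (sr 0) * u) * u := by
          rw [h3, huu]; group
      _ = phi e (sr 0) * t * u := by rw [h1, h2]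
      _ = t * phi e (sr 0) * u := by rw [hbt]
  · apply cent_V e M hM hc h0 ht (phi e (sr 0)) hbV hb1 u huM
    have h2 : u * (t * phi e (sr 0)) * u = t := by
      rw [← h1]
      calc u * (u * t * u) * u = (u * u) * t * (u * u) := by group
        _ = t := by rw [huu]; group
    have h4 : (u * t * u) * (u * (t * phi e (sr 0)) * u) =
        u * t * (u * u) * (t * phi e (sr 0)) * u := by group
    have h3 : u * phi e (sr 0) * u = phi e (sr 0) := by
      calc u * phi e (sr 0) * u = u * ((t * t) * phi e (sr 0)) * u := by rw [t_sq ht, one_mul]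
        _ = (u * t * u) * (u * (t * phi e (sr 0)) * u) := by
            rw [h4, huu]; group
        _ = t * phi e (sr 0) * t := by rw [h1, h2]
        _ = t * (phi e (sr 0) * t) := by group
        _ = t * (t * phi e (sr 0)) := by rw [hbt]
        _ = (t * t) * phi e (sr 0) := by group
        _ = phi e (sr 0) := by rw [t_sq ht, one_mul]
    calc u * phi e (sr 0) = u * phi e (sr 0) * (u * u) := by rw [huu, mul_one]
      _ = (u * phi e (sr 0) * u) * u := by group
      _ = phi e (sr 0) * u := by rw [h3]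

theorem sym5 [Finite G] (ht : orderOf t = 2) (hcard : Nat.card G = 120) :
    Nonempty (G ≃* Equiv.Perm (Fin 5)) := by
  set N := Subgroup.normalizer ((four.map (phi e) : Subgroup G) : Set G) with hN
  have htV : t ∈ four.map (phi e) := (mem_V_iff e ht t).mpr (Or.inr (Or.inl rfl))
  have hbV : phi e (sr 0) ∈ four.map (phi e) :=
    (mem_V_iff e ht _).mpr (Or.inr (Or.inr (Or.inl rfl)))
  have hb1 : phi e (sr 0) ≠ 1 := by
    intro h
    rw [← map_one (phi e)] at h
    have := phi_injective e h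
    revert this
    decide
  have hbt' : phi e (sr 0) ≠ t := by
    intro h
    have := phi_injective e (h.trans (phi_r2 e ht).symm)
    revert this
    decide
  obtain ⟨m₁, hm₁, hm₁'⟩ := exists_conj_V e M hM hc h0 ht (phi e (sr 0)) hbV hb1
  have hm₁N : m₁ ∈ N :=
    mem_normalizer_of_conj e M hM hc h0 ht m₁ hm₁ (by rw [hm₁']; exact hbV)
  have hm₁C : m₁ ∉ Subgroup.centralizer ({t} : Set G) := by
    intro h
    rw [Subgroup.mem_centralizer_singleton_iff] at h
    apply hbt'
    rw [← hm₁', h]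
    group
  have hCN : Subgroup.centralizer ({t} : Set G) ≤ N := cent_le_normalizer e
  have h8 : 8 ∣ Nat.card N := by
    have := Subgroup.card_dvd_of_le hCN
    rwa [card_centralizer e] at this
  have hle : Nat.card N ≤ 24 := card_normalizer_le e ht
  have hne : Nat.card N ≠ 8 := by
    intro h
    have := Subgroup.eq_of_le_of_card_ge hCN (by rw [h, card_centralizer e])
    exact hm₁C (this ▸ hm₁N)
  have hdvd : Nat.card N ∣ 120 := hcard ▸ Subgroup.card_subgroup_dvd_card N
  have hN24 : Nat.card N = 24 := by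
    obtain ⟨k, hk⟩ := h8
    have hpos : 0 < Nat.card N := Nat.card_pos
    have hk3 : k ≤ 3 := by omega
    interval_cases k
    · omega
    · omega
    · exfalso
      rw [hk] at hdvd
      omega
    · omega
  have hidx : N.index = 5 := by
    have := Subgroup.card_mul_index N
    rw [hN24, hcard] at this
    omega
  have hKn : N.normalCore.Normal := Subgroup.normalCore_normal N
  have hcore : N.normalCore = ⊥ := by
    by_cases h2K : 2 ∣ Nat.card N.normalCore
    · exfalso
      have htK := even_normal_mem e ht N.normalCore h2K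
      have hconjV : ∀ g : G, g * t * g⁻¹ ∈ four.map (phi e) := by
        intro g
        apply invol_normalizer e M hM hc h0 ht
        · exact hMn.conj_mem _ (t_mem e M hM ht) _
        · calc g * t * g⁻¹ * (g * t * g⁻¹) = g * (t * t) * g⁻¹ := by group
            _ = 1 := by rw [t_sq ht]; group
        · exact Subgroup.normalCore_le N (hKn.conj_mem _ htK _)
      have hnormal : ∀ g v : G, v ∈ four.map (phi e) → g * v * g⁻¹ ∈ four.map (phi e) := by
        intro g v hv
        by_cases hv1 : v = 1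
        · rw [hv1]
          simp
        · obtain ⟨m, -, rfl⟩ := exists_conj_V e M hM hc h0 ht v hv hv1
          have : g * (m * t * m⁻¹) * g⁻¹ = (g * m) * t * (g * m)⁻¹ := by group
          rw [this]
          exact hconjV _
      have htop : N = ⊤ := by
        rw [eq_top_iff]
        intro g _
        rw [hN, Subgroup.mem_normalizer_iff]
        intro h
        constructor
        · exact hnormal g h
        · intro hh
          have := hnormal g⁻¹ _ hh
          have h5 : g⁻¹ * (g * h * g⁻¹) * g⁻¹⁻¹ = h := by group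
          rwa [h5] at this
      rw [htop, Subgroup.card_top, hcard] at hN24
      omega
    · exact odd_normal_trivial' e ht h0 N.normalCore h2K
  exact perm_of_core N 5 hidx hcore (by rw [hcard]; rfl)

end index_two

theorem caseC [Finite G] (ht : orderOf t = 2) (h0 : ∃ g : G, g * t * g⁻¹ = phi e (sr 0))
    (h1 : ¬ ∃ g : G, g * t * g⁻¹ = phi e (sr 1)) :
    Nonempty (G ≃* Equiv.Perm (Fin 4)) ∨ Nonempty (G ≃* Equiv.Perm (Fin 5)) := by
  rcases Cfsg.Agent.Lib.Helper14.D8Gen.transfer_alt e ht 1 with ⟨M, hMn, hM, hc⟩ | h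
  · rcases order_caseC e M hM hc h0 ht with h24 | h120
    · left; exact sym4 e ht h0 h24
    · right; exact sym5 e M hM hc h0 ht h120
  · exact (h1 h).elim

end Cfsg.Agent.Lib.Helper14.D8Sym
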