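import Mathlib
import Cfsg.Agent.Lib.Helper14.D8Sym
import Cfsg.Agent.Lib.Helper14.ZStar
import Cfsg.Agent.Lib.Helper50.Cores
import Cfsg.Agent.S0201
import Cfsg.Agent.S0255
import Cfsg.Agent.S0495
import Cfsg.Agent.S0497

set_option autoImplicit false

/-!
# Groups with an involution whose centralizer is dihedral of order 8
-/

namespace Cfsg.Agent.Lib.Helper14.D8Main

open DihedralGroup Cfsg Cfsg.Agent.Lib.Helper14.D8Group Cfsg.Agent.Lib.Helper14.D8Sym

/-- the outer automorphism of the dihedral group of order 8 -/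
def psiFun : DihedralGroup 4 → DihedralGroup 4
  | r i => r i
  | sr i => sr (i - 1)

/-- the inverse of the outer automorphism of the dihedral group of order 8 -/
def psiInv : DihedralGroup 4 → DihedralGroup 4
  | r i => r i
  | sr i => sr (i + 1)

/-- the outer automorphism of the dihedral group of order 8 -/
def psi : DihedralGroup 4 ≃* DihedralGroup 4 where
  toFun := psiFun
  invFun := psiInv
  left_inv := by
    intro x
    revert x
    decide
  right_inv := by
    intro x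
    revert x
    decide
  map_mul' := by decide

universe u
variable {G : Type u} [Group G]

theorem phi_trans {z : G} (e : Subgroup.centralizer ({z} : Set G) ≃* DihedralGroup 4)
    (x : DihedralGroup 4) : phi (e.trans psi) x = phi e (psi.symm x) := rfl

theorem isolated_of_not_conj {z : G} (e : Subgroup.centralizer ({z} : Set G) ≃* DihedralGroup 4)
    (hz : orderOf z = 2) (h0 : ¬ ∃ g : G, g * z * g⁻¹ = phi e (sr 0))
    (h1 : ¬ ∃ g : G, g * z * g⁻¹ = phi e (sr 1)) : Cfsg.IsIsolatedInvolution z := by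
  refine ⟨hz, ?_⟩
  intro g hcomm
  have hc : g * z * g⁻¹ * z = z * (g * z * g⁻¹) := hcomm.eq.symm
  obtain ⟨x, hx⟩ := exists_phi e hc
  have hxx : x * x = 1 := by
    apply phi_injective e
    rw [map_mul, map_one, hx]
    calc g * z * g⁻¹ * (g * z * g⁻¹) = g * (z * z) * g⁻¹ := by group
      _ = 1 := by rw [t_sq hz]; group
  have hx1 : x ≠ 1 := by
    rintro rfl
    rw [map_one] at hx
    apply t_ne_one hz
    calc z = g⁻¹ * (g * z * g⁻¹) * g := by group
      _ = 1 := by rw [← hx]; group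
  by_cases hx2 : x = r 2
  · rw [← hx, hx2, phi_r2 e hz]
  · exfalso
    obtain ⟨i, rfl⟩ := d8_invol x hxx hx1 hx2
    have key : ∀ i : ZMod 4, i = 0 ∨ i = 1 ∨ i = 2 ∨ i = 3 := by decide
    have hi := key i
    have e22 : ((2 : ZMod 4) + 2) = 0 := by decide
    have e32 : ((3 : ZMod 4) + 2) = 1 := by decide
    rcases hi with rfl | rfl | rfl | rfl
    · exact h0 ⟨g, hx.symm⟩
    · exact h1 ⟨g, hx.symm⟩
    · have := conj_add_two e 2 ⟨g, hx.symm⟩
      rw [e22] at this
      exact h0 this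
    · have := conj_add_two e 3 ⟨g, hx.symm⟩
      rw [e32] at this
      exact h1 this

theorem sup_oddCore_of_isolated [Finite G] (j : G) (hiso : Cfsg.IsIsolatedInvolution j) :
    Subgroup.centralizer ({j} : Set G) ⊔ Cfsg.oddCore G = ⊤ := by
  have hj : orderOf j = 2 := hiso.1
  have hZ : ∀ g : G, j * g * j⁻¹ * g⁻¹ ∈ Cfsg.pPrimeCore 2 G := fun g =>
    Cfsg.Agent.Lib.Helper14.ZStar.zstar'
      (fun G _ _ S n e hO => Cfsg.Agent.S0201.result S n e hO) j hiso g
  have hodd : Odd (Nat.card (Cfsg.pPrimeCore 2 G)) :=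
    Nat.coprime_two_right.mp (Cfsg.Agent.Lib.Helper50.Cores.pPrimeCore_coprime 2)
  have hjj : j * j = 1 := by rw [← pow_two, ← hj, pow_orderOf_eq_one]
  have hjinv : j⁻¹ = j := inv_eq_of_mul_eq_one_left hjj
  rw [eq_top_iff]
  intro g _
  obtain ⟨c, hc_def⟩ : ∃ c, c = j * g⁻¹ * j⁻¹ * g := ⟨_, rfl⟩
  have hcN : c ∈ Cfsg.pPrimeCore 2 G := by
    have h0 := hZ g⁻¹
    rw [inv_inv] at h0
    rw [hc_def]; exact h0
  have hjc : j * c * j⁻¹ = c⁻¹ := by
    rw [hc_def]
    calc j * (j * g⁻¹ * j⁻¹ * g) * j⁻¹ = (j * j) * g⁻¹ * j⁻¹ * g * j⁻¹ := by group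
      _ = g⁻¹ * j * g * j⁻¹ := by rw [hjj, one_mul, hjinv]
      _ = (j * g⁻¹ * j⁻¹ * g)⁻¹ := by group
  have hco : Odd (orderOf c) :=
    Odd.of_dvd_nat hodd (Subgroup.orderOf_dvd_natCard _ hcN)
  obtain ⟨r, hr⟩ := hco
  obtain ⟨d, hd_def⟩ : ∃ d, d = c ^ (r + 1) := ⟨_, rfl⟩
  have hdd : d * d = c := by
    rw [hd_def, ← pow_add]
    have h0 : r + 1 + (r + 1) = orderOf c + 1 := by omega
    rw [h0, pow_succ, pow_orderOf_eq_one, one_mul]
  have hdN : d ∈ Cfsg.pPrimeCore 2 G := by rw [hd_def]; exact Subgroup.pow_mem _ hcN _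
  have hjd : j * d * j⁻¹ = d⁻¹ := by
    rw [hd_def, ← conj_pow, hjc, inv_pow]
  have hgj : j * g * j⁻¹ = g * c⁻¹ := by
    rw [hc_def]; group
  have hfix : j * (g * d⁻¹) * j⁻¹ = g * d⁻¹ := by
    calc j * (g * d⁻¹) * j⁻¹ = (j * g * j⁻¹) * (j * d * j⁻¹)⁻¹ := by group
      _ = g * c⁻¹ * d⁻¹⁻¹ := by rw [hgj, hjd]
      _ = g * (d * d)⁻¹ * d := by rw [hdd, inv_inv]
      _ = g * d⁻¹ := by group
  have hmem : g * d⁻¹ ∈ Subgroup.centralizer ({j} : Set G) := by
    rw [Subgroup.mem_centralizer_iff]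
    intro x hx
    rw [Set.mem_singleton_iff] at hx
    rw [hx]
    calc j * (g * d⁻¹) = (j * (g * d⁻¹) * j⁻¹) * j := by group
      _ = g * d⁻¹ * j := by rw [hfix]
  have h0 : g = (g * d⁻¹) * d := by group
  rw [h0]
  exact Subgroup.mul_mem _ (Subgroup.mem_sup_left hmem) (Subgroup.mem_sup_right hdN)

theorem center_sl32 :
    Subgroup.center (Matrix.SpecialLinearGroup (Fin 3) (ZMod 2)) = ⊥ := by
  rw [Subgroup.eq_bot_iff_forall]
  intro A hA
  rw [Matrix.SpecialLinearGroup.mem_center_iff] at hA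
  obtain ⟨c, hc, hcA⟩ := hA
  have key : ∀ c : ZMod 2, c ^ 3 = 1 → c = 1 := by decide
  rw [Fintype.card_fin] at hc
  have hc1 : c = 1 := key c hc
  apply Subtype.ext
  rw [← hcA, hc1]
  simp

theorem psl32_iso : Nonempty (Matrix.ProjectiveSpecialLinearGroup (Fin 3) (ZMod 2) ≃*
    Matrix.SpecialLinearGroup (Fin 3) (ZMod 2)) :=
  ⟨(QuotientGroup.quotientMulEquivOfEq center_sl32).trans QuotientGroup.quotientBot⟩

theorem classify [Finite G] (z : G) (hz : orderOf z = 2)
    (e : Subgroup.centralizer ({z} : Set G) ≃* DihedralGroup 4) :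
    Subgroup.centralizer ({z} : Set G) ⊔ Cfsg.oddCore G = ⊤ ∨
      Nonempty (G ≃* Equiv.Perm (Fin 4)) ∨ Nonempty (G ≃* Equiv.Perm (Fin 5)) ∨
      Nonempty (G ≃* Matrix.SpecialLinearGroup (Fin 3) (ZMod 2)) ∨
      Nonempty (G ≃* ↥(alternatingGroup (Fin 6))) := by
  have e02 : ((0 : ZMod 4) + 2) = 2 := by decide
  have e12 : ((1 : ZMod 4) + 2) = 3 := by decide
  have e22 : ((2 : ZMod 4) + 2) = 0 := by decide
  by_cases h0 : ∃ g : G, g * z * g⁻¹ = phi e (sr 0) <;>
    by_cases h1 : ∃ g : G, g * z * g⁻¹ = phi e (sr 1)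
  · have hconj : ∀ i : ZMod 4, ∃ g : G, g * z * g⁻¹ = phi e (sr i) := by
      intro i
      have key : ∀ i : ZMod 4, i = 0 ∨ i = 1 ∨ i = 2 ∨ i = 3 := by decide
      have hi := key i
      rcases hi with rfl | rfl | rfl | rfl
      · exact h0
      · exact h1
      · have := conj_add_two e 0 h0
        rwa [e02] at this
      · have := conj_add_two e 1 h1
        rwa [e12] at this
    have := Cfsg.Agent.Lib.Helper14.D8Simple.simple_of_conj e hz hconj
    rcases Cfsg.Agent.Lib.Helper14.D8Gen.order_of_conj e hz hconj with h | h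
    · right; right; right; left
      have : Fact (Nat.Prime 7) := ⟨by norm_num⟩
      obtain ⟨f₁⟩ := Cfsg.Agent.S0495.result h (F := ZMod 7) (ZMod.card 7)
      obtain ⟨f₂⟩ := Cfsg.Agent.S0255.result (F := ZMod 7) (K := ZMod 2) (ZMod.card 7)
        (ZMod.card 2)
      obtain ⟨f₃⟩ := psl32_iso
      exact ⟨(f₁.trans f₂).trans f₃⟩
    · right; right; right; right
      exact Cfsg.Agent.S0497.result h
  · rcases caseC e hz h0 h1 with h | h
    · right; left; exact h
    · right; right; left; exact h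
  · have h0' : ∃ g : G, g * z * g⁻¹ = phi (e.trans psi) (sr 0) := h1
    have h1' : ¬ ∃ g : G, g * z * g⁻¹ = phi (e.trans psi) (sr 1) := by
      intro h
      have h2 : ∃ g : G, g * z * g⁻¹ = phi e (sr 2) := h
      have := conj_add_two e 2 h2
      rw [e22] at this
      exact h0 this
    rcases caseC (e.trans psi) hz h0' h1' with h | h
    · right; left; exact h
    · right; right; left; exact h
  · left
    exact sup_oddCore_of_isolated z (isolated_of_not_conj e hz h0 h1)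

end Cfsg.Agent.Lib.Helper14.D8Main
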