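import Mathlib
import Cfsg.Agent.Lib.Helper15.NpcStmt

/-!
# S3875 piece EXA: a non-`p`-closed group of order `p * m` for a prime power `m ≡ 1 (mod p)`

The group is `F ⋊ ⟨ζ⟩`, `F` the field with `m` elements and `ζ ∈ Fˣ` of order `p` acting on
the additive group of `F` by multiplication.
-/

namespace Cfsg.Agent.Lib.Helper14.NpcEXA

open Cfsg.Agent.Lib.Helper15.NpcStmt

theorem main : ExA := by
  intro p hp m hm hmp
  obtain ⟨r, k, hr, hk, rfl⟩ := (isPrimePow_nat_iff _).1 hm
  have : Fact r.Prime := Fact.mk hr
  have hpp : p.Prime := hp.out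
  have hF : Nat.card (GaloisField r k) = r ^ k := GaloisField.card r k hk.ne'
  have hU : Nat.card (GaloisField r k)ˣ = r ^ k - 1 := by rw [Nat.card_units, hF]
  have hm1 : 1 ≤ r ^ k := Nat.one_le_pow _ _ hr.pos
  have hp_dvd : p ∣ Nat.card (GaloisField r k)ˣ := by
    rw [hU]
    refine (Nat.modEq_iff_dvd' hm1).1 ?_
    show 1 % p = r ^ k % p
    rw [hmp, Nat.mod_eq_of_lt hpp.one_lt]
  obtain ⟨ζ, hζ⟩ := exists_prime_orderOf_dvd_card' p hp_dvd
  have hζ1 : ζ ≠ 1 := by
    rintro rfl
    rw [orderOf_one] at hζ
    exact hpp.one_lt.ne hζ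
  let φ : Subgroup.zpowers ζ →* MulAut (Multiplicative (GaloisField r k)) :=
    (MulAutMultiplicative (GaloisField r k)).symm.toMonoidHom.comp
      (AddAut.mulLeft.comp (Subgroup.zpowers ζ).subtype)
  have hφ : ∀ (c : Subgroup.zpowers ζ) (x : GaloisField r k),
      φ c (Multiplicative.ofAdd x) =
        Multiplicative.ofAdd (((c : (GaloisField r k)ˣ) : GaloisField r k) * x) := by
    intro c x
    rfl
  have hcardN : Nat.card (Multiplicative (GaloisField r k)) = r ^ k := hF
  have hfin : Finite (Multiplicative (GaloisField r k) ⋊[φ] Subgroup.zpowers ζ) :=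
    Finite.of_equiv _ SemidirectProduct.equivProd.symm
  refine ⟨Multiplicative (GaloisField r k) ⋊[φ] Subgroup.zpowers ζ, inferInstance,
    hfin, ?_, ?_⟩
  · rw [SemidirectProduct.card, Nat.card_zpowers, hζ, hcardN, mul_comm]
  · intro hcl
    let c0 : Subgroup.zpowers ζ := ⟨ζ, Subgroup.mem_zpowers ζ⟩
    let g : Multiplicative (GaloisField r k) ⋊[φ] Subgroup.zpowers ζ :=
      SemidirectProduct.inr c0
    let a : Multiplicative (GaloisField r k) ⋊[φ] Subgroup.zpowers ζ :=
      SemidirectProduct.inl (Multiplicative.ofAdd (1 : GaloisField r k))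
    have hc0 : orderOf c0 = p := by
      rw [← hζ]
      exact (orderOf_injective (Subgroup.zpowers ζ).subtype Subtype.coe_injective c0).symm
    have hg : orderOf g = p := by
      rw [← hc0]
      exact orderOf_injective (SemidirectProduct.inr :
        Subgroup.zpowers ζ →* Multiplicative (GaloisField r k) ⋊[φ] Subgroup.zpowers ζ)
        SemidirectProduct.inr_injective c0
    have hP0 : IsPGroup p (Subgroup.zpowers g) := by
      refine IsPGroup.of_card (n := 1) ?_
      rw [Nat.card_zpowers, hg, pow_one]
    obtain ⟨Q, hQ⟩ := hP0.exists_le_sylow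
    have hgQ : g ∈ Q := hQ (Subgroup.mem_zpowers g)
    have hconj : a * g * a⁻¹ ∈ Q := (hcl Q).conj_mem g hgQ a
    have he : a * g * a⁻¹ * g⁻¹ ∈ Q := mul_mem hconj (inv_mem hgQ)
    -- compute the commutator
    have hcomp : a * g * a⁻¹ * g⁻¹ =
        SemidirectProduct.inl (Multiplicative.ofAdd
          ((1 : GaloisField r k) + (ζ : GaloisField r k) * (-1))) := by
      have h1 : g * a⁻¹ * g⁻¹ = SemidirectProduct.inl
          (Multiplicative.ofAdd ((ζ : GaloisField r k) * (-1))) := by
        have h2 := SemidirectProduct.inl_aut (φ := φ) c0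
          (Multiplicative.ofAdd (-1 : GaloisField r k))
        rw [hφ] at h2
        have ha : a⁻¹ = SemidirectProduct.inl (Multiplicative.ofAdd (-1 : GaloisField r k)) := by
          show (SemidirectProduct.inl _)⁻¹ = _
          rw [← map_inv]
          rfl
        have hg' : g⁻¹ = SemidirectProduct.inr c0⁻¹ := by
          show (SemidirectProduct.inr _)⁻¹ = _
          rw [← map_inv]
        rw [ha, hg', h2]
      calc a * g * a⁻¹ * g⁻¹ = a * (g * a⁻¹ * g⁻¹) := by group
        _ = _ := by
          rw [h1]
          show SemidirectProduct.inl _ * SemidirectProduct.inl _ = _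
          rw [← map_mul]
          rfl
    rw [hcomp] at he
    set e : Multiplicative (GaloisField r k) ⋊[φ] Subgroup.zpowers ζ :=
      SemidirectProduct.inl (Multiplicative.ofAdd
        ((1 : GaloisField r k) + (ζ : GaloisField r k) * (-1))) with he_def
    -- `e` is a `p`-element and an `r`-element
    obtain ⟨j, hj⟩ := Q.isPGroup' ⟨e, he⟩
    have hj' : e ^ p ^ j = 1 := by
      have := congrArg Subtype.val hj
      simpa using this
    have hrk : e ^ r ^ k = 1 := by
      rw [he_def, ← map_pow, ← hcardN, pow_card_eq_one', map_one]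
    have hcop : Nat.Coprime (p ^ j) (r ^ k) := by
      refine Nat.Coprime.pow_left j ?_
      rw [Nat.Prime.coprime_iff_not_dvd hpp]
      intro hd
      have := Nat.mod_eq_zero_of_dvd hd
      omega
    have he1 : e = 1 := by
      have h1 : orderOf e ∣ p ^ j := orderOf_dvd_of_pow_eq_one hj'
      have h2 : orderOf e ∣ r ^ k := orderOf_dvd_of_pow_eq_one hrk
      have h3 : orderOf e ∣ 1 := by
        have := Nat.dvd_gcd h1 h2
        rwa [hcop.gcd_eq_one] at this
      exact orderOf_eq_one_iff.1 (Nat.dvd_one.1 h3)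
    have he2 : Multiplicative.ofAdd ((1 : GaloisField r k) + (ζ : GaloisField r k) * (-1))
        = 1 := by
      have := SemidirectProduct.inl_injective (φ := φ) (he1.trans (map_one _).symm)
      exact this
    have he3 : (1 : GaloisField r k) + (ζ : GaloisField r k) * (-1) = 0 := he2
    apply hζ1
    apply Units.ext
    have : (ζ : GaloisField r k) = 1 := by linear_combination -he3
    simpa using this

end Cfsg.Agent.Lib.Helper14.NpcEXA
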