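import Mathlib
import Cfsg.Agent.Lib.Helper15.NpcStmt
import Cfsg.Agent.Lib.Helper5.SL2Card

/-!
# S3875 piece EXB: `PSL(2, p)` is a non-`p`-closed group of order `p (p² - 1) / 2` (`p ≥ 5`)
-/

namespace Cfsg.Agent.Lib.Helper14.NpcEXB

open Cfsg.Agent.Lib.Helper15.NpcStmt Matrix

variable (p : ℕ) [Fact p.Prime]

/-- the upper unitriangular matrix -/
def uu : SpecialLinearGroup (Fin 2) (ZMod p) :=
  ⟨!![1, 1; 0, 1], by simp [Matrix.det_fin_two]⟩

/-- the Weyl element -/
def ww : SpecialLinearGroup (Fin 2) (ZMod p) :=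
  ⟨!![0, 1; -1, 0], by simp [Matrix.det_fin_two]⟩

/-- the inverse of the Weyl element -/
def wi : SpecialLinearGroup (Fin 2) (ZMod p) :=
  ⟨!![0, -1; 1, 0], by simp [Matrix.det_fin_two]⟩

/-- an element of order 6 -/
def gg : SpecialLinearGroup (Fin 2) (ZMod p) :=
  ⟨!![0, 1; -1, 1], by simp [Matrix.det_fin_two]⟩

theorem coe_uu : ((uu p : SpecialLinearGroup (Fin 2) (ZMod p)) :
    Matrix (Fin 2) (Fin 2) (ZMod p)) = !![1, 1; 0, 1] := rfl

theorem coe_ww : ((ww p : SpecialLinearGroup (Fin 2) (ZMod p)) :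
    Matrix (Fin 2) (Fin 2) (ZMod p)) = !![0, 1; -1, 0] := rfl

theorem coe_wi : ((wi p : SpecialLinearGroup (Fin 2) (ZMod p)) :
    Matrix (Fin 2) (Fin 2) (ZMod p)) = !![0, -1; 1, 0] := rfl

theorem coe_gg : ((gg p : SpecialLinearGroup (Fin 2) (ZMod p)) :
    Matrix (Fin 2) (Fin 2) (ZMod p)) = !![0, 1; -1, 1] := rfl

theorem ww_mul_wi : ww p * wi p = 1 := by
  apply Matrix.SpecialLinearGroup.ext
  intro i j
  rw [Matrix.SpecialLinearGroup.coe_mul, coe_ww, coe_wi, Matrix.mul_fin_two]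
  fin_cases i <;> fin_cases j <;> simp

theorem uu_conj : uu p * (ww p * uu p * (ww p)⁻¹) = gg p := by
  have hw : (ww p)⁻¹ = wi p := inv_eq_of_mul_eq_one_right (ww_mul_wi p)
  rw [hw]
  apply Matrix.SpecialLinearGroup.ext
  intro i j
  rw [Matrix.SpecialLinearGroup.coe_mul, Matrix.SpecialLinearGroup.coe_mul,
    Matrix.SpecialLinearGroup.coe_mul, coe_ww, coe_wi, coe_uu, coe_gg, Matrix.mul_fin_two,
    Matrix.mul_fin_two, Matrix.mul_fin_two]
  fin_cases i <;> fin_cases j <;> simp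

theorem gg_cube :
    ((gg p * gg p * gg p : SpecialLinearGroup (Fin 2) (ZMod p)) : Matrix (Fin 2) (Fin 2) (ZMod p))
      = -1 := by
  rw [Matrix.SpecialLinearGroup.coe_mul, Matrix.SpecialLinearGroup.coe_mul, coe_gg,
    Matrix.mul_fin_two, Matrix.mul_fin_two]
  ext i j
  fin_cases i <;> fin_cases j <;> simp

theorem uu_pow (n : ℕ) :
    (((uu p) ^ n : SpecialLinearGroup (Fin 2) (ZMod p)) : Matrix (Fin 2) (Fin 2) (ZMod p))
      = !![1, (n : ZMod p); 0, 1] := by
  induction n with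
  | zero =>
    ext i j
    fin_cases i <;> fin_cases j <;> simp
  | succ n ih =>
    rw [pow_succ, Matrix.SpecialLinearGroup.coe_mul, ih, coe_uu, Matrix.mul_fin_two]
    ext i j
    fin_cases i <;> fin_cases j <;> simp [add_comm]

theorem uu_pow_p : (uu p) ^ p = 1 := by
  apply Matrix.SpecialLinearGroup.ext
  intro i j
  have h := congrFun (congrFun (uu_pow p p) i) j
  rw [h]
  fin_cases i <;> fin_cases j <;> simp

theorem gg_not_central : gg p ∉ Subgroup.center (SpecialLinearGroup (Fin 2) (ZMod p)) := by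
  intro h
  have h1 := (Subgroup.mem_center_iff.1 h) (uu p)
  have h2 := congrArg
    (fun A : SpecialLinearGroup (Fin 2) (ZMod p) => (A : Matrix (Fin 2) (Fin 2) (ZMod p)) 0 0) h1
  beta_reduce at h2
  rw [Matrix.SpecialLinearGroup.coe_mul, Matrix.SpecialLinearGroup.coe_mul, coe_uu, coe_gg,
    Matrix.mul_fin_two, Matrix.mul_fin_two] at h2
  simp at h2

theorem main : ExB := by
  intro p hp hp5
  have hpp : p.Prime := hp.out
  refine ⟨ProjectiveSpecialLinearGroup (Fin 2) (ZMod p), inferInstance, inferInstance, ?_, ?_⟩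
  · have h := Cfsg.Agent.Lib.Helper5.SL2Card.card_PSL_two (F := ZMod p) (q := p) (ZMod.card p)
    have hodd : Nat.gcd 2 (p - 1) = 2 := by
      have h2 : p % 2 = 1 := by
        rcases hpp.eq_two_or_odd with h | h
        · omega
        · exact h
      have h3 : 2 ∣ p - 1 := by omega
      exact Nat.gcd_eq_left h3
    rw [hodd] at h
    rw [← h]
    simp
  · intro hcl
    let π : SpecialLinearGroup (Fin 2) (ZMod p) →* ProjectiveSpecialLinearGroup (Fin 2) (ZMod p) :=
      QuotientGroup.mk' _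
    have hup : (π (uu p)) ^ p = 1 := by
      rw [← map_pow, uu_pow_p, map_one]
    have hP0 : IsPGroup p (Subgroup.zpowers (π (uu p))) := by
      rintro ⟨x, hx⟩
      obtain ⟨z, rfl⟩ := Subgroup.mem_zpowers_iff.1 hx
      refine ⟨1, Subtype.ext ?_⟩
      show (π (uu p) ^ z) ^ p ^ 1 = 1
      rw [pow_one, ← zpow_natCast, ← _root_.zpow_mul, mul_comm, _root_.zpow_mul, zpow_natCast, hup,
        _root_.one_zpow]
    obtain ⟨Q, hQ⟩ := hP0.exists_le_sylow
    have huQ : π (uu p) ∈ Q := hQ (Subgroup.mem_zpowers _)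
    have hconj : π (ww p) * π (uu p) * (π (ww p))⁻¹ ∈ Q := (hcl Q).conj_mem _ huQ _
    have hgQ : π (gg p) ∈ Q := by
      have h1 : π (gg p) = π (uu p) * (π (ww p) * π (uu p) * (π (ww p))⁻¹) := by
        rw [← uu_conj p]
        simp
      rw [h1]
      exact mul_mem huQ hconj
    obtain ⟨j, hj⟩ := Q.isPGroup' ⟨π (gg p), hgQ⟩
    have hj' : π (gg p) ^ p ^ j = 1 := by
      have := congrArg Subtype.val hj
      simpa using this
    have h3 : π (gg p) ^ 3 = 1 := by
      rw [← map_pow]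
      apply (QuotientGroup.eq_one_iff _).2
      rw [Subgroup.mem_center_iff]
      intro h
      have hc : ((gg p ^ 3 : SpecialLinearGroup (Fin 2) (ZMod p)) :
          Matrix (Fin 2) (Fin 2) (ZMod p)) = -1 := by
        rw [pow_succ, pow_succ, pow_one]
        exact gg_cube p
      apply Matrix.SpecialLinearGroup.ext
      intro a b
      rw [Matrix.SpecialLinearGroup.coe_mul, Matrix.SpecialLinearGroup.coe_mul, hc]
      simp
    have hcop : Nat.Coprime (p ^ j) 3 := by
      refine Nat.Coprime.pow_left j ?_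
      rw [Nat.Prime.coprime_iff_not_dvd hpp]
      intro hd
      have := (Nat.prime_dvd_prime_iff_eq hpp Nat.prime_three).1 hd
      omega
    have he1 : π (gg p) = 1 := by
      have h1 : orderOf (π (gg p)) ∣ p ^ j := orderOf_dvd_of_pow_eq_one hj'
      have h2 : orderOf (π (gg p)) ∣ 3 := orderOf_dvd_of_pow_eq_one h3
      have h4 : orderOf (π (gg p)) ∣ 1 := by
        have := Nat.dvd_gcd h1 h2
        rwa [hcop.gcd_eq_one] at this
      exact orderOf_eq_one_iff.1 (Nat.dvd_one.1 h4)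
    exact gg_not_central p ((QuotientGroup.eq_one_iff _).1 he1)

end Cfsg.Agent.Lib.Helper14.NpcEXB
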