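import Mathlib
import Cfsg.Agent.Lib.Helper92.PGStmt

/-!
# S2490 piece STRUCT: the chief factor carrying the prime `p`

`main : PClos → PPrime → Struct`.
-/

namespace Cfsg.Agent.Lib.Helper14.PGSTRUCT

open Cfsg.Agent.Lib.Helper92.PGStmt

universe u

/-- The order of the join with a normal subgroup. -/
theorem card_sup_eq {G : Type u} [Group G] [Finite G] (H N : Subgroup G) [H.Normal] :
    Nat.card (H ⊔ N : Subgroup G) = H.relIndex N * Nat.card H := by
  have h1 : H.relIndex (H ⊔ N) * Nat.card H = Nat.card (H ⊔ N : Subgroup G) := by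
    have h := Subgroup.relIndex_mul_relIndex ⊥ H (H ⊔ N) bot_le le_sup_left
    rw [Subgroup.relIndex_bot_left, Subgroup.relIndex_bot_left] at h
    rw [← h, mul_comm]
  have h2 : H.relIndex (H ⊔ N) = H.relIndex N := Subgroup.relIndex_sup_left N H
  rw [← h1, h2]

theorem main : PClos.{u} → PPrime.{u} → Struct.{u} := by
  intro hPC hPP G _ _ p hp hpG hp2
  classical
  -- `H`: a normal subgroup of order prime to `p`, of maximal order
  obtain ⟨H, ⟨hHn, hHp⟩, hHmax⟩ : ∃ H : Subgroup G, (H.Normal ∧ ¬ p ∣ Nat.card H) ∧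
      ∀ N : Subgroup G, N.Normal → ¬ p ∣ Nat.card N → Nat.card N ≤ Nat.card H := by
    have hne : ({N : Subgroup G | N.Normal ∧ ¬ p ∣ Nat.card N}).Nonempty := by
      refine ⟨⊥, inferInstance, ?_⟩
      rw [Subgroup.card_bot]
      exact hp.one_lt.ne' ∘ Nat.dvd_one.1
    obtain ⟨H, hH, hmax⟩ := Set.exists_max_image {N : Subgroup G | N.Normal ∧ ¬ p ∣ Nat.card N}
      (fun N => Nat.card N) (Set.toFinite _) hne
    exact ⟨H, hH, fun N hN hNp => hmax N ⟨hN, hNp⟩⟩
  -- every normal subgroup of order prime to `p` lies in `H`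
  have hHtop : ∀ N : Subgroup G, N.Normal → ¬ p ∣ Nat.card N → N ≤ H := by
    intro N hN hNp
    have hsup : (H ⊔ N).Normal := inferInstance
    have hcard : Nat.card (H ⊔ N : Subgroup G) = H.relIndex N * Nat.card H := card_sup_eq H N
    have hdvd : H.relIndex N ∣ Nat.card N := Subgroup.relIndex_dvd_card H N
    have hnp : ¬ p ∣ Nat.card (H ⊔ N : Subgroup G) := by
      rw [hcard]
      intro h
      rcases (Nat.Prime.dvd_mul hp).1 h with h | h
      · exact hNp (h.trans hdvd)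
      · exact hHp h
    have hle := hHmax _ hsup hnp
    have h3 : H = H ⊔ N := Subgroup.eq_of_le_of_card_ge le_sup_left hle
    rw [h3]
    exact le_sup_right
  -- `K`: a normal subgroup containing `H`, of order divisible by `p`, of minimal order
  obtain ⟨K, ⟨hKn, hHK, hKp⟩, hKmin⟩ : ∃ K : Subgroup G,
      (K.Normal ∧ H ≤ K ∧ p ∣ Nat.card K) ∧
      ∀ N : Subgroup G, N.Normal → H ≤ N → p ∣ Nat.card N → Nat.card K ≤ Nat.card N := by
    have hne : ({N : Subgroup G | N.Normal ∧ H ≤ N ∧ p ∣ Nat.card N}).Nonempty := by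
      refine ⟨⊤, inferInstance, le_top, ?_⟩
      rw [Subgroup.card_top]
      exact hpG
    obtain ⟨K, hK, hmin⟩ := Set.exists_min_image
      {N : Subgroup G | N.Normal ∧ H ≤ N ∧ p ∣ Nat.card N}
      (fun N => Nat.card N) (Set.toFinite _) hne
    exact ⟨K, hK, fun N hN hHN hNp => hmin N ⟨hN, hHN, hNp⟩⟩
  refine ⟨H, K, hHn, hKn, hHK, hHp, hKp, ?_⟩
  intro M hHM hMK hnorm
  by_cases hpM : p ∣ Nat.card M
  · right
    obtain ⟨L, hLn, hLM, hpL⟩ := hPC G p hp hp2 K M hKn hMK hnorm hpM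
    have hsup : (H ⊔ L).Normal := inferInstance
    have h1 : H ⊔ L ≤ M := sup_le hHM hLM
    have hp' : p ∣ Nat.card (H ⊔ L : Subgroup G) :=
      hpL.trans (Subgroup.card_dvd_of_le le_sup_right)
    have h2 := hKmin _ hsup le_sup_left hp'
    have h3 : Nat.card (H ⊔ L : Subgroup G) ≤ Nat.card M :=
      Nat.le_of_dvd Nat.card_pos (Subgroup.card_dvd_of_le h1)
    exact Subgroup.eq_of_le_of_card_ge hMK (h2.trans h3)
  · left
    obtain ⟨L, hLn, hML, hLK, hpL⟩ := hPP G p hp K M hKn hMK hnorm hpM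
    exact le_antisymm (hML.trans (hHtop L hLn hpL)) hHM

end Cfsg.Agent.Lib.Helper14.PGSTRUCT
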