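import Mathlib
import Cfsg.Agent.Lib.Helper22.S56Stmt

/-!
# S1356 / NILPROD (call by helper22; helper14, second seat)

`H = O D`, `O` a normal `q`-group, `H / O` nilpotent, `D'` centralizes `O`: `H'` is nilpotent.
-/

set_option autoImplicit false

namespace Cfsg.Agent.Lib.Helper14.S56NILPROD

open Cfsg.Agent.Lib.Helper22.S56Stmt
open scoped Pointwise

universe u

theorem nil_of_le {G : Type u} [Group G] {H₁ H₂ : Subgroup G} (h : H₁ ≤ H₂)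
    (h2 : Group.IsNilpotent ↥H₂) : Group.IsNilpotent ↥H₁ := by
  have : Group.IsNilpotent ↥(H₁.subgroupOf H₂) := inferInstance
  exact Group.nilpotent_of_mulEquiv (Subgroup.subgroupOfEquivOfLe h)

theorem main : NilProd.{u} := by
  intro X _ _ H O D _ _ q _ hOq hOH hDH hDO hHOD hnil hcent
  have hDnil : Group.IsNilpotent ↥D := by
    obtain ⟨f, hf⟩ : ∃ f : ↥D →* ↥(H.map (QuotientGroup.mk' O)),
        ∀ d : ↥D, ((f d : ↥(H.map (QuotientGroup.mk' O))) : X ⧸ O)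
          = QuotientGroup.mk' O (d : X) :=
      ⟨((QuotientGroup.mk' O).comp D.subtype).codRestrict _
        (fun d => Subgroup.mem_map_of_mem _ (hDH d.2)), fun d => rfl⟩
    have := hnil
    refine Subgroup.isNilpotent_of_ker_le_center f ?_
    intro d hd
    rw [MonoidHom.mem_ker] at hd
    have h1 : QuotientGroup.mk' O (d : X) = 1 := by
      rw [← hf d, hd]
      rfl
    have h2 : (d : X) ∈ O := (QuotientGroup.eq_one_iff _).mp h1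
    have h3 : (d : X) ∈ D ⊓ O := ⟨d.2, h2⟩
    rw [hDO, Subgroup.mem_bot] at h3
    have h4 : d = 1 := Subtype.ext h3
    rw [h4]
    exact Subgroup.one_mem _
  have hD'le : ⁅D, D⁆ ≤ D :=
    Subgroup.commutator_le.mpr (fun a ha b hb =>
      D.mul_mem (D.mul_mem (D.mul_mem ha hb) (D.inv_mem ha)) (D.inv_mem hb))
  have hD'nil : Group.IsNilpotent ↥⁅D, D⁆ := nil_of_le hD'le hDnil
  have hOnil : Group.IsNilpotent ↥O := hOq.isNilpotent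
  have hLnil : Group.IsNilpotent ↥(O ⊔ ⁅D, D⁆) := by
    have hcomm : ∀ (o : ↥O) (d : ↥⁅D, D⁆), Commute (O.subtype o) ((⁅D, D⁆).subtype d) := by
      intro o d
      exact hcent d.2 o o.2
    obtain ⟨φ, hφ⟩ : ∃ φ : ↥O × ↥⁅D, D⁆ →* X,
        φ = MonoidHom.noncommCoprod O.subtype (⁅D, D⁆).subtype hcomm := ⟨_, rfl⟩
    have hrange : φ.range = O ⊔ ⁅D, D⁆ := by
      rw [hφ, MonoidHom.noncommCoprod_range, Subgroup.range_subtype, Subgroup.range_subtype]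
    rw [← hrange]
    exact Group.nilpotent_of_surjective φ.rangeRestrict φ.rangeRestrict_surjective
  apply nil_of_le _ hLnil
  rw [Subgroup.commutator_le]
  intro h₁ hh₁ h₂ hh₂
  have e1 : h₁ ∈ (O : Set X) * (D : Set X) := by
    rw [← Subgroup.normal_mul]
    exact hHOD hh₁
  have e2 : h₂ ∈ (O : Set X) * (D : Set X) := by
    rw [← Subgroup.normal_mul]
    exact hHOD hh₂
  obtain ⟨o₁, ho₁, d₁, hd₁, rfl⟩ := Set.mem_mul.mp e1
  obtain ⟨o₂, ho₂, d₂, hd₂, rfl⟩ := Set.mem_mul.mp e2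
  have hπ1 : QuotientGroup.mk' O o₁ = 1 := (QuotientGroup.eq_one_iff o₁).mpr ho₁
  have hπ2 : QuotientGroup.mk' O o₂ = 1 := (QuotientGroup.eq_one_iff o₂).mpr ho₂
  have h3 : QuotientGroup.mk' O ((o₁ * d₁) * (o₂ * d₂) * (o₁ * d₁)⁻¹ * (o₂ * d₂)⁻¹)
      = QuotientGroup.mk' O (d₁ * d₂ * d₁⁻¹ * d₂⁻¹) := by
    simp only [map_mul, map_inv, hπ1, hπ2, one_mul]
  have h4 : ((o₁ * d₁) * (o₂ * d₂) * (o₁ * d₁)⁻¹ * (o₂ * d₂)⁻¹) / (d₁ * d₂ * d₁⁻¹ * d₂⁻¹) ∈ O :=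
    QuotientGroup.eq_iff_div_mem.mp h3
  have h5 : (o₁ * d₁) * (o₂ * d₂) * (o₁ * d₁)⁻¹ * (o₂ * d₂)⁻¹
      = (((o₁ * d₁) * (o₂ * d₂) * (o₁ * d₁)⁻¹ * (o₂ * d₂)⁻¹) / (d₁ * d₂ * d₁⁻¹ * d₂⁻¹))
        * (d₁ * d₂ * d₁⁻¹ * d₂⁻¹) := by
    rw [div_mul_cancel]
  show (o₁ * d₁) * (o₂ * d₂) * (o₁ * d₁)⁻¹ * (o₂ * d₂)⁻¹ ∈ O ⊔ ⁅D, D⁆
  rw [h5]
  exact Subgroup.mul_mem_sup h4 (Subgroup.commutator_mem_commutator hd₁ hd₂)

end Cfsg.Agent.Lib.Helper14.S56NILPROD
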