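import Mathlib
import Cfsg.Agent.S4231

set_option autoImplicit false

/-!
# Recognition of `S₆` as an extension of `A₆` by an involution centralizing an element of order 3
-/

namespace Cfsg.Agent.Lib.Helper14.S6Rec

open Equiv Equiv.Perm

/-- an automorphism of `A₆` fixing an element of order `3` preserves `3`-cycles -/
theorem preserves_of_fixed (φ : MulAut (alternatingGroup (Fin 6)))
    (a₀ : alternatingGroup (Fin 6)) (h3 : orderOf (a₀ : Perm (Fin 6)) = 3) (hfix : φ a₀ = a₀)
    (c : alternatingGroup (Fin 6)) (hc : IsThreeCycle (c : Perm (Fin 6))) :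
    IsThreeCycle ((φ c : alternatingGroup (Fin 6)) : Perm (Fin 6)) := by
  classical
  have hord : ∀ a : alternatingGroup (Fin 6), orderOf (a : Perm (Fin 6)) = 3 →
      orderOf ((φ a : alternatingGroup (Fin 6)) : Perm (Fin 6)) = 3 := by
    intro a ha
    rw [Subgroup.orderOf_coe, MulEquiv.orderOf_eq, ← Subgroup.orderOf_coe]
    exact ha
  by_contra hnot
  have h33 : ∀ c' : alternatingGroup (Fin 6), IsThreeCycle (c' : Perm (Fin 6)) →
      ((φ c' : alternatingGroup (Fin 6)) : Perm (Fin 6)).cycleType = {3, 3} := by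
    intro c' hc'
    have hconj : IsConj c' c :=
      alternatingGroup.isThreeCycle_isConj
        (by rw [Nat.card_eq_fintype_card, Fintype.card_fin]; omega) hc' hc
    obtain ⟨b, hb⟩ := isConj_iff.mp hconj
    have h1 : φ b * φ c' * (φ b)⁻¹ = φ c := by rw [← map_inv, ← map_mul, ← map_mul, hb]
    have h2 : ((φ c : alternatingGroup (Fin 6)) : Perm (Fin 6)).cycleType =
        ((φ c' : alternatingGroup (Fin 6)) : Perm (Fin 6)).cycleType := by
      rw [← h1]
      simp only [Subgroup.coe_mul, Subgroup.coe_inv]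
      exact cycleType_conj
    rw [← h2]
    rcases Cfsg.Agent.S4231.cycleType_of_order_three _ (hord c hc.orderOf) with h | h
    · exact absurd h hnot
    · exact h
  set C1 := Finset.univ.filter fun s : Perm (Fin 6) => s.cycleType = {3} with hC1
  set C2 := Finset.univ.filter fun s : Perm (Fin 6) => s.cycleType = {3, 3} with hC2
  let f : Perm (Fin 6) → Perm (Fin 6) := fun s =>
    if h : s ∈ alternatingGroup (Fin 6) then
      ((φ ⟨s, h⟩ : alternatingGroup (Fin 6)) : Perm (Fin 6)) else s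
  have hmemA : ∀ s ∈ C1, s ∈ alternatingGroup (Fin 6) := by
    intro s hs
    exact IsThreeCycle.mem_alternatingGroup (Finset.mem_filter.mp hs).2
  have hf : ∀ s (hs : s ∈ C1),
      f s = ((φ ⟨s, hmemA s hs⟩ : alternatingGroup (Fin 6)) : Perm (Fin 6)) := by
    intro s hs
    simp only [f, dif_pos (hmemA s hs)]
  have himg : C1.image f ⊆ C2 := by
    intro t ht
    obtain ⟨s, hs, rfl⟩ := Finset.mem_image.mp ht
    rw [hf s hs]
    exact Finset.mem_filter.mpr ⟨Finset.mem_univ _, h33 _ (Finset.mem_filter.mp hs).2⟩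
  have hinj : Set.InjOn f C1 := by
    intro s hs t ht hst
    rw [Finset.mem_coe] at hs ht
    rw [hf s hs, hf t ht] at hst
    have := φ.injective (Subtype.ext hst)
    exact congrArg Subtype.val this
  have hcard : (C1.image f).card = C1.card := Finset.card_image_of_injOn hinj
  have heq : C1.image f = C2 :=
    Finset.eq_of_subset_of_card_le himg
      (by rw [hcard, hC1, hC2, Cfsg.Agent.S4231.card_c1, Cfsg.Agent.S4231.card_c2])
  rcases Cfsg.Agent.S4231.cycleType_of_order_three _ h3 with h | h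
  · have h4 := h33 a₀ h
    rw [hfix, h] at h4
    revert h4
    decide
  · have hmem : (a₀ : Perm (Fin 6)) ∈ C2 := Finset.mem_filter.mpr ⟨Finset.mem_univ _, h⟩
    rw [← heq] at hmem
    obtain ⟨s, hs, hse⟩ := Finset.mem_image.mp hmem
    rw [hf s hs] at hse
    have h1 : φ ⟨s, hmemA s hs⟩ = φ a₀ := by
      rw [hfix]; exact Subtype.ext hse
    have h2 := φ.injective h1
    have h3' : s.cycleType = {3} := (Finset.mem_filter.mp hs).2
    have h5 : s = (a₀ : Perm (Fin 6)) := congrArg Subtype.val h2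
    rw [h5, h] at h3'
    revert h3'
    decide

universe u

/-- a group with a normal subgroup of index `2` isomorphic to `A₆`, an involution outside it
centralizing an element of order `3` of it, and trivial centralizer of the subgroup, is `S₆` -/
theorem s6_of_index_two {G : Type u} [Group G] [Finite G] (M : Subgroup G) [hM : M.Normal]
    (hM2 : M.index = 2) (ψ : M ≃* alternatingGroup (Fin 6)) (t : G) (htM : t ∉ M)
    (ht2 : t * t = 1) (x : G) (hxM : x ∈ M) (hx3 : orderOf x = 3) (hcomm : t * x = x * t)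
    (hcent : ∀ c : G, (∀ g ∈ M, c * g = g * c) → c = 1) :
    Nonempty (G ≃* Perm (Fin 6)) := by
  classical
  have htinv : t⁻¹ = t := inv_eq_of_mul_eq_one_left ht2
  -- the automorphism of `A₆` induced by `t`
  let cj : MulAut M := MulAut.conjNormal t
  let φA : MulAut (alternatingGroup (Fin 6)) := (ψ.symm.trans cj).trans ψ
  have hφA : ∀ g : M, φA (ψ g) = ψ (cj g) := by
    intro g
    change ψ (cj (ψ.symm (ψ g))) = ψ (cj g)
    rw [ψ.symm_apply_apply]
  have hcj : ∀ g : M, ((cj g : M) : G) = t * g * t⁻¹ := fun g => MulAut.conjNormal_apply t g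
  let a₀ : alternatingGroup (Fin 6) := ψ ⟨x, hxM⟩
  have hfix : φA a₀ = a₀ := by
    change φA (ψ ⟨x, hxM⟩) = ψ ⟨x, hxM⟩
    rw [hφA]
    congr 1
    apply Subtype.ext
    rw [hcj]
    change t * x * t⁻¹ = x
    rw [hcomm]; group
  have h3 : orderOf (a₀ : Perm (Fin 6)) = 3 := by
    rw [Subgroup.orderOf_coe]
    change orderOf (ψ ⟨x, hxM⟩) = 3
    rw [MulEquiv.orderOf_eq, ← Subgroup.orderOf_coe]
    exact hx3
  have hpres := preserves_of_fixed φA a₀ h3 hfix
  obtain ⟨σ, hσ⟩ := Cfsg.Agent.S2119.exists_conj (e0 := (0 : Fin 6)) (e1 := 1) (p2 := 2)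
    (p3 := 3) (by decide) (by decide) (by decide) (by decide) (by decide) (by decide)
    ((alternatingGroup (Fin 6)).subtype.comp φA.toMonoidHom)
    (fun a b hab => φA.injective (Subtype.ext hab)) hpres
  have hσ' : ∀ g : alternatingGroup (Fin 6),
      ((φA g : alternatingGroup (Fin 6)) : Perm (Fin 6)) = σ * (g : Perm (Fin 6)) * σ⁻¹ := hσ
  -- `σ² = 1`
  have hφφ : ∀ g : alternatingGroup (Fin 6), φA (φA g) = g := by
    intro g
    obtain ⟨m, rfl⟩ := ψ.surjective g
    rw [hφA, hφA]
    congr 1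
    apply Subtype.ext
    rw [hcj, hcj, htinv]
    calc t * (t * (m : G) * t) * t = (t * t) * m * (t * t) := by group
      _ = m := by rw [ht2, one_mul, mul_one]
  have hσσ : σ * σ = 1 := by
    apply Cfsg.Agent.S4231.conjNormal_injective 6 (by norm_num)
    rw [map_one]
    ext g : 2
    rw [MulAut.conjNormal_apply, MulAut.one_apply]
    have h1 := hσ' (φA g)
    rw [hφφ, hσ' g] at h1
    calc σ * σ * (g : Perm (Fin 6)) * (σ * σ)⁻¹ = σ * (σ * (g : Perm (Fin 6)) * σ⁻¹) * σ⁻¹ := by
          group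
      _ = (g : Perm (Fin 6)) := h1.symm
  have hσinv : σ⁻¹ = σ := inv_eq_of_mul_eq_one_left hσσ
  -- `σ` is odd
  have hσA : σ ∉ alternatingGroup (Fin 6) := by
    intro hσA
    let s : M := ψ.symm ⟨σ, hσA⟩
    have hs : ψ s = ⟨σ, hσA⟩ := ψ.apply_symm_apply _
    have hc : ((s : G)⁻¹ * t) = 1 := by
      apply hcent
      intro g hg
      have h1 : ψ (cj ⟨g, hg⟩) = ψ (s * ⟨g, hg⟩ * s⁻¹) := by
        apply Subtype.ext
        rw [← hφA, hσ', map_mul, map_mul, map_inv, hs]
        rfl
      have h2 := congrArg Subtype.val (ψ.injective h1)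
      rw [hcj] at h2
      have h2' : t * g * t⁻¹ = (s : G) * g * (s : G)⁻¹ := h2
      calc (s : G)⁻¹ * t * g = (s : G)⁻¹ * (t * g * t⁻¹) * t := by group
        _ = (s : G)⁻¹ * ((s : G) * g * (s : G)⁻¹) * t := by rw [h2']
        _ = g * ((s : G)⁻¹ * t) := by group
    apply htM
    have : t = (s : G) := by
      calc t = (s : G) * ((s : G)⁻¹ * t) := by group
        _ = (s : G) := by rw [hc, mul_one]
    rw [this]; exact s.2
  -- the isomorphism
  have hmulM : ∀ {a b : G}, a * b ∈ M ↔ (a ∈ M ↔ b ∈ M) :=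
    fun {a b} => Subgroup.mul_mem_iff_of_index_two hM2
  have hgt : ∀ g : G, g ∉ M → g * t ∈ M := by
    intro g hg
    rw [hmulM]
    exact ⟨fun h => (hg h).elim, fun h => (htM h).elim⟩
  let ψ' : G → Perm (Fin 6) := fun g => if h : g ∈ M then ((ψ ⟨g, h⟩ : alternatingGroup (Fin 6)) :
    Perm (Fin 6)) else 1
  have hψ' : ∀ g (h : g ∈ M), ψ' g = ((ψ ⟨g, h⟩ : alternatingGroup (Fin 6)) : Perm (Fin 6)) := by
    intro g h
    simp only [ψ', dif_pos h]
  have hψ'mul : ∀ a b : G, a ∈ M → b ∈ M → ψ' (a * b) = ψ' a * ψ' b := by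
    intro a b ha hb
    rw [hψ' _ (M.mul_mem ha hb), hψ' _ ha, hψ' _ hb]
    have : (⟨a * b, M.mul_mem ha hb⟩ : M) = ⟨a, ha⟩ * ⟨b, hb⟩ := rfl
    rw [this, map_mul]; rfl
  have hψ'conj : ∀ a : G, a ∈ M → σ * ψ' a = ψ' (t * a * t) * σ := by
    intro a ha
    have hta : t * a * t ∈ M := by
      have := hM.conj_mem a ha t
      rwa [htinv] at this
    rw [hψ' _ ha, hψ' _ hta]
    have h1 := hσ' (ψ ⟨a, ha⟩)
    rw [hφA] at h1
    have h2 : cj ⟨a, ha⟩ = ⟨t * a * t, hta⟩ := by
      apply Subtype.ext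
      rw [hcj, htinv]
    rw [h2] at h1
    rw [h1]; group
  let F : G → Perm (Fin 6) := fun g => if g ∈ M then ψ' g else ψ' (g * t) * σ
  have hF1 : ∀ g, g ∈ M → F g = ψ' g := by
    intro g h
    simp only [F, if_pos h]
  have hF2 : ∀ g, g ∉ M → F g = ψ' (g * t) * σ := by
    intro g h
    simp only [F, if_neg h]
  have hFmul : ∀ a b : G, F (a * b) = F a * F b := by
    intro a b
    by_cases ha : a ∈ M <;> by_cases hb : b ∈ M
    · rw [hF1 _ (M.mul_mem ha hb), hF1 _ ha, hF1 _ hb, hψ'mul a b ha hb]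
    · have hab : a * b ∉ M := by
        rw [hmulM]; exact fun h => hb (h.mp ha)
      rw [hF2 _ hab, hF1 _ ha, hF2 _ hb, mul_assoc a b t, hψ'mul a (b * t) ha (hgt b hb),
        mul_assoc]
    · have hab : a * b ∉ M := by
        rw [hmulM]; exact fun h => ha (h.mpr hb)
      rw [hF2 _ hab, hF2 _ ha, hF1 _ hb, mul_assoc (ψ' (a * t)), hψ'conj b hb, ← mul_assoc]
      have htbt : t * b * t ∈ M := by
        have := hM.conj_mem b hb t
        rwa [htinv] at this
      rw [← hψ'mul (a * t) (t * b * t) (hgt a ha) htbt]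
      have e1 : a * t * (t * b * t) = a * b * t := by
        calc a * t * (t * b * t) = a * (t * t) * b * t := by group
          _ = a * b * t := by rw [ht2, mul_one]
      rw [e1]
    · have hab : a * b ∈ M := by
        rw [hmulM]; exact ⟨fun h => (ha h).elim, fun h => (hb h).elim⟩
      rw [hF1 _ hab, hF2 _ ha, hF2 _ hb, mul_assoc (ψ' (a * t)), ← mul_assoc σ,
        hψ'conj (b * t) (hgt b hb), mul_assoc (ψ' (t * (b * t) * t)), hσσ, mul_one]
      have h1 : t * (b * t) * t ∈ M := by
        have := hM.conj_mem (b * t) (hgt b hb) t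
        rwa [htinv] at this
      rw [← hψ'mul (a * t) (t * (b * t) * t) (hgt a ha) h1]
      have e1 : a * t * (t * (b * t) * t) = a * b := by
        calc a * t * (t * (b * t) * t) = a * (t * t) * b * (t * t) := by group
          _ = a * b := by rw [ht2, mul_one, mul_one]
      rw [e1]
  let Fh : G →* Perm (Fin 6) := MonoidHom.mk' F hFmul
  have hinj : Function.Injective Fh := by
    rw [injective_iff_map_eq_one]
    intro g hg
    have hg' : F g = 1 := hg
    by_cases hgM : g ∈ M
    · rw [hF1 _ hgM, hψ' _ hgM] at hg'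
      have h1 : ψ ⟨g, hgM⟩ = 1 := Subtype.ext hg'
      have h2 : (⟨g, hgM⟩ : M) = 1 := by
        rw [← ψ.map_one] at h1
        exact ψ.injective h1
      exact congrArg Subtype.val h2
    · exfalso
      rw [hF2 _ hgM, hψ' _ (hgt g hgM)] at hg'
      apply hσA
      have h1 : σ = ((ψ ⟨g * t, hgt g hgM⟩ : alternatingGroup (Fin 6)) : Perm (Fin 6))⁻¹ := by
        rw [eq_inv_iff_mul_eq_one, mul_eq_one_comm]
        exact hg'
      rw [h1]
      exact Subgroup.inv_mem _ (ψ ⟨g * t, hgt g hgM⟩).2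
  have hcard : Nat.card G = Nat.card (Perm (Fin 6)) := by
    rw [← Subgroup.card_mul_index M, hM2, Nat.card_congr ψ.toEquiv,
      ← two_mul_nat_card_alternatingGroup (α := Fin 6), mul_comm]
  have hb : Function.Bijective Fh :=
    (Nat.bijective_iff_injective_and_card Fh).mpr ⟨hinj, hcard⟩
  exact ⟨MulEquiv.ofBijective Fh hb⟩

end Cfsg.Agent.Lib.Helper14.S6Rec
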