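import Mathlib
import Cfsg.Agent.Lib.Helper10.SWDefs
import Cfsg.Agent.Lib.Helper14.SWAux

/-!
# Sims–Wong (S3685), piece WD: the supply of bad walks of length `2`
-/

set_option autoImplicit false

namespace Cfsg.Agent.Lib.Helper14.SWWD

open Pointwise
open Cfsg.Agent.Lib.Helper10.SWDefs Cfsg.Agent.Lib.Helper14.SWAux

universe u

variable {G : Type u} [Group G]

/-- a point has a line different from a given subgroup -/
theorem exists_line_ne {H P : Subgroup G} (hB : Base H) (hP : IsPt H P) (S₀ : Subgroup G) :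
    ∃ S', IsLine P S' ∧ S' ≠ S₀ := by
  obtain ⟨S₁, S₂, S₃, h12, -, -, hlines⟩ := hB.three P hP
  by_cases h : S₁ = S₀
  · refine ⟨S₂, (hlines S₂).2 (Or.inr (Or.inl rfl)), ?_⟩
    intro h'
    exact h12 (h.trans h'.symm)
  · exact ⟨S₁, (hlines S₁).2 (Or.inl rfl), h⟩

/-- the orbital of `(Ps, Ys)` at a point `P` has a point off any given line -/
theorem orbital_ne {H Ps Ys P : Subgroup G} (hB : Base H) (hPs : IsPt H Ps) (hYs : IsPt H Ys)
    (hadj : Adj Ps Ys) (hP : IsPt H P) (S₀ : Subgroup G) :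
    ∃ g : G, MulAut.conj g • Ps = P ∧ P ⊓ MulAut.conj g • Ys ≠ S₀ := by
  obtain ⟨g0, hg0⟩ := isPt_trans hPs hP
  have hadj0 : Adj P (MulAut.conj g0 • Ys) := by
    have h := adj_conj g0 hadj
    rwa [← hg0] at h
  have hline0 : IsLine P (P ⊓ MulAut.conj g0 • Ys) :=
    hB.adj_line P _ hP (isPt_conj hYs g0) hadj0
  by_cases h : P ⊓ MulAut.conj g0 • Ys = S₀
  · obtain ⟨S', hS', hS'ne⟩ := exists_line_ne hB hP S₀
    obtain ⟨p, hp, hpS⟩ := hB.line_conj P _ S' hP hline0 hS'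
    refine ⟨p * g0, ?_, ?_⟩
    · rw [← conj_mul_smul, ← hg0, conj_self hp]
    · have h2 : P ⊓ MulAut.conj (p * g0) • Ys = S' := by
        rw [hpS, Subgroup.smul_inf, conj_self hp, conj_mul_smul]
      rw [h2]
      exact hS'ne
  · exact ⟨g0, hg0.symm, h⟩

/-- a point of the orbital is determined by its line -/
theorem orbital_inj {H Ps Ys : Subgroup G} (hB : Base H) (hPs : IsPt H Ps) (hYs : IsPt H Ys)
    (hadj : Adj Ps Ys) {g1 g2 : G} (h : MulAut.conj g1 • Ps = MulAut.conj g2 • Ps)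
    (hl : MulAut.conj g1 • Ps ⊓ MulAut.conj g1 • Ys = MulAut.conj g2 • Ps ⊓ MulAut.conj g2 • Ys) :
    MulAut.conj g1 • Ys = MulAut.conj g2 • Ys := by
  have hP : IsPt H (MulAut.conj g1 • Ps) := isPt_conj hPs g1
  have hline : IsLine (MulAut.conj g1 • Ps) (MulAut.conj g1 • Ps ⊓ MulAut.conj g1 • Ys) :=
    hB.adj_line _ _ hP (isPt_conj hYs g1) (adj_conj g1 hadj)
  have hk : ∀ A : Subgroup G, MulAut.conj (g2 * g1⁻¹) • MulAut.conj g1 • A = MulAut.conj g2 • A := by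
    intro A
    rw [conj_mul_smul, inv_mul_cancel_right]
  have hkP : g2 * g1⁻¹ ∈ MulAut.conj g1 • Ps := by
    apply hB.self_norm_pt _ hP
    rw [hk, h]
  have hkS : g2 * g1⁻¹ ∈ MulAut.conj g1 • Ps ⊓ MulAut.conj g1 • Ys := by
    apply hB.line_self_norm _ _ hP hline _ hkP
    rw [Subgroup.smul_inf, hk, hk, hl]
  rw [← hk Ys, conj_self hkS.2]

theorem le_conj_iff (g : G) (A B : Subgroup G) :
    Zs (MulAut.conj g • A) ≤ Qs (MulAut.conj g • B) ↔ Zs A ≤ Qs B := by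
  rw [Zs_conj, Qs_conj]
  exact Subgroup.pointwise_smul_le_pointwise_smul_iff

theorem main : StWD.{u} := by
  intro hWA G _ _ H hB hZ Ps Ys hOr hA hex
  obtain ⟨x, hx⟩ := hex
  obtain ⟨hPs, hYs, hadj, -⟩ := hOr
  have hadj' : Adj Ys Ps := hB.adj_symm Ps Ys hPs hYs hadj
  have h0 : ¬ Bad H 0 := hx.2.2 0 (by norm_num)
  have h1 : ¬ Bad H 1 := hx.2.2 1 (by norm_num)
  have hx2 : IsPt H (x 2) := hx.1.1 2 (le_refl _)
  have hx1 : IsPt H (x 1) := hx.1.1 1 (by norm_num)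
  have hadj12 : Adj (x 1) (x 2) := hx.1.2 1 (by norm_num)
  have hadj21 : Adj (x 2) (x 1) := hB.adj_symm _ _ hx1 hx2 hadj12
  -- step 1
  obtain ⟨g, hgP, hgne⟩ := orbital_ne hB hPs hYs hadj hx2 (x 2 ⊓ x 1)
  have hxr := (hWA G H hB hZ x 2 hx).2.1
  have hbad_y : ¬ Zs (MulAut.conj g • Ys) ≤ Qs (x 1) :=
    hA _ 2 hxr (le_refl _) g hgP hgne
  have hyPt : IsPt H (MulAut.conj g • Ys) := isPt_conj hYs g
  have hadj_x2y : Adj (x 2) (MulAut.conj g • Ys) := by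
    have h := adj_conj g hadj
    rwa [hgP] at h
  have hadj_yx2 : Adj (MulAut.conj g • Ys) (x 2) := hB.adj_symm _ _ hx2 hyPt hadj_x2y
  have hmb1 := minBad3 h0 h1 hyPt hx2 hx1 hadj_yx2 hadj21 hbad_y
  -- step 2
  obtain ⟨g', hg'P, hg'ne⟩ := orbital_ne hB hPs hYs hadj hyPt (MulAut.conj g • Ys ⊓ x 2)
  have hbad_y' : ¬ Zs (MulAut.conj g' • Ys) ≤ Qs (x 2) :=
    hA _ 2 hmb1 (le_refl _) g' hg'P hg'ne
  have hy'Pt : IsPt H (MulAut.conj g' • Ys) := isPt_conj hYs g'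
  have hadj_yy' : Adj (MulAut.conj g • Ys) (MulAut.conj g' • Ys) := by
    have h := adj_conj g' hadj
    rwa [hg'P] at h
  have hadj_y'y : Adj (MulAut.conj g' • Ys) (MulAut.conj g • Ys) :=
    hB.adj_symm _ _ hyPt hy'Pt hadj_yy'
  have hmb2 := minBad3 h0 h1 hy'Pt hyPt hx2 hadj_y'y hadj_yx2 hbad_y'
  have hmb2r := (hWA G H hB hZ _ 2 hmb2).2.1
  have hbadK1 : ¬ Zs (x 2) ≤ Qs (MulAut.conj g' • Ys) := hmb2r.2.1
  -- step 3
  obtain ⟨g'', hg''P, hg''ne⟩ := orbital_ne hB hPs hYs hadj hx2 (x 2 ⊓ MulAut.conj g • Ys)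
  have hbad_y'' : ¬ Zs (MulAut.conj g'' • Ys) ≤ Qs (MulAut.conj g • Ys) :=
    hA _ 2 hmb2r (le_refl _) g'' hg''P hg''ne
  -- the base instance of K2
  have hgm : ∀ A : Subgroup G, MulAut.conj g • MulAut.conj (g⁻¹ * g'') • A = MulAut.conj g'' • A := by
    intro A
    rw [conj_mul_smul, mul_inv_cancel_left]
  have hm1 : MulAut.conj (g⁻¹ * g'') • Ps = Ps := by
    rw [← conj_mul_smul, hg''P, ← hgP, conj_inv_smul]
  have hmP : g⁻¹ * g'' ∈ Ps := hB.self_norm_pt Ps hPs _ hm1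
  have hm2 : Ps ⊓ MulAut.conj (g⁻¹ * g'') • Ys ≠ Ps ⊓ Ys := by
    intro h
    apply hg''ne
    have h2 := congrArg (fun K : Subgroup G => MulAut.conj g • K) h
    simp only [Subgroup.smul_inf, hgm, hgP] at h2
    exact h2
  have hm3 : ¬ Zs (MulAut.conj (g⁻¹ * g'') • Ys) ≤ Qs Ys := by
    intro h
    apply hbad_y''
    rw [← le_conj_iff g, hgm] at h
    exact h
  have hmPt : IsPt H (MulAut.conj (g⁻¹ * g'') • Ys) := isPt_conj hYs _
  have hadjPm : Adj Ps (MulAut.conj (g⁻¹ * g'') • Ys) := by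
    have h := adj_conj (g⁻¹ * g'') hadj
    rwa [hm1] at h
  have hadjmP : Adj (MulAut.conj (g⁻¹ * g'') • Ys) Ps := hB.adj_symm _ _ hPs hmPt hadjPm
  have hmb3 := minBad3 h0 h1 hmPt hPs hYs hadjmP hadj hm3
  have hK2base : ¬ Zs Ys ≤ Qs (MulAut.conj (g⁻¹ * g'') • Ys) :=
    (hWA G H hB hZ _ 2 hmb3).2.1.2.1
  -- the base instance of K1
  have hgt : ∀ A : Subgroup G, MulAut.conj g • MulAut.conj (g⁻¹ * g') • A = MulAut.conj g' • A := by
    intro A
    rw [conj_mul_smul, mul_inv_cancel_left]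
  have ht1 : MulAut.conj (g⁻¹ * g') • Ps = Ys := by
    rw [← conj_mul_smul, hg'P, conj_inv_smul]
  have ht2 : Ys ⊓ MulAut.conj (g⁻¹ * g') • Ys ≠ Ys ⊓ Ps := by
    intro h
    apply hg'ne
    have h2 := congrArg (fun K : Subgroup G => MulAut.conj g • K) h
    simp only [Subgroup.smul_inf, hgt, hgP] at h2
    exact h2
  have hK1base : ¬ Zs Ps ≤ Qs (MulAut.conj (g⁻¹ * g') • Ys) := by
    intro h
    apply hbadK1
    rw [← le_conj_iff g, hgt, hgP] at h
    exact h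
  have hLPY : IsLine Ps (Ps ⊓ Ys) := hB.adj_line Ps Ys hPs hYs hadj
  have hLYP : IsLine Ys (Ys ⊓ Ps) := hB.adj_line Ys Ps hYs hPs hadj'
  have h1P : MulAut.conj (1 : G) • Ps = Ps := conj_one_smul Ps
  have h1Y : MulAut.conj (1 : G) • Ys = Ys := conj_one_smul Ys
  constructor
  · -- K2
    intro p hp hne
    have hpP : MulAut.conj p • Ps = Ps := conj_self hp
    have hadjPp : Adj Ps (MulAut.conj p • Ys) := by
      have h := adj_conj p hadj
      rwa [hpP] at h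
    have hLp : IsLine Ps (Ps ⊓ MulAut.conj p • Ys) := hB.adj_line _ _ hPs (isPt_conj hYs p) hadjPp
    have hLm : IsLine Ps (Ps ⊓ MulAut.conj (g⁻¹ * g'') • Ys) := hB.adj_line _ _ hPs hmPt hadjPm
    have hneL : Ps ⊓ Ys ≠ Ps ⊓ MulAut.conj p • Ys := by
      intro h
      apply hne
      have h3 := orbital_inj hB hPs hYs hadj (g1 := 1) (g2 := p) (by rw [h1P, hpP])
        (by rw [h1P, h1Y, hpP]; exact h)
      rw [h1Y] at h3
      exact h3.symm
    obtain ⟨s, hs, hsA, hsB⟩ := hB.two_trans Ps _ _ _ _ hPs hLPY hLm hLPY hLp hm2.symm hneL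
    have hsPY : s ∈ Ps ⊓ Ys := hB.line_self_norm Ps _ hPs hLPY s hs hsA
    have heq : MulAut.conj (s * (g⁻¹ * g'')) • Ys = MulAut.conj p • Ys := by
      have e1 : ∀ A : Subgroup G, MulAut.conj (s * (g⁻¹ * g'')) • A =
          MulAut.conj s • MulAut.conj (g⁻¹ * g'') • A := fun A => (conj_mul_smul _ _ _).symm
      apply orbital_inj hB hPs hYs hadj
      · rw [e1, hm1, conj_self hs, hpP]
      · rw [e1 Ps, e1 Ys, hm1, hpP, conj_self hs, ← hsB, Subgroup.smul_inf, conj_self hs]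
    intro hle
    apply hK2base
    rw [← heq, ← conj_mul_smul] at hle
    have h3 : Zs Ys = Zs (MulAut.conj s • Ys) := by rw [conj_self hsPY.2]
    rw [h3, le_conj_iff] at hle
    exact hle
  · -- K1
    intro t h ht hh hne
    have hhtP : MulAut.conj (h * t) • Ps = Ys := by
      rw [← conj_mul_smul, ht, conj_self hh]
    have hadjYT : Adj Ys (MulAut.conj (h * t) • Ys) := by
      have h3 := adj_conj (h * t) hadj
      rwa [hhtP] at h3
    have hadjYT0 : Adj Ys (MulAut.conj (g⁻¹ * g') • Ys) := by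
      have h3 := adj_conj (g⁻¹ * g') hadj
      rwa [ht1] at h3
    have hLT : IsLine Ys (Ys ⊓ MulAut.conj (h * t) • Ys) :=
      hB.adj_line _ _ hYs (isPt_conj hYs _) hadjYT
    have hLT0 : IsLine Ys (Ys ⊓ MulAut.conj (g⁻¹ * g') • Ys) :=
      hB.adj_line _ _ hYs (isPt_conj hYs _) hadjYT0
    have hneL : Ys ⊓ Ps ≠ Ys ⊓ MulAut.conj (h * t) • Ys := by
      intro h3
      apply hne
      rw [← h3, inf_comm]
    obtain ⟨s, hs, hsA, hsB⟩ := hB.two_trans Ys _ _ _ _ hYs hLYP hLT0 hLYP hLT ht2.symm hneL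
    have hsYP : s ∈ Ys ⊓ Ps := hB.line_self_norm Ys _ hYs hLYP s hs hsA
    have heq : MulAut.conj (s * (g⁻¹ * g')) • Ys = MulAut.conj (h * t) • Ys := by
      have e1 : ∀ A : Subgroup G, MulAut.conj (s * (g⁻¹ * g')) • A =
          MulAut.conj s • MulAut.conj (g⁻¹ * g') • A := fun A => (conj_mul_smul _ _ _).symm
      apply orbital_inj hB hPs hYs hadj
      · rw [e1, ht1, conj_self hs, hhtP]
      · rw [e1 Ps, e1 Ys, ht1, hhtP, conj_self hs, ← hsB, Subgroup.smul_inf, conj_self hs]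
    intro hle
    apply hK1base
    rw [← heq, ← conj_mul_smul] at hle
    have h3 : Zs Ps = Zs (MulAut.conj s • Ps) := by rw [conj_self hsYP.2]
    rw [h3, le_conj_iff] at hle
    exact hle

end Cfsg.Agent.Lib.Helper14.SWWD
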