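import Mathlib
import Cfsg.Prelude.Def_SolvableStructure
import Cfsg.Agent.Lib.Helper4.SchDefs
import Cfsg.Agent.Lib.Helper9.MNN2

/-!
Piece A1 of S4394 (for helper4): the normal Sylow `p`-subgroup of a minimal non-nilpotent
group carries a "Schmidt automorphism" (`SchAut`).
-/

set_option autoImplicit false

namespace Cfsg.Agent.Lib.Helper14.SchA1

open Subgroup Cfsg.Agent.Lib.Helper4.SchDefs

/-- In a nilpotent subgroup `H`, a `p`-subgroup and a `q`-subgroup (`p ≠ q`) commute
elementwise. -/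
theorem commute_of_nilpotent {G : Type*} [Group G] [Finite G] (p q : ℕ)
    [hp : Fact p.Prime] [hq : Fact q.Prime] (hpq : p ≠ q) (H K Q : Subgroup G)
    (hH : Group.IsNilpotent H) (hK : IsPGroup p K) (hQ : IsPGroup q Q)
    (hKH : K ≤ H) (hQH : Q ≤ H) : ∀ x ∈ K, ∀ y ∈ Q, x * y = y * x := by
  have hK' : IsPGroup p (K.subgroupOf H) := hK.comap_subtype
  have hQ' : IsPGroup q (Q.subgroupOf H) := hQ.comap_subtype
  obtain ⟨P1, hP1⟩ := hK'.exists_le_sylow
  obtain ⟨P2, hP2⟩ := hQ'.exists_le_sylow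
  have hP1n : (P1 : Subgroup H).Normal := inferInstance
  have hP2n : (P2 : Subgroup H).Normal := inferInstance
  have hdis : Disjoint (P1 : Subgroup H) (P2 : Subgroup H) :=
    IsPGroup.disjoint_of_ne p q hpq _ _ P1.isPGroup' P2.isPGroup'
  intro x hx y hy
  have hc := Subgroup.commute_of_normal_of_disjoint _ _ hP1n hP2n hdis
    ⟨x, hKH hx⟩ ⟨y, hQH hy⟩ (hP1 (by simpa [mem_subgroupOf] using hx))
    (hP2 (by simpa [mem_subgroupOf] using hy))
  have := congrArg Subtype.val hc.eq
  simpa using this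

theorem schAut_of_minimal {X : Type*} [Group X] [Finite X] (p : ℕ) [Fact p.Prime]
    (hX : Cfsg.IsMinimalNonNilpotent X) (P : Sylow p X) (hPn : (P : Subgroup X).Normal)
    (hP1 : (P : Subgroup X) ≠ ⊥) : SchAut p ↥(P : Subgroup X) := by
  obtain ⟨p', q', hp', hq', hne, P', Q', hcyc, hQn, hsup, hncent⟩ :=
    Cfsg.Agent.Lib.Helper9.MNN2.structure_of_minimal hX.1 hX.2
  have hfp' : Fact p'.Prime := ⟨hp'⟩
  have hfq' : Fact q'.Prime := ⟨hq'⟩
  -- `p ≠ p'`
  have hpp' : p ≠ p' := by
    intro e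
    subst e
    have hPP' : P' = P := by
      have := Sylow.unique_of_normal P hPn
      exact Subsingleton.elim P' P
    apply hncent
    rw [hPP']
    have hdis : Disjoint (P : Subgroup X) (Q' : Subgroup X) :=
      IsPGroup.disjoint_of_ne p q' hne _ _ P.isPGroup' Q'.isPGroup'
    intro x hx
    rw [mem_centralizer_iff]
    intro y hy
    exact ((Subgroup.commute_of_normal_of_disjoint _ _ hPn hQn hdis x y hx hy).eq).symm
  -- `P ≤ Q'`
  have hPQ : (P : Subgroup X) ≤ Q' := by
    intro x hx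
    have hx' : x ∈ (P' : Subgroup X) ⊔ Q' := by rw [hsup]; trivial
    obtain ⟨a, ha, b, hb, rfl⟩ := Subgroup.mem_sup_of_normal_right.1 hx'
    have h1 : IsPGroup p ((P : Subgroup X).map (QuotientGroup.mk' (Q' : Subgroup X))) :=
      P.isPGroup'.map _
    have h2 : IsPGroup p' ((P' : Subgroup X).map (QuotientGroup.mk' (Q' : Subgroup X))) :=
      P'.isPGroup'.map _
    have hdis := IsPGroup.disjoint_of_ne p p' hpp' _ _ h1 h2
    have hm1 : QuotientGroup.mk' (Q' : Subgroup X) (a * b) ∈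
        (P : Subgroup X).map (QuotientGroup.mk' (Q' : Subgroup X)) :=
      Subgroup.mem_map_of_mem _ hx
    have hm2 : QuotientGroup.mk' (Q' : Subgroup X) (a * b) ∈
        (P' : Subgroup X).map (QuotientGroup.mk' (Q' : Subgroup X)) := by
      have hb1 : QuotientGroup.mk' (Q' : Subgroup X) b = 1 := (QuotientGroup.eq_one_iff b).2 hb
      rw [map_mul, hb1, mul_one]
      exact Subgroup.mem_map_of_mem _ ha
    have h3 := hdis.le_bot (mem_inf.2 ⟨hm1, hm2⟩)
    rw [Subgroup.mem_bot] at h3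
    exact (QuotientGroup.eq_one_iff (a * b)).1 h3
  have hpq : p = q' := by
    by_contra hpq
    have hdis := IsPGroup.disjoint_of_ne p q' hpq _ _ P.isPGroup' (Q'.isPGroup'.to_le hPQ)
    exact hP1 (disjoint_self.1 hdis)
  subst hpq
  have hQP : (Q' : Subgroup X) = P := P.is_maximal' Q'.isPGroup' hPQ
  rw [hQP] at hsup hncent
  have hdisj : Disjoint (P : Subgroup X) (P' : Subgroup X) :=
    IsPGroup.disjoint_of_ne p p' hpp' _ _ P.isPGroup' P'.isPGroup'
  -- the generator
  obtain ⟨g, hg⟩ := hcyc.exists_generator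
  obtain ⟨c, hc⟩ : ∃ c : X, c = (g : X) := ⟨_, rfl⟩
  have hcP' : c ∈ (P' : Subgroup X) := hc ▸ g.2
  have hP'c : (P' : Subgroup X) = zpowers c := by
    apply le_antisymm
    · intro y hy
      obtain ⟨k, hk⟩ := Subgroup.mem_zpowers_iff.1 (hg ⟨y, hy⟩)
      refine Subgroup.mem_zpowers_iff.2 ⟨k, ?_⟩
      have := congrArg Subtype.val hk
      rw [hc]
      simpa using this
    · exact zpowers_le.2 hcP'
  have hmemP : ∀ x ∈ (P : Subgroup X), ∀ y ∈ (P' : Subgroup X), x * y ∈ (P : Subgroup X) →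
      y = 1 := by
    intro x hx y hy h
    have : y ∈ (P : Subgroup X) := by
      have e : y = x⁻¹ * (x * y) := by group
      rw [e]; exact mul_mem (inv_mem hx) h
    have h3 := hdisj.le_bot (mem_inf.2 ⟨this, hy⟩)
    simpa using h3
  -- `c` does not centralize `P`
  have hcnc : ¬ (∀ y ∈ (P : Subgroup X), c * y * c⁻¹ = y) := by
    intro h
    apply hncent
    rw [hP'c]
    apply zpowers_le.2
    rw [mem_centralizer_iff]
    intro y hy
    have := h y hy
    calc y * c = (c * y * c⁻¹) * c := by rw [this]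
      _ = c * y := by group
  have hc1 : c ≠ 1 := by
    rintro rfl
    exact hcnc (fun y _ => by simp)
  -- `p' ∣ orderOf c`
  have hdvd : p' ∣ orderOf c := by
    obtain ⟨k, hk⟩ := (IsPGroup.iff_orderOf.1 P'.isPGroup') ⟨c, hcP'⟩
    have hk' : orderOf c = p' ^ k := by
      rw [← hk]; exact (Subgroup.orderOf_mk c hcP').symm
    rw [hk']
    have hk0 : k ≠ 0 := by
      rintro rfl
      rw [pow_zero, orderOf_eq_one_iff] at hk'
      exact hc1 hk'
    exact dvd_pow_self p' hk0
  -- `c ^ p'` centralizes `P`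
  have hcp : ∀ y ∈ (P : Subgroup X), (c ^ p') * y = y * (c ^ p') := by
    have hHne : (P : Subgroup X) ⊔ zpowers (c ^ p') ≠ ⊤ := by
      intro htop
      have hcm : c ∈ (P : Subgroup X) ⊔ zpowers (c ^ p') := by rw [htop]; trivial
      obtain ⟨x, hx, z, hz, hxz⟩ := Subgroup.mem_sup_of_normal_left.1 hcm
      obtain ⟨j, hj⟩ := Subgroup.mem_zpowers_iff.1 hz
      have hzP' : z ∈ (P' : Subgroup X) := by
        rw [← hj]; exact zpow_mem (pow_mem hcP' _) _
      have hx1 : x = 1 := by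
        have hxP' : x ∈ (P' : Subgroup X) := by
          have e : x = c * z⁻¹ := by rw [← hxz]; group
          rw [e]; exact mul_mem hcP' (inv_mem hzP')
        have h3 := hdisj.le_bot (mem_inf.2 ⟨hx, hxP'⟩)
        simpa using h3
      rw [hx1, one_mul] at hxz
      -- `c = (c ^ p') ^ j`
      have e1 : c ^ ((p' : ℤ) * j - 1) = 1 := by
        rw [zpow_sub, zpow_mul, zpow_natCast, hj, hxz, zpow_one, mul_inv_cancel]
      have e2 := (orderOf_dvd_iff_zpow_eq_one).2 e1
      have e3 : (p' : ℤ) ∣ (p' : ℤ) * j - 1 := dvd_trans (Int.natCast_dvd_natCast.2 hdvd) e2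
      have e4 : (p' : ℤ) ∣ 1 := by
        have := dvd_sub (dvd_mul_right (p' : ℤ) j) e3
        simpa using this
      have e5 : p' ∣ 1 := by exact_mod_cast e4
      exact hp'.one_lt.ne' (Nat.dvd_one.1 e5)
    have hnil := hX.2 _ hHne
    intro y hy
    exact commute_of_nilpotent p' p (Ne.symm hpp') _ (zpowers (c ^ p')) (P : Subgroup X) hnil
      (P'.isPGroup'.to_le (zpowers_le.2 (pow_mem hcP' _))) P.isPGroup' le_sup_right le_sup_left
      _ (mem_zpowers _) y hy
  -- the automorphism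
  have hσ : ∀ (n : ℕ) (y : (P : Subgroup X)),
      (((MulAut.conjNormal c : MulAut (P : Subgroup X)) ^ n) y : X) = c ^ n * y * (c ^ n)⁻¹ := by
    intro n y
    rw [← map_pow, MulAut.conjNormal_apply]
  refine ⟨MulAut.conjNormal c, p', hp', Ne.symm hpp', ?_, ?_, ?_⟩
  · ext y
    rw [hσ p' y, hcp y y.2]
    simp
  · intro h
    apply hcnc
    intro y hy
    have := congrArg (fun τ : MulAut (P : Subgroup X) => ((τ ⟨y, hy⟩ : (P : Subgroup X)) : X)) h
    simpa [MulAut.conjNormal_apply] using this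
  · intro R hR hinv r hr
    -- `R₀`
    obtain ⟨R₀, hR₀⟩ : ∃ R₀ : Subgroup X, R₀ = R.map (P : Subgroup X).subtype := ⟨_, rfl⟩
    have hR₀P : R₀ ≤ (P : Subgroup X) := by
      rw [hR₀]; exact Subgroup.map_subtype_le R
    have hmem : ∀ y : X, y ∈ R₀ ↔ ∃ hy : y ∈ (P : Subgroup X), (⟨y, hy⟩ : (P : Subgroup X)) ∈ R := by
      intro y
      rw [hR₀]
      constructor
      · rintro ⟨z, hz, rfl⟩
        exact ⟨z.2, hz⟩
      · rintro ⟨hy, h⟩
        exact ⟨⟨y, hy⟩, h, rfl⟩
    have hpow : ∀ (n : ℕ), ∀ y ∈ R₀, c ^ n * y * (c ^ n)⁻¹ ∈ R₀ := by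
      intro n
      induction n with
      | zero => intro y hy; simpa using hy
      | succ n ih =>
        intro y hy
        have h1 := ih y hy
        obtain ⟨h1P, h1R⟩ := (hmem _).1 h1
        have h2 := hinv _ h1R
        have h3 : ((MulAut.conjNormal c : MulAut (P : Subgroup X))
            ⟨c ^ n * y * (c ^ n)⁻¹, h1P⟩ : X) = c ^ (n + 1) * y * (c ^ (n + 1))⁻¹ := by
          rw [MulAut.conjNormal_apply]
          simp only [pow_succ']
          group
        rw [← h3]
        exact (hmem _).2 ⟨_, h2⟩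
    have hcinv : ∀ y ∈ R₀, c⁻¹ * y * c ∈ R₀ := by
      intro y hy
      have h1 := hpow (p' - 1) y hy
      have hyP := hR₀P hy
      have h2 := hcp (c⁻¹ * y * c) (hPn.conj_mem' y hyP c |> fun h => by simpa [mul_assoc] using h)
      have e : c ^ (p' - 1) * y * (c ^ (p' - 1))⁻¹ = c⁻¹ * y * c := by
        have e0 : c ^ (p' - 1) = c ^ p' * c⁻¹ := by
          have : c ^ p' = c ^ (p' - 1) * c := by
            rw [← pow_succ, Nat.sub_add_cancel hp'.pos]
          rw [this]; group
        rw [e0]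
        calc c ^ p' * c⁻¹ * y * (c ^ p' * c⁻¹)⁻¹ = c ^ p' * (c⁻¹ * y * c) * (c ^ p')⁻¹ := by group
          _ = (c⁻¹ * y * c) * c ^ p' * (c ^ p')⁻¹ := by rw [h2]
          _ = c⁻¹ * y * c := by group
      rw [← e]; exact h1
    have hcN : c ∈ normalizer (R₀ : Set X) := by
      rw [mem_normalizer_iff]
      intro y
      constructor
      · intro hy
        have := hpow 1 y hy
        simpa using this
      · intro hy
        have := hcinv _ hy
        have e : c⁻¹ * (c * y * c⁻¹) * c = y := by group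
        rwa [e] at this
    have hHne : R₀ ⊔ zpowers c ≠ ⊤ := by
      intro htop
      have hNtop : normalizer (R₀ : Set X) = ⊤ := by
        rw [eq_top_iff, ← htop]
        exact sup_le le_normalizer (zpowers_le.2 hcN)
      have hR₀n : R₀.Normal := normalizer_eq_top_iff.1 hNtop
      apply hR
      rw [eq_top_iff]
      intro y _
      have hym : (y : X) ∈ R₀ ⊔ zpowers c := by rw [htop]; trivial
      obtain ⟨x, hx, z, hz, hxz⟩ := Subgroup.mem_sup_of_normal_left.1 hym
      have hzP' : z ∈ (P' : Subgroup X) := by rw [hP'c]; exact hz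
      have hz1 : z = 1 := hmemP x (hR₀P hx) z hzP' (hxz ▸ y.2)
      rw [hz1, mul_one] at hxz
      obtain ⟨_, h⟩ := (hmem _).1 (hxz ▸ hx)
      exact h
    have hnil := hX.2 _ hHne
    have hrR₀ : (r : X) ∈ R₀ := (hmem _).2 ⟨r.2, hr⟩
    have hcomm := commute_of_nilpotent p' p (Ne.symm hpp') _ (zpowers c) R₀ hnil
      (P'.isPGroup'.to_le (zpowers_le.2 hcP')) (P.isPGroup'.to_le hR₀P) le_sup_right le_sup_left
      c (mem_zpowers _) r hrR₀
    apply Subtype.ext
    rw [MulAut.conjNormal_apply, hcomm]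
    group

end Cfsg.Agent.Lib.Helper14.SchA1
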