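import Mathlib
import Cfsg.Prelude.Def_Characters
import Cfsg.Prelude.Def_Blocks

/-!
# S4460: three character degrees ⇒ derived length ≤ 3 — piece statements

`G` finite with exactly three irreducible character degrees. Then `G''' = 1`.
(No solvability hypothesis: PART I proves solvability, PART II is Isaacs 12.15.)

Vocabulary: `Deg3 G m n` (every irreducible character has degree `1`, `m` or `n`),
`Deg2 G k`, `HasDeg G d`, `NonlinDvd G p` (every nonlinear irreducible degree is divisible by `p`),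
`UComm G` (every nontrivial normal subgroup contains `G'`), `NoPQuot G` (no nonabelian quotient of
prime power order), `FSec K N p` (Frobenius-type section = conclusion of
`Helper3.TDUniq.exists_section`), `SplitLP N L P p` (`N = L ⋊ P`, `L` normal `p'`, `P` a `p`-group),
`Mono G` (monomial, in the shape of the conclusion of S0859).

Each `def X : Prop` below is one piece; its docstring is the proof sketch.
-/

set_option autoImplicit false

namespace Cfsg.Agent.Lib.Helper14.TC3Stmt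

open Cfsg
open scoped ComplexConjugate

universe u

/-- every irreducible character has degree `1`, `m` or `n`. -/
def Deg3 (G : Type u) [Group G] (m n : ℕ) : Prop :=
  ∀ χ : IrrCharacter G, charDegree (χ : G → ℂ) = 1 ∨ charDegree (χ : G → ℂ) = m ∨
    charDegree (χ : G → ℂ) = n

/-- every irreducible character has degree `1` or `k`. -/
def Deg2 (G : Type u) [Group G] (k : ℕ) : Prop :=
  ∀ χ : IrrCharacter G, charDegree (χ : G → ℂ) = 1 ∨ charDegree (χ : G → ℂ) = k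

/-- some irreducible character has degree `d`. -/
def HasDeg (G : Type u) [Group G] (d : ℕ) : Prop :=
  ∃ χ : IrrCharacter G, charDegree (χ : G → ℂ) = d

/-- every nonlinear irreducible character has degree divisible by `p`. -/
def NonlinDvd (G : Type u) [Group G] (p : ℕ) : Prop :=
  ∀ χ : IrrCharacter G, charDegree (χ : G → ℂ) ≠ 1 → p ∣ charDegree (χ : G → ℂ)

/-- every nontrivial normal subgroup contains the commutator subgroup. -/
def UComm (G : Type u) [Group G] : Prop :=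
  ∀ L : Subgroup G, L.Normal → L ≠ ⊥ → commutator G ≤ L

/-- every quotient of prime power order is abelian. -/
def NoPQuot (G : Type u) [Group G] : Prop :=
  ∀ (K : Subgroup G) (p : ℕ), K.Normal → p.Prime → (∃ j, K.index = p ^ j) → commutator G ≤ K

/-- Frobenius-type section: `K ≤ N` normal in `G`, `G' ≤ N < G`, `N/K` an abelian `p`-group of order
`> [G:N]`, `p ∤ [G:N]`, and every `g ∉ N` acts fixed-point-freely on `N/K`
(`n ↦ [g, n]` is onto `N/K`). -/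
def FSec {G : Type u} [Group G] (K N : Subgroup G) (p : ℕ) : Prop :=
  K.Normal ∧ p.Prime ∧ N.Normal ∧ K ≤ N ∧ commutator G ≤ N ∧ N ≠ ⊤ ∧ ¬ p ∣ N.index ∧
    (∃ j, K.relIndex N = p ^ j) ∧ N.index < K.relIndex N ∧
    (∀ a ∈ N, ∀ b ∈ N, (b * a)⁻¹ * (a * b) ∈ K) ∧
    ∀ g : G, g ∉ N → ∀ n ∈ N, ∃ x ∈ N, ∃ k ∈ K, n = g * x * g⁻¹ * x⁻¹ * k

/-- `N = L ⋊ P` with `L` normal in `G`, of order prime to `p`, and `P` a `p`-group. -/
def SplitLP {G : Type u} [Group G] (N L P : Subgroup G) (p : ℕ) : Prop :=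
  L.Normal ∧ L ≤ N ∧ P ≤ N ∧ (Nat.card L).Coprime p ∧ IsPGroup p P ∧ L ⊔ P = N ∧ L ⊓ P = ⊥ ∧
    ∃ k, L.relIndex N = p ^ k

/-- every irreducible character is induced from a linear character (shape of S0859). -/
def Mono (G : Type u) [Group G] [Fintype G] : Prop :=
  ∀ χ : G → ℂ, IsIrrCharacter G χ →
    ∃ (U : Subgroup G) (lam : U → ℂ), IsCharacter U lam ∧ lam 1 = 1 ∧ indFun U lam = χ

/-! ## General pieces -/

/-- [CD3] the set of degrees has exactly 3 elements and contains `1` (trivial character); let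
`m`, `n` be the other two. -/
def CD3 : Prop := ∀ (G : Type u) [Group G] [Finite G],
  Nat.card {n : ℕ // ∃ χ : IrrCharacter G, charDegree (χ : G → ℂ) = n} = 3 → ∃ m n, Deg3 G m n

/-- [DEGEN] if `m`, `n` are not two distinct degrees `> 1` that both occur, there are at most two
degrees. (Degrees are `≥ 1`.) -/
def Degen : Prop := ∀ (G : Type u) [Group G] [Finite G] (m n : ℕ), Deg3 G m n →
  ¬ (HasDeg G m ∧ HasDeg G n ∧ 1 < m ∧ 1 < n ∧ m ≠ n) → ∃ k, Deg2 G k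

/-- [PCOMPL] Thompson (landed `Cfsg.Agent.S4456.result`): if `p ∣ m` and `p ∣ n`, all nonlinear
degrees are divisible by `p`, so there is a normal `p`-complement `H`. For `θ ∈ Irr(H)` take `χ`
over `θ` (`Helper3.TDBasic.exists_over`): `θ(1) ∣ χ(1)`, `χ(1)/θ(1) ∣ [G:H] = p^k`, and
`θ(1) ∣ |H|` is prime to `p` (`Helper80.Integrality.charDegree_dvd_card`), so
`θ(1) = ordCompl[p] (χ(1))`. -/
def PCompl : Prop := ∀ (G : Type u) [Group G] [Finite G] (m n p : ℕ), p.Prime → Deg3 G m n →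
  p ∣ m → p ∣ n → ∃ H : Subgroup G, H.Normal ∧ (Nat.card H).Coprime p ∧ (∃ k, H.index = p ^ k) ∧
    Deg3 ↥H (ordCompl[p] m) (ordCompl[p] n)

/-- [TWO] two degrees ⇒ `G'` abelian: landed `Cfsg.Agent.S4458.result` (needs a character of
degree `k` and `k ≠ 1`; otherwise all characters are linear and `G` is abelian by
`Helper3.TDBasic.comm_of_forall_degree_one`). -/
def Two : Prop := ∀ (G : Type u) [Group G] [Finite G] (k : ℕ), Deg2 G k →
  ⁅commutator G, commutator G⁆ = ⊥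

/-- [QTWO] from `Two` applied to `G ⧸ M`: `(G/M)'' = 1`, i.e. `G'' ≤ M`. -/
def QTwo : Prop := ∀ (G : Type u) [Group G] [Finite G] (M : Subgroup G) [M.Normal] (k : ℕ),
  Deg2 (G ⧸ M) k → ⁅commutator G, commutator G⁆ ≤ M

/-- [TWOSUB] from `Two` applied to `↥N`: `⁅N, N⁆ = (commutator ↥N).map N.subtype`. -/
def TwoSub : Prop := ∀ (G : Type u) [Group G] [Finite G] (N : Subgroup G) (k : ℕ), Deg2 ↥N k →
  ⁅⁅N, N⁆, ⁅N, N⁆⁆ = ⊥

/-- [SECT] `Helper3.TDUniq.exists_section` applied to `G ⧸ M` and pulled back along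
`QuotientGroup.mk' M` (`K := K̄.comap`, `N := N̄.comap`; index and relIndex are preserved by comap
along a surjection; `commutator (G ⧸ M) = (commutator G).map`). -/
def Sect : Prop := ∀ (G : Type u) [Group G] [Finite G] (M : Subgroup G) [M.Normal],
  Group.IsSolvable (G ⧸ M) → ¬ commutator G ≤ M →
  ∃ (K : Subgroup G) (p : ℕ), K.Normal ∧ p.Prime ∧ ¬ commutator G ≤ K ∧
    ((∃ j, K.index = p ^ j) ∨ ∃ N : Subgroup G, FSec K N p)

/-- [GALP] `G/K` a nonabelian `p`-group. (i) `G/K` has an irreducible character of degree `p^c`,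
`c > 0` (degrees divide `|G/K|`, not all are `1` as `G/K` is nonabelian); inflate it to `β`.
(ii) if `p ∤ ψ(1)` then `ψ_K` is irreducible (a constituent `θ` has `ψ(1)/θ(1) ∣ [G:K] = p^j` by
S0887 = `Helper3.TDBasic.deg_of_constituent`, so `θ(1) = ψ(1)` and `ψ_K = θ`), and `β ψ` is
irreducible by Gallagher (`Helper78.Gallagher.gallagher_core`). -/
def GalP : Prop := ∀ (G : Type u) [Group G] [Finite G] (K : Subgroup G) (p : ℕ), K.Normal →
  p.Prime → (∃ j, K.index = p ^ j) → ¬ commutator G ≤ K →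
  ∃ c, 0 < c ∧ HasDeg G (p ^ c) ∧ ∀ ψ : IrrCharacter G, ¬ p ∣ charDegree (ψ : G → ℂ) →
    HasDeg G (p ^ c * charDegree (ψ : G → ℂ))

/-- [W1] `N/K` is a `p`-group, so if `p ∤ ψ(1)` then `ψ_K` is irreducible (a constituent `θ` of
`ψ_K` has `ψ(1)/θ(1) ∣ [N:K] = p^j`, hence `θ(1) = ψ(1)` and `ψ_K = θ`). -/
def W1 : Prop := ∀ (G : Type u) [Group G] [Finite G] (K N : Subgroup G) (p : ℕ), FSec K N p →
  ∀ ψ : IrrCharacter ↥N, ¬ p ∣ charDegree (ψ : ↥N → ℂ) →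
    IsIrrCharacter ↥(K.subgroupOf N) (fun k : ↥(K.subgroupOf N) => (ψ : ↥N → ℂ) (k : ↥N))

/-- [W2] Isaacs 12.4 (compare the landed `Helper3.TDFrob.frobenius_section`, same argument).
`ψ_K` irreducible. For `β` a linear character of `N` trivial on `K` (there are `[N:K]` of them, `N/K`
abelian), `β ψ ∈ Irr(N)`, and `β ↦ β ψ` is injective (Gallagher; or: if `β ψ = ψ`, `β ≠ 1`, then `ψ` vanishes
off `B = ker β ⊇ K`, a proper subgroup, so `[ψ_B, ψ_B] = [N:B] > 1`, but `ψ_K` is irreducible). For `g ∉ N` at most one `β ψ` is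
`g`-invariant: if `β₁ ψ`, `β₂ ψ` are, then `γ = β₁/β₂` is `g`-invariant (injectivity), so `γ` is
trivial on all `g x g⁻¹ x⁻¹` and on `K`, hence `γ = 1` by the last clause of `FSec`. Invariance
depends only on the coset `gN`; there are `[G:N] - 1 < [N:K]` nontrivial cosets, so some `β ψ` has
inertia group `N` and induces irreducibly (`Helper78.CliffordCorr.clifford_corr`): degree
`[G:N] ψ(1)`. -/
def W2 : Prop := ∀ (G : Type u) [Group G] [Finite G] (K N : Subgroup G) (p : ℕ), FSec K N p →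
  ∀ ψ : IrrCharacter ↥N,
    IsIrrCharacter ↥(K.subgroupOf N) (fun k : ↥(K.subgroupOf N) => (ψ : ↥N → ℂ) (k : ↥N)) →
    HasDeg G (N.index * charDegree (ψ : ↥N → ℂ))

/-- W1 + W2 (assembled in `TC3Asm`). -/
def W124 : Prop := ∀ (G : Type u) [Group G] [Finite G] (K N : Subgroup G) (p : ℕ), FSec K N p →
  ∀ ψ : IrrCharacter ↥N,
    HasDeg G (N.index * charDegree (ψ : ↥N → ℂ)) ∨ p ∣ charDegree (ψ : ↥N → ℂ)

/-! ## PART I: solvability -/

/-- [UMN] take a minimal normal subgroup `M` (exists: `G ≠ 1`). For `L` normal nontrivial, if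
`M ⊓ L = ⊥` then `G` embeds in `G/M × G/L`, solvable; so `M ⊓ L ≠ ⊥`, hence `= M`. -/
def Umn : Prop := ∀ (G : Type u) [Group G] [Finite G], ¬ Group.IsSolvable G →
  (∀ (K : Subgroup G) [K.Normal], K ≠ ⊥ → Group.IsSolvable (G ⧸ K)) →
  ∃ M : Subgroup G, M.Normal ∧ M ≠ ⊥ ∧ ∀ L : Subgroup G, L.Normal → L ≠ ⊥ → M ≤ L

/-- [H1] `χ₁ χ₂` is a character of degree `m²`. If it has a linear constituent `λ` then
`[χ₂, λ conj χ₁] ≠ 0`, both irreducible, so `χ₂ = λ conj χ₁`. Otherwise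
`m² = m A + n B` with `B ≥ 1` (from `ψ`), so `m ∣ n B`, `m ∣ B`, `n B ≥ n m > m²`: contradiction. -/
def H1 : Prop := ∀ (G : Type u) [Group G] [Fintype G] (m n : ℕ), Deg3 G m n → Nat.Coprime m n →
  m < n → ∀ χ₁ χ₂ ψ : IrrCharacter G, charDegree (χ₁ : G → ℂ) = m → charDegree (χ₂ : G → ℂ) = m →
    charDegree (ψ : G → ℂ) = n →
    classInner (fun g => (χ₁ : G → ℂ) g * (χ₂ : G → ℂ) g) (ψ : G → ℂ) ≠ 0 →
    ∃ lam : IrrCharacter G, charDegree (lam : G → ℂ) = 1 ∧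
      ∀ g, (χ₂ : G → ℂ) g = (lam : G → ℂ) g * conj ((χ₁ : G → ℂ) g)

/-- [H2] Suppose `[χ₁ χ₂, ψ] = 0` for all `χ₁ χ₂` of degree `m`, `ψ` of degree `n`.
`V := {φ : φ(1) ∈ {1, m}}`, `W := {ψ : ψ(1) = n}`. (1) `[φ₁ φ₂, ψ] = 0` for `φᵢ ∈ V`, `ψ ∈ W`
(linear·irreducible is irreducible). (2) for `φ ∈ V`, `ψ' ∈ W`: `conj φ · ψ' = Σ_{ψ ∈ W} c_ψ ψ` with
`Σ c_ψ = φ(1)`. (3) `Ψ := n Σ_{ψ ∈ W} ψ` satisfies `φ Ψ = φ(1) Ψ` for `φ ∈ V` (compare inner
products with all irreducibles). So `Ψ g ≠ 0` forces `φ g = φ 1` for all `φ ∈ V`: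
`g ∈ K₀ := ⋂_{φ ∈ V} ker φ`, a normal subgroup. By `UComm`: either `G' ≤ K₀`, and then a character
of degree `m` is trivial on `G'`, hence linear, contradiction with `1 < m`; or `K₀ = ⊥`, then `Ψ`
vanishes off `1`, `[Ψ, 1_G] = Ψ(1)/|G| ≠ 0`, but `1_G ∉ W`. -/
def H2 : Prop := ∀ (G : Type u) [Group G] [Fintype G] (m n : ℕ), Deg3 G m n → 1 < m → m < n →
  HasDeg G m → HasDeg G n → UComm G →
  ∃ χ₁ χ₂ ψ : IrrCharacter G, charDegree (χ₁ : G → ℂ) = m ∧ charDegree (χ₂ : G → ℂ) = m ∧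
    charDegree (ψ : G → ℂ) = n ∧
    classInner (fun g => (χ₁ : G → ℂ) g * (χ₂ : G → ℂ) g) (ψ : G → ℂ) ≠ 0

/-- [H3] (uses H1) `χ₂ = λ conj χ₁`; `χ := χ₁`, `ψ' := conj λ · ψ` (irreducible, degree `n`), and
`[χ conj χ, ψ'] ≠ 0`, so `χ` is a constituent of `Θ := χ ψ'` (degree `m n`). `Θ` has no linear
constituent (`conj χ · λ'` is irreducible of degree `m ≠ n`), so `m n = m A + n B`, `A ≥ 1`,
`n ∣ A`, hence `A = n`, `B = 0`. Each constituent `φ` of `Θ` has `[conj χ · φ, ψ'] ≠ 0`, so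
`φ = μ χ` with `μ` linear by H1. On `G'` linear characters are `1`
(`Helper3.TDTak.apply_eq_one_of_mem_commutator`): `χ g ψ' g = Θ g = n χ g`. -/
def H3 : Prop := ∀ (G : Type u) [Group G] [Fintype G] (m n : ℕ), Deg3 G m n → Nat.Coprime m n →
  1 < m → m < n → ∀ χ₁ χ₂ ψ : IrrCharacter G, charDegree (χ₁ : G → ℂ) = m →
    charDegree (χ₂ : G → ℂ) = m → charDegree (ψ : G → ℂ) = n →
    classInner (fun g => (χ₁ : G → ℂ) g * (χ₂ : G → ℂ) g) (ψ : G → ℂ) ≠ 0 →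
    ∃ χ ψ' : IrrCharacter G, charDegree (χ : G → ℂ) = m ∧ charDegree (ψ' : G → ℂ) = n ∧
      ∀ g ∈ commutator G, (χ : G → ℂ) g ≠ 0 → (ψ' : G → ℂ) g = n

/-- [H4] `L := G' ⊓ ker ψ'` is normal. If `L ≠ ⊥` then `G' ≤ ker ψ'` and `ψ'` is linear
(`Helper3.MGroup.apply_one_eq_one_of_comm`): contradiction with `1 < n`. If `L = ⊥` then `χ`
vanishes on `G' ∖ {1}`, so `Σ_{g ∈ G'} χ g = m ≠ 0`: the trivial character of `G'` is a constituent
of `χ` restricted to `G'`, so (Frobenius reciprocity / Clifford) `χ` is a constituent of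
`Ind_{G'}^G 1 = Σ` linear characters, `χ` is linear: contradiction with `1 < m`. -/
def H4 : Prop := ∀ (G : Type u) [Group G] [Fintype G] (m n : ℕ), 1 < m → 1 < n → UComm G →
  ∀ χ ψ' : IrrCharacter G, charDegree (χ : G → ℂ) = m → charDegree (ψ' : G → ℂ) = n →
    (∀ g ∈ commutator G, (χ : G → ℂ) g ≠ 0 → (ψ' : G → ℂ) g = n) → False

/-- H2 + H3 + H4 (assembled in `TC3Asm`). -/
def LemH : Prop := ∀ (G : Type u) [Group G] [Fintype G] (m n : ℕ), Deg3 G m n → Nat.Coprime m n →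
  1 < m → m < n → HasDeg G m → HasDeg G n → UComm G → False

/-- [CASEA] arithmetic: `p^c ∈ {m, n}`, say `= m`; then `p ∤ n` (coprime), so `m n` is a degree,
impossible as `m, n > 1`. -/
def CaseA : Prop := ∀ (G : Type u) [Group G] [Finite G] (m n p c : ℕ), Deg3 G m n →
  Nat.Coprime m n → 1 < m → 1 < n → HasDeg G m → HasDeg G n → p.Prime → 0 < c →
  HasDeg G (p ^ c) →
  (∀ ψ : IrrCharacter G, ¬ p ∣ charDegree (ψ : G → ℂ) → HasDeg G (p ^ c * charDegree (ψ : G → ℂ))) →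
  False

/-- [CASEB] `f := N.index > 1`. The trivial character of `N` gives `HasDeg G f`, so `f ∈ {m, n}`;
let `f'` be the other one. For `ψ ∈ Irr(N)`: if `f ψ(1)` is a degree then `ψ(1) = 1`
(`f ψ(1) = f'` is impossible, `gcd(f, f') = 1`); if `p ∣ ψ(1)`, take `χ` over `ψ`
(`Helper3.TDBasic.exists_over`): `p ∣ χ(1)`, so `χ(1) = f'`, and `f'/ψ(1)` divides both `f` and
`f'`, so `ψ(1) = f'`. Hence `Deg2 ↥N f'`. -/
def CaseB : Prop := ∀ (G : Type u) [Group G] [Finite G] (m n : ℕ) (N : Subgroup G) (p : ℕ),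
  Deg3 G m n → Nat.Coprime m n → 1 < m → 1 < n → N.Normal → N ≠ ⊤ → p.Prime → ¬ p ∣ N.index →
  (∀ ψ : IrrCharacter ↥N,
    HasDeg G (N.index * charDegree (ψ : ↥N → ℂ)) ∨ p ∣ charDegree (ψ : ↥N → ℂ)) →
  ∃ k, Deg2 ↥N k

/-- PART I (assembled in `TC3Asm`). -/
def Solv3 : Prop := ∀ (G : Type u) [Group G] [Finite G] (m n : ℕ), Deg3 G m n → Group.IsSolvable G

/-! ## PART II, case A: a nonabelian `p`-quotient -/

/-- [A4] inflate `χ` to `G` (trivial on `H' = ⁅H, H⁆`). A constituent `θ` of its restriction to `H`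
is trivial on `H'` (`Helper3.MGroup.constituent_apply_eq`), hence linear, and
`χ(1)/θ(1) ∣ [G:H] = p^k` (`Helper3.TDBasic.deg_of_constituent`). -/
def A4 : Prop := ∀ (G : Type u) [Group G] [Finite G] (H : Subgroup G) [H.Normal] (p : ℕ),
  p.Prime → (∃ k, H.index = p ^ k) →
  ∀ χ : IrrCharacter (G ⧸ ⁅H, H⁆), ∃ a, charDegree (χ : G ⧸ ⁅H, H⁆ → ℂ) = p ^ a

/-- [CHIEFP] (pure group theory; exactly the `hchief` hypothesis of the landed S0858 for `N := A`)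
`H/L` is a `p`-group (`A ≤ L ≤ H`, `[G:A] = p^k`), `K/L` a minimal normal subgroup of it: it meets
the centre of `H/L`, an element of order `p` there generates a normal subgroup, so `[K:L] = p`. -/
def ChiefP : Prop := ∀ (G : Type u) [Group G] [Finite G] (A : Subgroup G) (p : ℕ), A.Normal →
  p.Prime → (∃ k, A.index = p ^ k) →
  ∀ (H K L : Subgroup G), A ≤ L → L < K → K ≤ H → (∀ h ∈ H, ∀ k ∈ K, h * k * h⁻¹ ∈ K) →
    (∀ h ∈ H, ∀ l ∈ L, h * l * h⁻¹ ∈ L) →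
    (∀ M : Subgroup G, L ≤ M → M ≤ K → (∀ h ∈ H, ∀ m ∈ M, h * m * h⁻¹ ∈ M) → M = L ∨ M = K) →
    ¬ IsSquare (L.relIndex K)

/-- [MONOP] (uses CHIEFP) abelian normal `A` with `G/A` a `p`-group ⇒ `G` monomial: landed
`Cfsg.Agent.S0858.result` (with `N := A`, `hchief` from CHIEFP) then `Cfsg.Agent.S0859.result`
(`G` solvable; the Sylow subgroups of `A` are abelian). -/
def MonoP : Prop := ∀ (G : Type u) [Group G] [Fintype G] (A : Subgroup G) (p : ℕ), A.Normal →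
  p.Prime → (∃ k, A.index = p ^ k) → (∀ a ∈ A, ∀ b ∈ A, a * b = b * a) → Mono G

/-- [TAK3] Taketa for three degrees (compare the landed S0175 and
`Helper3.TDTak.mgroup_two_degrees`): for `χ = Ind_U^G lam`, `Ind_U^G 1` contains `1_G`, so its other
constituents have smaller degree; by induction on the degree, `G^{(i)} ≤ ker χ` where `i` is the
number of degrees `≤ χ(1)`. -/
def Tak3 : Prop := ∀ (G : Type u) [Group G] [Fintype G] (m n : ℕ), Deg3 G m n → Mono G →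
  derivedSeries G 3 = ⊥

/-- PART II case A (assembled in `TC3Asm`; also a piece). GALP: `p^c ∈ {m, n}`, say `m`; `p ∣ n`
(else `m n` is a degree). PCOMPL: `H` with `Deg2 ↥H h`, `h = ordCompl[p] n`; TWOSUB: `H'` abelian.
`h = 1`: `H` abelian, MONOP + TAK3. `h ≠ 1`: A4: degrees of `G/H'` are `p`-powers, so in `{1, m}`;
QTWO: `G'' ≤ H'`, so `G''' ≤ H'' = 1`. -/
def DlA : Prop := ∀ (G : Type u) [Group G] [Finite G] (m n : ℕ), Deg3 G m n → HasDeg G m →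
  HasDeg G n → 1 < m → 1 < n → m ≠ n →
  (∃ (K : Subgroup G) (p : ℕ), K.Normal ∧ p.Prime ∧ (∃ j, K.index = p ^ j) ∧ ¬ commutator G ≤ K) →
  derivedSeries G 3 = ⊥

/-! ## PART II, case B: Frobenius-type section, no nonabelian `p`-quotient -/

/-- [HN] restrict `χ` to `N`: `χ_N = Σ a_ψ ψ` (`Helper80.Restrict` / `CT.NormOne.exists_mult_sum`);
each constituent has `ψ(1) ∣ χ(1)` (`Helper3.TDBasic.deg_of_constituent`), so `p ∤ ψ(1)`, `ψ` is
linear, `ψ x = 1` for `x ∈ N'`; hence `χ x = χ 1`. -/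
def HN : Prop := ∀ (G : Type u) [Group G] [Finite G] (N : Subgroup G) (p : ℕ), N.Normal →
  NonlinDvd ↥N p → ∀ χ : IrrCharacter G, ¬ p ∣ charDegree (χ : G → ℂ) →
    ∀ x ∈ ⁅N, N⁆, (χ : G → ℂ) x = (χ : G → ℂ) 1

/-- [THN] Thompson (`Cfsg.Agent.S4456.result`) on `↥N` gives `L₁` normal in `↥N`, order prime to
`q`, index `q^k`. `L := L₁.map N.subtype` is the set of elements of `N` of order prime to `q`, so it
is normal in `G`. -/
def THN : Prop := ∀ (G : Type u) [Group G] [Finite G] (N : Subgroup G) (q : ℕ), N.Normal →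
  q.Prime → NonlinDvd ↥N q →
  ∃ L : Subgroup G, L.Normal ∧ L ≤ N ∧ (Nat.card L).Coprime q ∧ ∃ k, L.relIndex N = q ^ k

/-- [B2B] (uses THN) `L` from THN, `P` := a Sylow `p`-subgroup of `N`. -/
def B2B : Prop := ∀ (G : Type u) [Group G] [Finite G] (N : Subgroup G) (p : ℕ), N.Normal →
  p.Prime → NonlinDvd ↥N p → ∃ L P : Subgroup G, SplitLP N L P p

/-- [B2C] `E := ⁅L, P⁆ ≤ L` is normal in `N = L P`, and `E P` is a normal subgroup of `N`
(`l y l⁻¹ = ⁅l, y⁆ y`) of index `|L|/|E|`, prime to `p`. Irreducible characters of `N/EP` have degree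
dividing `|N/EP|`, so they are linear by `NonlinDvd`: `N/EP` is abelian
(`Helper3.TDBasic.comm_of_forall_degree_one`), `N' ≤ E P`, and `L' ≤ E P ⊓ L = E` (Dedekind,
`L ⊓ P = ⊥`). -/
def B2C : Prop := ∀ (G : Type u) [Group G] [Finite G] (N L P : Subgroup G) (p : ℕ), N.Normal →
  p.Prime → NonlinDvd ↥N p → SplitLP N L P p → ⁅L, L⁆ ≤ ⁅L, P⁆

/-- [B2D] (pure group theory) `E := ⁅L, P⁆` is normal in `L ⊔ P`; modulo `E` the subgroup `L` is
central in `L P` (`L' ≤ E`, `⁅L, P⁆ = E`), so `⁅l₁ y₁, l₂ y₂⁆ ∈ ⁅y₁, y₂⁆ E`. -/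
def B2D : Prop := ∀ (G : Type u) [Group G] (L P : Subgroup G), L.Normal → ⁅L, L⁆ ≤ ⁅L, P⁆ →
  ⁅L ⊔ P, L ⊔ P⁆ ≤ ⁅L, P⁆ ⊔ ⁅P, P⁆

/-- [ENORM] (pure group theory) `P` is a Sylow `p`-subgroup of `N`; for `g : G`, `g P g⁻¹ ≤ N` is
another one, `= x P x⁻¹` with `x ∈ N` (Sylow), so `g ⁅L, P⁆ g⁻¹ = ⁅L, x P x⁻¹⁆ = x ⁅L, P⁆ x⁻¹ = ⁅L, P⁆`
(`⁅L, P⁆` is normal in `L ⊔ P = N`). -/
def ENorm : Prop := ∀ (G : Type u) [Group G] [Finite G] (N L P : Subgroup G) (p : ℕ), N.Normal →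
  p.Prime → SplitLP N L P p → (⁅L, P⁆).Normal

/-- [EAB1] take `χ` over `η` (`Helper3.TDBasic.exists_over`): `η(1) ∣ χ(1)`. `χ(1) = 1` is
impossible; if `χ(1) = f ≠ f'` then `χ` is trivial on `E`, so `η` is the trivial character, `η(1) = 1`,
impossible. So `χ(1) = f'`. -/
def EAB1 : Prop := ∀ (G : Type u) [Group G] [Finite G] (f f' : ℕ) (E : Subgroup G) (r : ℕ),
  Deg3 G f f' → E.Normal →
  (∀ χ : IrrCharacter G, charDegree (χ : G → ℂ) = f → ∀ x ∈ E, (χ : G → ℂ) x = (χ : G → ℂ) 1) →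
  r.Prime → ∀ η : IrrCharacter ↥E, r ∣ charDegree (η : ↥E → ℂ) → r ∣ f'

/-- [EAB2A] `Ind_L^G θ` has degree `[G:L] θ(1)`, prime to `r`, so it has an irreducible constituent
`χ` with `r ∤ χ(1)` (`Helper80.IndDeg.exists_constituent_not_dvd`); `χ` is trivial on `E`, and `θ` is
a constituent of `χ` restricted to `L`, so `θ` is trivial on `E`
(`Helper3.MGroup.constituent_apply_eq`). -/
def EAB2a : Prop := ∀ (G : Type u) [Group G] [Finite G] (L E : Subgroup G) (r : ℕ), L.Normal →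
  E ≤ L → r.Prime → ¬ r ∣ L.index →
  (∀ χ : IrrCharacter G, ¬ r ∣ charDegree (χ : G → ℂ) →
    ∀ x ∈ E, (χ : G → ℂ) x = (χ : G → ℂ) 1) →
  ∀ θ : IrrCharacter ↥L, ¬ r ∣ charDegree (θ : ↥L → ℂ) →
    ∀ x : ↥L, (x : G) ∈ E → (θ : ↥L → ℂ) x = (θ : ↥L → ℂ) 1

/-- [EAB2C] (1) every linear character of `L` is trivial on `E`, so `E ≤ L'` (linear characters of
`L/L'` separate points). (2) a `θ` with `r ∤ θ(1)` is trivial on `E ⊇ L'`, hence linear
(`Helper3.MGroup.apply_one_eq_one_of_comm`). -/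
def EAB2c : Prop := ∀ (G : Type u) [Group G] [Finite G] (L E : Subgroup G) (r : ℕ), L.Normal →
  r.Prime → E ≤ L → ⁅L, L⁆ ≤ E →
  (∀ θ : IrrCharacter ↥L, ¬ r ∣ charDegree (θ : ↥L → ℂ) →
    ∀ x : ↥L, (x : G) ∈ E → (θ : ↥L → ℂ) x = (θ : ↥L → ℂ) 1) →
  E ≤ ⁅L, L⁆ ∧ NonlinDvd ↥L r

/-- [GRPR] (pure group theory) in `G ⧸ L₀`: `L̄` is an `r`-group normalized by the `p`-group `P̄`,
and `⁅L̄, P̄⁆ ≤ L̄' ≤ Φ(L̄)` (landed `Cfsg.Agent.S0012.result`), so `P̄` centralizes `L̄` (landed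
`Cfsg.Agent.S0029.result`): `⁅L, P⁆ ≤ L₀`. -/
def GrpR : Prop := ∀ (G : Type u) [Group G] [Finite G] (L P L₀ : Subgroup G) (p r : ℕ), p.Prime →
  r.Prime → p ≠ r → L.Normal → L₀.Normal → L₀ ≤ L → (∃ k, L₀.relIndex L = r ^ k) → IsPGroup p P →
  ⁅L, P⁆ ≤ ⁅L, L⁆ → ⁅L, P⁆ ≤ L₀

/-- [EAB3] Thompson (`Cfsg.Agent.S4456.result`) gives a normal `R₀` of `r`-power index and order
prime to `r`; `NoPQuot` gives `G' ≤ R₀`. -/
def EAB3 : Prop := ∀ (G : Type u) [Group G] [Finite G] (r : ℕ), r.Prime → NonlinDvd G r →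
  NoPQuot G → (Nat.card ↥(commutator G)).Coprime r

/-- the configuration of case (b2): degrees `1`, `f = [G:N]`, `f'`, with `p ∤ f`, `p ∣ f'`. -/
def B2Ctx (G : Type u) [Group G] (f f' : ℕ) (N L P : Subgroup G) (p : ℕ) : Prop :=
  Deg3 G f f' ∧ N.Normal ∧ p.Prime ∧ N.index = f ∧ ¬ p ∣ f ∧ p ∣ f' ∧ commutator G ≤ N ∧
    NoPQuot G ∧ NonlinDvd ↥N p ∧ SplitLP N L P p

/-- `E = ⁅L, P⁆` is abelian (assembled in `TC3Asm`; also a piece). `E ≤ L`, `E ≤ N'`, `E` normal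
(ENORM), `L' ≤ E` (B2C), characters of degree prime to `p` (i.e. `1` or `f`) are trivial on
`N' ⊇ E` (HN). Let `η ∈ Irr(E)`, `r` a prime dividing `η(1)` (so `r ∣ |E|`, `r ≠ p`). EAB1: `r ∣ f'`.
If `r ∣ f`: `NonlinDvd G r`, EAB3: `r ∤ |G'|`, but `E ≤ G'`. If `r ∤ f`: `r ∤ [G:L] = p^k f`; characters
of `G` of degree prime to `r` have degree `1` or `f`, trivial on `E`; EAB2A, EAB2C: `E ≤ L'` and
`NonlinDvd ↥L r`; THN on `L`: `L₀`; GRPR: `E ≤ L₀`, so `r ∤ |E|`. Hence all `η` are linear and `E` is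
abelian (`Helper3.TDBasic.comm_of_forall_degree_one`). -/
def EAb : Prop := ∀ (G : Type u) [Group G] [Finite G] (f f' : ℕ) (N L P : Subgroup G) (p : ℕ),
  B2Ctx G f f' N L P p → ⁅⁅L, P⁆, ⁅L, P⁆⁆ = ⊥

/-- [B2H] `E := ⁅L, P⁆` abelian, `E P` normal in `N` of index `|L|/|E|` prime to `p`. For
`η ∈ Irr(E P)`: over a linear `λ ∈ Irr(E)`, `η(1) ∣ [EP:E]` is a power of `p`; under a `ψ ∈ Irr(N)`,
`ψ(1)/η(1) ∣ [N:EP]` is prime to `p`. So `η(1) = ordProj[p] (ψ(1))`. -/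
def B2H : Prop := ∀ (G : Type u) [Group G] [Finite G] (N L P : Subgroup G) (p d : ℕ), N.Normal →
  p.Prime → SplitLP N L P p → ⁅⁅L, P⁆, ⁅L, P⁆⁆ = ⊥ →
  (∀ ψ : IrrCharacter ↥N, charDegree (ψ : ↥N → ℂ) = 1 ∨
    ordProj[p] (charDegree (ψ : ↥N → ℂ)) = d) →
  Deg2 ↥(⁅L, P⁆ ⊔ P) d

/-- PART II case B (assembled in `TC3Asm`; also a piece). `Helper3.TDUniq.exists_section` +
`NoPQuot`: `FSec K N p`. W124 with the trivial character: `f := [G:N] ∈ {m, n}`, `f'` the other.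
(b1) no `ψ ∈ Irr(N)` with `p ∣ ψ(1)`: `Deg2 ↥N (f'/f)`, TWOSUB, `G''' ≤ N'' = 1`.
(b2) otherwise `p ∣ f'`, `NonlinDvd ↥N p`, and every nonlinear `ψ` has
`ordProj[p] ψ(1) = ordProj[p] f'`. B2B: `L`, `P`. EAb: `E = ⁅L,P⁆` abelian. B2H + TWOSUB: `(EP)'`
abelian. B2C + B2D: `N' ≤ E ⊔ P'`; landed `Cfsg.Agent.S0027.result`: `E = ⁅E, P⁆ ≤ (EP)'`. So
`N' ≤ (EP)'` is abelian and `G''' ≤ N'' = 1`. -/
def DlB : Prop := ∀ (G : Type u) [Group G] [Finite G] (m n : ℕ), Deg3 G m n → HasDeg G m →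
  HasDeg G n → 1 < m → 1 < n → m ≠ n → Group.IsSolvable G → NoPQuot G → derivedSeries G 3 = ⊥

/-- PART II (assembled in `TC3Asm`). -/
def Dl3 : Prop := ∀ (G : Type u) [Group G] [Finite G] (m n : ℕ), Deg3 G m n → Group.IsSolvable G →
  derivedSeries G 3 = ⊥

/-- the statement S4460. -/
def Final : Prop := ∀ (G : Type u) [Group G] [Finite G],
  Nat.card {n : ℕ // ∃ χ : IrrCharacter G, charDegree (χ : G → ℂ) = n} = 3 →
  derivedSeries G 3 = ⊥

end Cfsg.Agent.Lib.Helper14.TC3Stmt
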