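import Mathlib
import Cfsg.Agent.Lib.Helper14.TC3Stmt
import Cfsg.Agent.Lib.Helper3.TDBasic

/-!
# S4460: glue for the pieces of `TC3Stmt`
-/

set_option autoImplicit false

namespace Cfsg.Agent.Lib.Helper14.TC3Asm

open Cfsg Cfsg.Agent.Lib.Helper14.TC3Stmt
open scoped commutatorElement

universe u

theorem w124 (h1 : W1.{u}) (h2 : W2.{u}) : W124.{u} := by
  intro G _ _ K N p hF ψ
  by_cases hp : p ∣ charDegree (ψ : ↥N → ℂ)
  · exact Or.inr hp
  · exact Or.inl (h2 G K N p hF ψ (h1 G K N p hF ψ hp))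

theorem lemH (h2 : H2.{u}) (h3 : H3.{u}) (h4 : H4.{u}) : LemH.{u} := by
  intro G _ _ m n hd hcop hm hmn hHm hHn hU
  obtain ⟨χ₁, χ₂, ψ, e1, e2, e3, hne⟩ := h2 G m n hd hm hmn hHm hHn hU
  obtain ⟨χ, ψ', e4, e5, hval⟩ := h3 G m n hd hcop hm hmn χ₁ χ₂ ψ e1 e2 e3 hne
  exact h4 G m n hm (lt_trans hm hmn) hU χ ψ' e4 e5 hval

theorem deg3_symm {G : Type u} [Group G] {m n : ℕ} (h : Deg3 G m n) : Deg3 G n m := fun χ => by
  rcases h χ with h | h | h
  · exact Or.inl h
  · exact Or.inr (Or.inr h)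
  · exact Or.inr (Or.inl h)

theorem deg3_quot {G : Type u} [Group G] (K : Subgroup G) [K.Normal] {m n : ℕ}
    (h : Deg3 G m n) : Deg3 (G ⧸ K) m n := fun ψ => by
  have := h (Cfsg.Agent.Lib.Helper3.TDBasic.infl K ψ)
  rwa [Cfsg.Agent.Lib.Helper3.TDBasic.charDegree_infl] at this

theorem solvable_of_normal {G : Type u} [Group G] (N : Subgroup G) [N.Normal]
    (h1 : Group.IsSolvable N) (h2 : Group.IsSolvable (G ⧸ N)) : Group.IsSolvable G :=
  Group.isSolvable_of_ker_le_range N.subtype (QuotientGroup.mk' N) (by simp)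

theorem quot_comm {G : Type u} [Group G] (N : Subgroup G) [N.Normal] (h : commutator G ≤ N)
    (a b : G ⧸ N) : a * b = b * a := by
  induction a using QuotientGroup.induction_on with
  | _ a =>
  induction b using QuotientGroup.induction_on with
  | _ b =>
  rw [← QuotientGroup.mk_mul, ← QuotientGroup.mk_mul]
  apply QuotientGroup.eq.2
  apply h
  have e : (a * b)⁻¹ * (b * a) = ⁅b⁻¹, a⁻¹⁆ := by
    simp [commutatorElement_def, mul_assoc]
  rw [e, commutator_def]
  exact Subgroup.commutator_mem_commutator (Subgroup.mem_top _) (Subgroup.mem_top _)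

theorem solv_aux (hDegen : Degen.{u}) (hPCompl : PCompl.{u}) (hUmn : Umn.{u}) (hLemH : LemH.{u})
    (hSect : Sect.{u}) (hGalP : GalP.{u}) (hCaseA : CaseA.{u}) (hW : W124.{u})
    (hCaseB : CaseB.{u}) :
    ∀ (c : ℕ) (G : Type u) [Group G] [Finite G] (m n : ℕ), Nat.card G = c → Deg3 G m n →
      Group.IsSolvable G := by
  intro c
  induction c using Nat.strong_induction_on with
  | _ c ih =>
  intro G _ _ m n hc hd
  by_contra hns
  by_cases hnd : HasDeg G m ∧ HasDeg G n ∧ 1 < m ∧ 1 < n ∧ m ≠ n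
  swap
  · obtain ⟨k, hk⟩ := hDegen G m n hd hnd
    exact hns (Cfsg.Agent.Lib.Helper3.TDBasic.solvable_of_two_degrees k hk)
  obtain ⟨hHm, hHn, hm1, hn1, hmn⟩ := hnd
  have hcop : Nat.Coprime m n := by
    by_contra hnc
    obtain ⟨p, hp, hpm, hpn⟩ := Nat.Prime.not_coprime_iff_dvd.1 hnc
    obtain ⟨H, hHn', hHcop, ⟨k, hk⟩, hHd⟩ := hPCompl G m n p hp hd hpm hpn
    have := hHn'
    have : Fact p.Prime := ⟨hp⟩
    have hmul : Nat.card H * H.index = Nat.card G := Subgroup.card_mul_index H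
    have hidx1 : H.index ≠ 1 := by
      intro h1
      rw [h1, mul_one] at hmul
      obtain ⟨χ, hχ⟩ := hHm
      have h2 : charDegree (χ : G → ℂ) ∣ Nat.card G :=
        Cfsg.Agent.Lib.Helper80.Integrality.charDegree_dvd_card χ
      rw [hχ, ← hmul] at h2
      have h3 : p ∣ Nat.card H := hpm.trans h2
      have h4 : p ∣ 1 := by
        have := Nat.dvd_gcd h3 (dvd_refl p)
        rwa [hHcop] at this
      exact hp.one_lt.ne' (Nat.dvd_one.1 h4)
    have hidx0 : H.index ≠ 0 := Subgroup.index_ne_zero_of_finite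
    have hcardH : 0 < Nat.card H := Nat.card_pos
    have hlt : Nat.card H < Nat.card G := by
      rw [← hmul]
      have : 2 ≤ H.index := by omega
      nlinarith
    have hHs : Group.IsSolvable H := ih (Nat.card H) (hc ▸ hlt) H _ _ rfl hHd
    have hQs : Group.IsSolvable (G ⧸ H) := by
      have h1 : IsPGroup p (G ⧸ H) := IsPGroup.of_card (n := k) (by
        rw [← Subgroup.index_eq_card]; exact hk)
      have h2 := h1.isNilpotent
      infer_instance
    exact hns (solvable_of_normal H hHs hQs)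
  have hquot : ∀ (K : Subgroup G) [K.Normal], K ≠ ⊥ → Group.IsSolvable (G ⧸ K) := by
    intro K _ hK
    have hmul : Nat.card K * K.index = Nat.card G := Subgroup.card_mul_index K
    have h1 : 1 < Nat.card K := (Subgroup.one_lt_card_iff_ne_bot K).2 hK
    have hidx0 : K.index ≠ 0 := Subgroup.index_ne_zero_of_finite
    have hlt : Nat.card (G ⧸ K) < Nat.card G := by
      rw [← Subgroup.index_eq_card, ← hmul]
      have : 0 < K.index := Nat.pos_of_ne_zero hidx0
      nlinarith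
    exact ih _ (hc ▸ hlt) (G ⧸ K) m n rfl (deg3_quot K hd)
  obtain ⟨M, hMn, hMne, hMmin⟩ := hUmn G hns hquot
  have := hMn
  by_cases hM : commutator G ≤ M
  · have hU : UComm G := fun L hL hLne => hM.trans (hMmin L hL hLne)
    haveI := Fintype.ofFinite G
    rcases lt_or_gt_of_ne hmn with h | h
    · exact hLemH G m n hd hcop hm1 h hHm hHn hU
    · exact hLemH G n m (deg3_symm hd) hcop.symm hn1 h hHn hHm hU
  · have hQs : Group.IsSolvable (G ⧸ M) := hquot M hMne
    obtain ⟨K, p, hKn, hp, hK, hcase⟩ := hSect G M hQs hM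
    rcases hcase with hidx | ⟨N, hF⟩
    · obtain ⟨c', hc', hH, hall⟩ := hGalP G K p hKn hp hidx hK
      exact hCaseA G m n p c' hd hcop hm1 hn1 hHm hHn hp hc' hH hall
    · have hF' := hF
      obtain ⟨-, -, hNn, hKN, hGN, hNtop, hpN, -⟩ := hF
      obtain ⟨k, hk⟩ := hCaseB G m n N p hd hcop hm1 hn1 hNn hNtop hp hpN (hW G K N p hF')
      have hNs : Group.IsSolvable N :=
        Cfsg.Agent.Lib.Helper3.TDBasic.solvable_of_two_degrees k hk
      have := hNn
      have hQ : Group.IsSolvable (G ⧸ N) := by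
        letI : CommGroup (G ⧸ N) := { (inferInstance : Group (G ⧸ N)) with
          mul_comm := quot_comm N hGN }
        infer_instance
      exact hns (solvable_of_normal N hNs hQ)

theorem solv3 (hDegen : Degen.{u}) (hPCompl : PCompl.{u}) (hUmn : Umn.{u}) (hLemH : LemH.{u})
    (hSect : Sect.{u}) (hGalP : GalP.{u}) (hCaseA : CaseA.{u}) (hW : W124.{u})
    (hCaseB : CaseB.{u}) : Solv3.{u} := by
  intro G _ _ m n hd
  exact solv_aux hDegen hPCompl hUmn hLemH hSect hGalP hCaseA hW hCaseB (Nat.card G) G m n rfl hd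

theorem dl3 (hDegen : Degen.{u}) (hTwo : Two.{u}) (hA : DlA.{u}) (hB : DlB.{u}) : Dl3.{u} := by
  intro G _ _ m n hd hs
  by_cases hnd : HasDeg G m ∧ HasDeg G n ∧ 1 < m ∧ 1 < n ∧ m ≠ n
  swap
  · obtain ⟨k, hk⟩ := hDegen G m n hd hnd
    have h2 := hTwo G k hk
    have e1 : derivedSeries G 1 = commutator G := derivedSeries_one G
    have e2 : derivedSeries G 2 = ⊥ := by
      rw [show (2 : ℕ) = 1 + 1 from rfl, derivedSeries_succ, e1, h2]
    rw [show (3 : ℕ) = 2 + 1 from rfl, derivedSeries_succ, e2]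
    exact Subgroup.commutator_bot_left _
  obtain ⟨hHm, hHn, hm1, hn1, hmn⟩ := hnd
  by_cases hex : ∃ (K : Subgroup G) (p : ℕ), K.Normal ∧ p.Prime ∧ (∃ j, K.index = p ^ j) ∧
      ¬ commutator G ≤ K
  · exact hA G m n hd hHm hHn hm1 hn1 hmn hex
  · have hNo : NoPQuot G := by
      intro K p hK hp hj
      by_contra hc
      exact hex ⟨K, p, hK, hp, hj, hc⟩
    exact hB G m n hd hHm hHn hm1 hn1 hmn hs hNo

theorem final (hCD3 : CD3.{u}) (hS : Solv3.{u}) (hD : Dl3.{u}) : Final.{u} := by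
  intro G _ _ hcd
  obtain ⟨m, n, hd⟩ := hCD3 G hcd
  exact hD G m n hd (hS G m n hd)

end Cfsg.Agent.Lib.Helper14.TC3Asm
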