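import Mathlib
import Cfsg.Agent.Lib.Helper14.TC3Stmt
import Cfsg.Agent.Lib.Helper14.TC3Asm
import Cfsg.Agent.Lib.Helper14.TC3H4
import Cfsg.Agent.Lib.Helper50.TC3CD3
import Cfsg.Agent.Lib.Helper86.TC3DEGEN
import Cfsg.Agent.Lib.Helper50.TC3PCOMPL
import Cfsg.Agent.Lib.Helper86.TC3TWO
import Cfsg.Agent.Lib.Helper86.TC3QTWO
import Cfsg.Agent.Lib.Helper86.TC3TWOSUB
import Cfsg.Agent.Lib.Helper15.TC3SECT
import Cfsg.Agent.Lib.Helper53.TC3GALP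
import Cfsg.Agent.Lib.Helper53.TC3W1
import Cfsg.Agent.Lib.Helper69.TC3W2
import Cfsg.Agent.Lib.Helper21.TC3UMN
import Cfsg.Agent.Lib.Helper67.TC3H1
import Cfsg.Agent.Lib.Helper67.TC3H2
import Cfsg.Agent.Lib.Helper48.TC3H3
import Cfsg.Agent.Lib.Helper50.TC3CASEA
import Cfsg.Agent.Lib.Helper50.TC3CASEB
import Cfsg.Agent.Lib.Helper74.TC3A4
import Cfsg.Agent.Lib.Helper21.TC3CHIEFP
import Cfsg.Agent.Lib.Helper74.TC3MONOP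
import Cfsg.Agent.Lib.Helper48.TC3TAK3
import Cfsg.Agent.Lib.Helper65.TC3HN
import Cfsg.Agent.Lib.Helper47.TC3THN
import Cfsg.Agent.Lib.Helper47.TC3B2B
import Cfsg.Agent.Lib.Helper65.TC3B2C
import Cfsg.Agent.Lib.Helper21.TC3B2D
import Cfsg.Agent.Lib.Helper21.TC3ENORM
import Cfsg.Agent.Lib.Helper6.TC3EAB1
import Cfsg.Agent.Lib.Helper6.TC3EAB2A
import Cfsg.Agent.Lib.Helper6.TC3EAB2C
import Cfsg.Agent.Lib.Helper15.TC3GRPR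
import Cfsg.Agent.Lib.Helper50.TC3EAB3
import Cfsg.Agent.Lib.Helper69.TC3B2H
import Cfsg.Agent.Lib.Helper65.TC3EABF
import Cfsg.Agent.Lib.Helper85.TC3DLA
import Cfsg.Agent.Lib.Helper99.TC3DLB

/-!
# S4460: final assembly of the pieces of `TC3Stmt`
-/

set_option autoImplicit false

namespace Cfsg.Agent.Lib.Helper14.TC3Fin

open Cfsg.Agent.Lib.Helper14.TC3Stmt

universe u

theorem hW124 : W124.{u} := Cfsg.Agent.Lib.Helper14.TC3Asm.w124 Cfsg.Agent.Lib.Helper53.TC3W1.main Cfsg.Agent.Lib.Helper69.TC3W2.main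

theorem hLemH : LemH.{u} :=
  Cfsg.Agent.Lib.Helper14.TC3Asm.lemH Cfsg.Agent.Lib.Helper67.TC3H2.main (Cfsg.Agent.Lib.Helper48.TC3H3.main Cfsg.Agent.Lib.Helper67.TC3H1.main)
    Cfsg.Agent.Lib.Helper14.TC3H4.main

theorem hSolv : Solv3.{u} :=
  Cfsg.Agent.Lib.Helper14.TC3Asm.solv3 Cfsg.Agent.Lib.Helper86.TC3DEGEN.main Cfsg.Agent.Lib.Helper50.TC3PCOMPL.main Cfsg.Agent.Lib.Helper21.TC3UMN.main hLemH
    Cfsg.Agent.Lib.Helper15.TC3SECT.main Cfsg.Agent.Lib.Helper53.TC3GALP.main Cfsg.Agent.Lib.Helper50.TC3CASEA.main hW124 Cfsg.Agent.Lib.Helper50.TC3CASEB.main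

theorem hTwoSub : TwoSub.{u} := Cfsg.Agent.Lib.Helper86.TC3TWOSUB.main Cfsg.Agent.Lib.Helper86.TC3TWO.main

theorem hQTwo : QTwo.{u} := Cfsg.Agent.Lib.Helper86.TC3QTWO.main Cfsg.Agent.Lib.Helper86.TC3TWO.main

theorem hMonoP : MonoP.{u} := Cfsg.Agent.Lib.Helper74.TC3MONOP.main Cfsg.Agent.Lib.Helper21.TC3CHIEFP.main

theorem hDlA : DlA.{u} :=
  Cfsg.Agent.Lib.Helper85.TC3DLA.main Cfsg.Agent.Lib.Helper53.TC3GALP.main Cfsg.Agent.Lib.Helper50.TC3PCOMPL.main hTwoSub hQTwo Cfsg.Agent.Lib.Helper74.TC3A4.main hMonoP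
    Cfsg.Agent.Lib.Helper48.TC3TAK3.main

theorem hB2B : B2B.{u} := Cfsg.Agent.Lib.Helper47.TC3B2B.main Cfsg.Agent.Lib.Helper47.TC3THN.main

theorem hEAb : EAb.{u} :=
  Cfsg.Agent.Lib.Helper65.TC3EABF.main Cfsg.Agent.Lib.Helper65.TC3HN.main Cfsg.Agent.Lib.Helper65.TC3B2C.main Cfsg.Agent.Lib.Helper21.TC3ENORM.main Cfsg.Agent.Lib.Helper6.TC3EAB1.main
    Cfsg.Agent.Lib.Helper6.TC3EAB2A.main Cfsg.Agent.Lib.Helper6.TC3EAB2C.main Cfsg.Agent.Lib.Helper47.TC3THN.main Cfsg.Agent.Lib.Helper15.TC3GRPR.main Cfsg.Agent.Lib.Helper50.TC3EAB3.main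

theorem hDlB : DlB.{u} :=
  Cfsg.Agent.Lib.Helper99.TC3DLB.main hW124 hTwoSub hB2B Cfsg.Agent.Lib.Helper65.TC3B2C.main Cfsg.Agent.Lib.Helper21.TC3B2D.main hEAb Cfsg.Agent.Lib.Helper69.TC3B2H.main

theorem hDl3 : Dl3.{u} :=
  Cfsg.Agent.Lib.Helper14.TC3Asm.dl3 Cfsg.Agent.Lib.Helper86.TC3DEGEN.main Cfsg.Agent.Lib.Helper86.TC3TWO.main hDlA hDlB

theorem final : Final.{u} := Cfsg.Agent.Lib.Helper14.TC3Asm.final Cfsg.Agent.Lib.Helper50.TC3CD3.main hSolv hDl3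

end Cfsg.Agent.Lib.Helper14.TC3Fin
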