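import Mathlib
import Cfsg.Agent.Lib.Helper41.TMTwoStmt
import Cfsg.Agent.Lib.Helper5.TPINVBAD2

/-! # S5987 / TM2NOODD (helper14, second seat)

`q ≡ 3 (mod 4)`, `x * x = -1`: every invariant subspace has even finrank
(`Helper5.TPINVBAD2.no_odd_inv`, valid for any index type). -/

set_option autoImplicit false

namespace Cfsg.Agent.Lib.Helper14.TM2NOODD

open Cfsg.Agent.Lib.Helper41.TMTwoStmt

universe u

theorem main : NoOdd.{u} := by
  intro F _ _ hq d x hx W hW
  classical
  by_contra hodd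
  exact Cfsg.Agent.Lib.Helper5.TPINVBAD2.no_odd_inv
    (Cfsg.Agent.Lib.Helper5.TPINVBAD2.not_sq F hq) x hx W hW (Nat.not_even_iff_odd.mp hodd)

end Cfsg.Agent.Lib.Helper14.TM2NOODD
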