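import Mathlib

set_option autoImplicit false

/-!
# The group `Z₂ × S₄`: concrete facts, and the embedding of it as an involution centralizer
-/

namespace Cfsg.Agent.Lib.Helper14.ZS4

open Equiv

/-- the group `Z₂ × S₄` -/
abbrev Q := Multiplicative (ZMod 2) × Equiv.Perm (Fin 4)

/-- the central involution -/
def cc : Q := (Multiplicative.ofAdd 1, 1)

/-- the inclusion of `S₄` -/
def kk : Perm (Fin 4) →* Q := MonoidHom.inr _ _

/-- a `4`-cycle -/
def rr : Perm (Fin 4) := swap 0 1 * swap 1 2 * swap 2 3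

/-- its square -/
def z0 : Perm (Fin 4) := swap 0 2 * swap 1 3

/-- a transposition inverting the `4`-cycle -/
def tau0 : Perm (Fin 4) := swap 0 2

/-- a `3`-cycle -/
def rho3 : Perm (Fin 4) := swap 0 1 * swap 1 2

theorem kk_apply (σ : Perm (Fin 4)) : kk σ = (1, σ) := rfl

theorem eps_cases : ∀ ε : Multiplicative (ZMod 2), ε = 1 ∨ ε = Multiplicative.ofAdd 1 := by
  decide

theorem eps_sq : ∀ ε : Multiplicative (ZMod 2), ε * ε = 1 := by decide

theorem eps_xor : ∀ ε : Multiplicative (ZMod 2),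
    (ε * Multiplicative.ofAdd 1 = 1 ∧ ¬ ε = 1) ∨ (ε = 1 ∧ ¬ ε * Multiplicative.ofAdd 1 = 1) := by
  decide

theorem ofAdd_ne : (Multiplicative.ofAdd 1 : Multiplicative (ZMod 2)) ≠ 1 := by decide

theorem cc_ne_one : cc ≠ 1 := by
  intro h
  exact ofAdd_ne (congrArg Prod.fst h)

theorem cc_sq : cc * cc = 1 := by
  apply Prod.ext
  · exact eps_sq _
  · simp [cc]

theorem cc_comm (y : Q) : cc * y = y * cc := by
  apply Prod.ext
  · simp [cc, mul_comm]
  · simp [cc]

/-- decomposition of an element -/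
theorem eq_mul_kk (y : Q) : y = (y.1, 1) * kk y.2 := by
  apply Prod.ext <;> simp [kk_apply]

theorem fst_one_eq (y : Q) (h : y.1 = 1) : y = kk y.2 := by
  apply Prod.ext
  · rw [h]; rfl
  · rfl

theorem fst_cc_eq (y : Q) (h : y.1 = Multiplicative.ofAdd 1) : y = cc * kk y.2 := by
  apply Prod.ext
  · rw [h]; simp [cc, kk_apply]
  · simp [cc, kk_apply]

set_option maxRecDepth 100000 in
theorem q_center : ∀ σ : Perm (Fin 4), (∀ ρ : Perm (Fin 4), σ * ρ = ρ * σ) → σ = 1 := by decide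

theorem Q_center (y : Q) (h : ∀ σ : Perm (Fin 4), y * kk σ = kk σ * y) : y = 1 ∨ y = cc := by
  have h2 : y.2 = 1 := by
    apply q_center
    intro ρ
    have := congrArg Prod.snd (h ρ)
    simpa [kk_apply] using this
  rcases eps_cases y.1 with h1 | h1
  · left
    apply Prod.ext
    · exact h1
    · exact h2
  · right
    apply Prod.ext
    · exact h1
    · exact h2

set_option maxRecDepth 100000 in
theorem q_comm : ∀ σ₁ σ₂ : Perm (Fin 4), σ₁ * z0 = z0 * σ₁ → σ₂ * z0 = z0 * σ₂ →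
    σ₁ * σ₂ * σ₁⁻¹ * σ₂⁻¹ = 1 ∨ σ₁ * σ₂ * σ₁⁻¹ * σ₂⁻¹ = z0 := by decide

theorem snd_comm {y : Q} (h : y * kk z0 = kk z0 * y) : y.2 * z0 = z0 * y.2 := by
  have := congrArg Prod.snd h
  simpa [kk_apply] using this

theorem comm_of_snd {y : Q} (h : y.2 * z0 = z0 * y.2) : y * kk z0 = kk z0 * y := by
  apply Prod.ext
  · simp [kk_apply]
  · simpa [kk_apply] using h

theorem Q_comm (y₁ y₂ : Q) (h₁ : y₁ * kk z0 = kk z0 * y₁) (h₂ : y₂ * kk z0 = kk z0 * y₂) :
    y₁ * y₂ * y₁⁻¹ * y₂⁻¹ = 1 ∨ y₁ * y₂ * y₁⁻¹ * y₂⁻¹ = kk z0 := by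
  have key := q_comm y₁.2 y₂.2 (snd_comm h₁) (snd_comm h₂)
  have h1 : (y₁ * y₂ * y₁⁻¹ * y₂⁻¹ : Q).1 = 1 := by
    simp [mul_comm]
  have h2 : (y₁ * y₂ * y₁⁻¹ * y₂⁻¹ : Q).2 = y₁.2 * y₂.2 * y₁.2⁻¹ * y₂.2⁻¹ := by
    simp
  rcases key with h | h
  · left
    apply Prod.ext
    · exact h1
    · rw [h2, h]; rfl
  · right
    apply Prod.ext
    · exact h1
    · rw [h2, h]; rfl

set_option maxRecDepth 100000 in
theorem card_filter : (Finset.univ.filter (fun y : Q => y * ((1 : Multiplicative (ZMod 2)), z0) =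
    ((1 : Multiplicative (ZMod 2)), z0) * y)).card = 16 := by decide

/-- the Sylow `2`-subgroup `Z₂ × D₈` -/
def D16 : Subgroup Q := Subgroup.centralizer ({kk z0} : Set Q)

theorem mem_D16 (y : Q) : y ∈ D16 ↔ y * kk z0 = kk z0 * y :=
  Subgroup.mem_centralizer_singleton_iff

theorem card_D16 : Nat.card D16 = 16 := by
  have e : D16 ≃ {y : Q // y * ((1 : Multiplicative (ZMod 2)), z0) =
      ((1 : Multiplicative (ZMod 2)), z0) * y} :=
    Equiv.subtypeEquivRight (fun y => mem_D16 y)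
  rw [Nat.card_congr e, Nat.card_eq_fintype_card, Fintype.card_subtype]
  exact card_filter

set_option maxRecDepth 100000 in
theorem q_invol : ∀ σ : Perm (Fin 4), σ * σ = 1 → σ = 1 ∨ (∃ ρ, σ = ρ * z0 * ρ⁻¹) ∨
    (∃ ρ, σ = ρ * tau0 * ρ⁻¹) := by decide

theorem conj_kk (ε : Multiplicative (ZMod 2)) (ρ σ : Perm (Fin 4)) :
    kk ρ * (ε, σ) * (kk ρ)⁻¹ = (ε, ρ * σ * ρ⁻¹) := by
  apply Prod.ext <;> simp [kk_apply]

/-- the isomorphism `{±1} ≃ Z₂` as a homomorphism -/
def u2 : ℤˣ →* Multiplicative (ZMod 2) :=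
  MonoidHom.mk' (fun u => if u = 1 then 1 else Multiplicative.ofAdd 1) (by decide)

/-- the sign character with values in `Z₂` -/
def sg : Perm (Fin 4) →* Multiplicative (ZMod 2) := u2.comp Perm.sign

theorem sg_swap {a b : Fin 4} (h : a ≠ b) : sg (swap a b) = Multiplicative.ofAdd 1 := by
  have h1 : Perm.sign (swap a b) = -1 := Perm.sign_swap h
  change u2 (Perm.sign (swap a b)) = _
  rw [h1]
  decide

theorem sg_tau0 : sg tau0 = Multiplicative.ofAdd 1 := sg_swap (by decide)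

theorem sg_z0 : sg z0 = 1 := by
  unfold z0
  rw [map_mul, sg_swap (by decide), sg_swap (by decide)]
  decide

theorem sg_conj (ρ σ : Perm (Fin 4)) : sg (ρ * σ * ρ⁻¹) = sg σ := by
  rw [map_mul, map_mul, map_inv, mul_comm (sg ρ), mul_assoc, mul_inv_cancel, mul_one]

/-- the first projection -/
def fstHom : Q →* Multiplicative (ZMod 2) := MonoidHom.fst _ _

/-- the twisted projection -/
def chi : Q →* Multiplicative (ZMod 2) := fstHom * sg.comp (MonoidHom.snd _ _)

theorem fstHom_apply (y : Q) : fstHom y = y.1 := rfl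

theorem chi_apply (y : Q) : chi y = y.1 * sg y.2 := rfl

theorem fstHom_cc : fstHom cc = Multiplicative.ofAdd 1 := rfl

theorem chi_cc : chi cc = Multiplicative.ofAdd 1 := by
  rw [chi_apply]
  change Multiplicative.ofAdd 1 * sg 1 = _
  rw [MonoidHom.map_one sg, mul_one]

/-- the complement `1 × D₈` -/
def D8s : Subgroup Q := D16 ⊓ fstHom.ker

/-- the twisted complement -/
def D8t : Subgroup Q := D16 ⊓ chi.ker

theorem mem_D8s (y : Q) : y ∈ D8s ↔ y * kk z0 = kk z0 * y ∧ y.1 = 1 := by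
  unfold D8s
  rw [Subgroup.mem_inf, mem_D16, MonoidHom.mem_ker, fstHom_apply]

theorem mem_D8t (y : Q) : y ∈ D8t ↔ y * kk z0 = kk z0 * y ∧ y.1 * sg y.2 = 1 := by
  unfold D8t
  rw [Subgroup.mem_inf, mem_D16, MonoidHom.mem_ker, chi_apply]

/-- the twist automorphism of `Z₂ × S₄` -/
def alpha : Q ≃* Q where
  toFun y := (y.1 * sg y.2, y.2)
  invFun y := (y.1 * sg y.2, y.2)
  left_inv y := by
    apply Prod.ext
    · change y.1 * sg y.2 * sg y.2 = y.1
      rw [mul_assoc, eps_sq, mul_one]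
    · rfl
  right_inv y := by
    apply Prod.ext
    · change y.1 * sg y.2 * sg y.2 = y.1
      rw [mul_assoc, eps_sq, mul_one]
    · rfl
  map_mul' y w := by
    apply Prod.ext
    · change y.1 * w.1 * sg (y.2 * w.2) = y.1 * sg y.2 * (w.1 * sg w.2)
      rw [map_mul, mul_mul_mul_comm]
    · rfl

theorem alpha_apply (y : Q) : alpha y = (y.1 * sg y.2, y.2) := rfl

theorem alpha_symm_apply (y : Q) : alpha.symm y = (y.1 * sg y.2, y.2) := rfl

theorem alpha_cc : alpha.symm cc = cc := by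
  rw [alpha_symm_apply]
  apply Prod.ext
  · change Multiplicative.ofAdd 1 * sg 1 = _
    rw [MonoidHom.map_one sg, mul_one]; rfl
  · rfl

theorem alpha_kz : alpha.symm (kk z0) = kk z0 := by
  rw [alpha_symm_apply]
  apply Prod.ext
  · change 1 * sg z0 = _
    rw [sg_z0, one_mul]; rfl
  · rfl

theorem alpha_ctau : alpha.symm (cc * kk tau0) = kk tau0 := by
  rw [alpha_symm_apply]
  apply Prod.ext
  · change (Multiplicative.ofAdd 1 * 1) * sg (1 * tau0) = _
    rw [one_mul, sg_tau0, mul_one, eps_sq]; rfl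
  · change 1 * tau0 = tau0
    rw [one_mul]

/-- the embedding of the dihedral group of order `8` in `S₄` -/
def dfun : DihedralGroup 4 → Perm (Fin 4)
  | .r i => rr ^ i.val
  | .sr i => tau0 * rr ^ i.val

set_option maxRecDepth 100000 in
theorem dfun_mul : ∀ x y : DihedralGroup 4, dfun (x * y) = dfun x * dfun y := by decide

/-- the embedding of the dihedral group of order `8` in `S₄` -/
def delta : DihedralGroup 4 →* Perm (Fin 4) := MonoidHom.mk' dfun dfun_mul

set_option maxRecDepth 100000 in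
theorem delta_inj : ∀ x y : DihedralGroup 4, delta x = delta y → x = y := by decide

set_option maxRecDepth 100000 in
theorem delta_comm : ∀ x : DihedralGroup 4, delta x * z0 = z0 * delta x := by decide

set_option maxRecDepth 100000 in
theorem delta_surj : ∀ σ : Perm (Fin 4), σ * z0 = z0 * σ → ∃ x : DihedralGroup 4, delta x = σ := by
  decide

theorem delta_r2 : delta (DihedralGroup.r 2) = z0 := by decide

theorem delta_sr0 : delta (DihedralGroup.sr 0) = tau0 := by decide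

theorem delta_sr1 : delta (DihedralGroup.sr 1) = swap 1 2 * z0 * (swap 1 2)⁻¹ := by decide

theorem rr_sq : rr * rr = z0 := by decide

theorem rr_comm : rr * z0 = z0 * rr := by decide

theorem tau0_comm : tau0 * z0 = z0 * tau0 := by decide

theorem tau0_sq : tau0 * tau0 = 1 := by decide

theorem z0_sq : z0 * z0 = 1 := by decide

theorem z0_ne_one : z0 ≠ 1 := by decide

theorem tau0_ne_one : tau0 ≠ 1 := by decide

theorem comm_rr_tau0 : rr * tau0 * rr⁻¹ * tau0⁻¹ = z0 := by decide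

theorem rho3_cube : rho3 * rho3 * rho3 = 1 := by decide

theorem rho3_ne_one : rho3 ≠ 1 := by decide

theorem swaps_not_comm : swap (0 : Fin 4) 1 * swap 1 2 ≠ swap 1 2 * swap 0 1 := by decide

theorem kz_sq : kk z0 * kk z0 = 1 := by
  rw [← map_mul, z0_sq, map_one]

theorem ktau_sq : kk tau0 * kk tau0 = 1 := by
  rw [← map_mul, tau0_sq, map_one]

theorem ckz_comm : cc * kk z0 * kk z0 = kk z0 * (cc * kk z0) := by
  rw [← mul_assoc, ← cc_comm]

theorem ckz_sq : cc * kk z0 * (cc * kk z0) = 1 := by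
  rw [mul_assoc, ← mul_assoc (kk z0), ← cc_comm, mul_assoc, kz_sq, mul_one, cc_sq]

theorem ctau_sq : cc * kk tau0 * (cc * kk tau0) = 1 := by
  rw [mul_assoc, ← mul_assoc (kk tau0), ← cc_comm, mul_assoc, ktau_sq, mul_one, cc_sq]

theorem ktau_comm : kk tau0 * kk z0 = kk z0 * kk tau0 := by
  rw [← map_mul, ← map_mul, tau0_comm]

theorem krr_comm : kk rr * kk z0 = kk z0 * kk rr := by
  rw [← map_mul, ← map_mul, rr_comm]

theorem hom_conj (χ : Q →* Multiplicative (ZMod 2)) (a w : Q) : χ (a * w * a⁻¹) = χ w := by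
  rw [map_mul, map_mul, map_inv, mul_comm (χ a), mul_assoc, mul_inv_cancel, mul_one]

theorem fst_kk (σ : Perm (Fin 4)) : fstHom (kk σ) = 1 := rfl

theorem fst_ckk (σ : Perm (Fin 4)) : fstHom (cc * kk σ) = Multiplicative.ofAdd 1 := by
  rw [map_mul, fst_kk, mul_one]; rfl

theorem chi_kk (σ : Perm (Fin 4)) : chi (kk σ) = sg σ := by
  rw [chi_apply]
  change 1 * sg σ = sg σ
  rw [one_mul]

theorem chi_ckk (σ : Perm (Fin 4)) : chi (cc * kk σ) = Multiplicative.ofAdd 1 * sg σ := by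
  rw [map_mul, chi_cc, chi_kk]

theorem chi_ctau : chi (cc * kk tau0) = 1 := by
  rw [chi_ckk, sg_tau0, eps_sq]

theorem ckk_ne_one (σ : Perm (Fin 4)) : cc * kk σ ≠ 1 := by
  intro h
  have := fst_ckk σ
  rw [h, map_one] at this
  exact ofAdd_ne this.symm

theorem kk_injective : Function.Injective kk := by
  intro a b h
  simpa [kk_apply] using congrArg Prod.snd h

theorem ktau_ne_one : kk tau0 ≠ 1 := by
  intro h
  rw [← map_one kk] at h
  exact tau0_ne_one (kk_injective h)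

set_option maxRecDepth 100000 in
theorem card_filter_A : (Finset.univ.filter (fun y : Q => y = cc ∨
    ∃ ρ : Perm (Fin 4), y = kk ρ * (cc * kk tau0) * (kk ρ)⁻¹)).card = 7 := by decide

theorem card_A : Nat.card {y : Q // y = cc ∨
    ∃ ρ : Perm (Fin 4), y = kk ρ * (cc * kk tau0) * (kk ρ)⁻¹} = 7 := by
  rw [Nat.card_eq_fintype_card, Fintype.card_subtype]
  exact card_filter_A

set_option maxRecDepth 100000 in
theorem Q_noncomm : kk (swap 0 1) * (cc * kk tau0) * (kk (swap 0 1))⁻¹ *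
    (kk (swap 1 2) * (cc * kk tau0) * (kk (swap 1 2))⁻¹) ≠
    kk (swap 1 2) * (cc * kk tau0) * (kk (swap 1 2))⁻¹ *
      (kk (swap 0 1) * (cc * kk tau0) * (kk (swap 0 1))⁻¹) := by decide

theorem z1_conj' : z0 * (swap 1 2 * z0 * (swap 1 2)⁻¹) = swap 2 3 * z0 * (swap 2 3)⁻¹ := by
  decide

theorem z1_conj : kk z0 * (kk (swap 1 2) * kk z0 * (kk (swap 1 2))⁻¹) =
    kk (swap 2 3) * kk z0 * (kk (swap 2 3))⁻¹ := by
  rw [← map_inv, ← map_inv, ← map_mul, ← map_mul, ← map_mul, ← map_mul, ← map_mul, z1_conj']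

theorem rho3_pow : rho3 ^ 3 = 1 := by decide

end Cfsg.Agent.Lib.Helper14.ZS4
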