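import Mathlib
import Cfsg.Agent.Lib.Helper14.ZS4
import Cfsg.Agent.Lib.Helper14.D8Main
import Cfsg.Agent.S0111

set_option autoImplicit false

/-!
# Groups with a `2`-central involution `t`, `C(t) ≅ Z₂ × S₄`, and `C(z) ≤ C(t)` for the
involution `z` generating the derived group of a Sylow `2`-subgroup: fusion of involutions
-/

namespace Cfsg.Agent.Lib.Helper14.ZS4Fus

open Equiv Cfsg.Agent.Lib.Helper14.ZS4

universe u
variable {G : Type u} [Group G] {t : G}

/-- conjugacy, as an explicit existential -/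
def Cj (a b : G) : Prop := ∃ g : G, g * a * g⁻¹ = b

theorem Cj.refl (a : G) : Cj a a := ⟨1, by group⟩

theorem Cj.symm {a b : G} (h : Cj a b) : Cj b a := by
  obtain ⟨g, rfl⟩ := h
  exact ⟨g⁻¹, by group⟩

theorem Cj.trans {a b c : G} (h : Cj a b) (h' : Cj b c) : Cj a c := by
  obtain ⟨g, rfl⟩ := h
  obtain ⟨k, rfl⟩ := h'
  exact ⟨k * g, by group⟩

theorem Cj.mem {a b : G} (h : Cj a b) (M : Subgroup G) [hM : M.Normal] (ha : a ∈ M) : b ∈ M := by
  obtain ⟨g, rfl⟩ := h
  exact hM.conj_mem a ha g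

theorem Cj.mem_iff {a b : G} (h : Cj a b) (M : Subgroup G) [M.Normal] : a ∈ M ↔ b ∈ M :=
  ⟨h.mem M, h.symm.mem M⟩

/-- the embedding of `Z₂ × S₄` as the centralizer of the involution -/
def phi (e : Subgroup.centralizer ({t} : Set G) ≃* Q) : Q →* G :=
  (Subgroup.centralizer ({t} : Set G)).subtype.comp e.symm.toMonoidHom

variable (e : Subgroup.centralizer ({t} : Set G) ≃* Q)

include e

theorem phi_apply (y : Q) : phi e y = (e.symm y : G) := rfl

theorem phi_injective : Function.Injective (phi e) := by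
  intro x y h
  have : e.symm x = e.symm y := Subtype.ext h
  exact e.symm.injective this

theorem phi_mem (y : Q) : phi e y ∈ Subgroup.centralizer ({t} : Set G) :=
  (e.symm y).2

theorem phi_comm (y : Q) : phi e y * t = t * phi e y := by
  have := phi_mem e y
  rw [Subgroup.mem_centralizer_singleton_iff] at this
  exact this

theorem exists_phi {g : G} (hg : g * t = t * g) : ∃ y, phi e y = g := by
  have hg' : g ∈ Subgroup.centralizer ({t} : Set G) := by
    rw [Subgroup.mem_centralizer_singleton_iff]; exact hg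
  exact ⟨e ⟨g, hg'⟩, by rw [phi_apply, e.symm_apply_apply]⟩

omit e in
theorem t_ne_one (ht : orderOf t = 2) : t ≠ 1 := by
  intro h
  rw [h, orderOf_one] at ht
  omega

omit e in
theorem t_sq (ht : orderOf t = 2) : t * t = 1 := by
  rw [← pow_two, ← ht, pow_orderOf_eq_one]

omit e in
theorem t_inv (ht : orderOf t = 2) : t⁻¹ = t := inv_eq_of_mul_eq_one_left (by
  rw [← pow_two, ← ht, pow_orderOf_eq_one])

theorem phi_cc (ht : orderOf t = 2) : phi e cc = t := by
  obtain ⟨x, hx⟩ := exists_phi e (rfl : t * t = t * t)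
  have hcen : ∀ σ : Perm (Fin 4), x * kk σ = kk σ * x := by
    intro σ
    apply phi_injective e
    rw [map_mul, map_mul, hx]
    exact (phi_comm e _).symm
  rcases Q_center x hcen with h | h
  · exfalso
    rw [h, map_one] at hx
    exact t_ne_one ht hx.symm
  · rw [← h]; exact hx

theorem card_centralizer : Nat.card (Subgroup.centralizer ({t} : Set G)) = 48 := by
  rw [Nat.card_congr e.toEquiv, Nat.card_prod, Nat.card_perm]
  simp [Nat.factorial]

theorem phi_conj (ρ : Perm (Fin 4)) (w : Q) :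
    Cj (phi e w) (phi e (kk ρ * w * (kk ρ)⁻¹)) :=
  ⟨phi e (kk ρ), by rw [map_mul, map_mul, map_inv]⟩

theorem phi_ne_one {y : Q} (h : y ≠ 1) : phi e y ≠ 1 := by
  intro h'
  rw [← map_one (phi e)] at h'
  exact h (phi_injective e h')

theorem orderOf_phi {y : Q} (h : y * y = 1) (h1 : y ≠ 1) : orderOf (phi e y) = 2 := by
  have : Fact (Nat.Prime 2) := ⟨Nat.prime_two⟩
  apply orderOf_eq_prime
  · rw [pow_two, ← map_mul, h, map_one]
  · exact phi_ne_one e h1

omit e in
/-- classification of the involutions of the centralizer -/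
theorem Q_invol (y : Q) (h : y * y = 1) (h1 : y ≠ 1) :
    y = cc ∨ (∃ ρ, y = kk ρ * kk z0 * (kk ρ)⁻¹) ∨ (∃ ρ, y = kk ρ * (cc * kk z0) * (kk ρ)⁻¹) ∨
      (∃ ρ, y = kk ρ * kk tau0 * (kk ρ)⁻¹) ∨ (∃ ρ, y = kk ρ * (cc * kk tau0) * (kk ρ)⁻¹) := by
  have h2 : y.2 * y.2 = 1 := by
    have := congrArg Prod.snd h
    simpa using this
  have hy : y = (y.1, y.2) := rfl
  have e1 : ∀ σ : Perm (Fin 4), cc * kk σ = (Multiplicative.ofAdd 1, σ) := by
    intro σ
    apply Prod.ext <;> simp [cc, kk_apply]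
  rcases q_invol y.2 h2 with h3 | ⟨ρ, h3⟩ | ⟨ρ, h3⟩
  · rcases eps_cases y.1 with h4 | h4
    · exfalso
      apply h1
      apply Prod.ext
      · exact h4
      · exact h3
    · left
      apply Prod.ext
      · exact h4
      · exact h3
  · rcases eps_cases y.1 with h4 | h4
    · right; left
      refine ⟨ρ, ?_⟩
      rw [kk_apply z0, conj_kk, hy, h4, h3]
    · right; right; left
      refine ⟨ρ, ?_⟩
      rw [e1, conj_kk, hy, h4, h3]
  · rcases eps_cases y.1 with h4 | h4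
    · right; right; right; left
      refine ⟨ρ, ?_⟩
      rw [kk_apply tau0, conj_kk, hy, h4, h3]
    · right; right; right; right
      refine ⟨ρ, ?_⟩
      rw [e1, conj_kk, hy, h4, h3]

theorem phi_kz_ne_one : phi e (kk z0) ≠ 1 := by
  apply phi_ne_one
  intro h
  exact z0_ne_one (by simpa [kk_apply] using congrArg Prod.snd h)

theorem phi_ckz (ht : orderOf t = 2) : phi e (cc * kk z0) = t * phi e (kk z0) := by
  rw [map_mul, phi_cc e ht]

theorem phi_ctau (ht : orderOf t = 2) : phi e (cc * kk tau0) = t * phi e (kk tau0) := by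
  rw [map_mul, phi_cc e ht]

theorem z_comm_phi {y : Q} (hy : y * kk z0 = kk z0 * y) :
    phi e y * phi e (kk z0) = phi e (kk z0) * phi e y := by
  rw [← map_mul, ← map_mul, hy]

section Fusion

variable (ht : orderOf t = 2)
  (hCz : ∀ g : G, g * phi e (kk z0) = phi e (kk z0) * g → g * t = t * g)

include ht hCz

omit ht in
theorem cent_z {g : G} (hg : g * phi e (kk z0) = phi e (kk z0) * g) :
    ∃ y, y * kk z0 = kk z0 * y ∧ phi e y = g := by
  obtain ⟨y, rfl⟩ := exists_phi e (hCz g hg)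
  refine ⟨y, ?_, rfl⟩
  apply phi_injective e
  rw [map_mul, map_mul]
  exact hg

omit ht in
theorem pow16 {g : G} (hg : g * phi e (kk z0) = phi e (kk z0) * g) : g ^ 16 = 1 := by
  obtain ⟨y, hy, rfl⟩ := cent_z e hCz hg
  have h1 : (⟨y, (mem_D16 y).mpr hy⟩ : D16) ^ 16 = 1 := by
    rw [← card_D16]
    exact pow_card_eq_one'
  have h2 : y ^ 16 = 1 := by
    have := congrArg Subtype.val h1
    simpa using this
  rw [← map_pow, h2, map_one]

omit ht in
/-- an element conjugating the centralizer of `z` into itself centralizes `z` -/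
theorem normalizes (n : G)
    (hn : ∀ s : G, s * phi e (kk z0) = phi e (kk z0) * s →
      (n * s * n⁻¹) * phi e (kk z0) = phi e (kk z0) * (n * s * n⁻¹)) :
    n * phi e (kk z0) = phi e (kk z0) * n := by
  have hz : phi e (kk z0) = phi e (kk rr) * phi e (kk tau0) * (phi e (kk rr))⁻¹ *
      (phi e (kk tau0))⁻¹ := by
    rw [← map_inv, ← map_inv, ← map_mul, ← map_mul, ← map_mul, ← map_inv, ← map_inv,
      ← map_mul, ← map_mul, ← map_mul, comm_rr_tau0]
  have ha := hn _ (z_comm_phi e (y := kk rr) (by rw [← map_mul, ← map_mul, rr_comm]))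
  have hb := hn _ (z_comm_phi e (y := kk tau0) (by rw [← map_mul, ← map_mul, tau0_comm]))
  obtain ⟨y₁, hy₁, e₁⟩ := cent_z e hCz ha
  obtain ⟨y₂, hy₂, e₂⟩ := cent_z e hCz hb
  have h1 : n * phi e (kk z0) * n⁻¹ = phi e (y₁ * y₂ * y₁⁻¹ * y₂⁻¹) := by
    rw [map_mul, map_mul, map_mul, map_inv, map_inv, e₁, e₂]
    nth_rewrite 1 [hz]
    group
  rcases Q_comm y₁ y₂ hy₁ hy₂ with h | h
  · exfalso
    rw [h, map_one] at h1
    apply phi_kz_ne_one e
    calc phi e (kk z0) = n⁻¹ * (n * phi e (kk z0) * n⁻¹) * n := by group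
      _ = 1 := by rw [h1]; group
  · rw [h] at h1
    calc n * phi e (kk z0) = n * phi e (kk z0) * n⁻¹ * n := by group
      _ = phi e (kk z0) * n := by rw [h1]

omit ht in
theorem not_cj_t_z : ¬ Cj t (phi e (kk z0)) := by
  rintro ⟨g, hg⟩
  have ha : phi e (kk rho3) * t = t * phi e (kk rho3) := phi_comm e _
  have h1 : (g * phi e (kk rho3) * g⁻¹) * phi e (kk z0) =
      phi e (kk z0) * (g * phi e (kk rho3) * g⁻¹) := by
    rw [← hg]
    calc g * phi e (kk rho3) * g⁻¹ * (g * t * g⁻¹) = g * (phi e (kk rho3) * t) * g⁻¹ := by group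
      _ = g * (t * phi e (kk rho3)) * g⁻¹ := by rw [ha]
      _ = g * t * g⁻¹ * (g * phi e (kk rho3) * g⁻¹) := by group
  have h2 := pow16 e hCz h1
  rw [conj_pow] at h2
  have h3 : phi e (kk rho3) ^ 16 = 1 := by
    calc phi e (kk rho3) ^ 16 = g⁻¹ * (g * phi e (kk rho3) ^ 16 * g⁻¹) * g := by group
      _ = 1 := by rw [h2]; group
  have h4 : phi e (kk rho3) ^ 3 = 1 := by
    rw [← map_pow, ← map_pow, pow_succ, pow_two, rho3_cube, map_one, map_one]
  have h5 : phi e (kk rho3) = 1 := by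
    calc phi e (kk rho3) = phi e (kk rho3) ^ 16 * ((phi e (kk rho3)) ^ 3)⁻¹ ^ 5 := by group
      _ = 1 := by rw [h3, h4]; group
  apply phi_ne_one e _ h5
  intro h
  exact rho3_ne_one (by simpa [kk_apply] using congrArg Prod.snd h)

theorem not_cj_z_tz [Finite G] : ¬ Cj (phi e (kk z0)) (phi e (cc * kk z0)) := by
  rintro ⟨g, hg⟩
  have hu : phi e (cc * kk z0) = t * phi e (kk z0) := phi_ckz e ht
  have hle : Subgroup.centralizer ({phi e (kk z0)} : Set G) ≤
      Subgroup.centralizer ({phi e (cc * kk z0)} : Set G) := by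
    intro s hs
    rw [Subgroup.mem_centralizer_singleton_iff] at hs ⊢
    rw [hu, ← mul_assoc, hCz s hs, mul_assoc, hs, mul_assoc]
  have hcard : Nat.card (Subgroup.centralizer ({phi e (cc * kk z0)} : Set G)) ≤
      Nat.card (Subgroup.centralizer ({phi e (kk z0)} : Set G)) := by
    let f : Subgroup.centralizer ({phi e (cc * kk z0)} : Set G) →
        Subgroup.centralizer ({phi e (kk z0)} : Set G) := fun w =>
      ⟨g⁻¹ * w.1 * g, by
        have hw := w.2
        rw [Subgroup.mem_centralizer_singleton_iff] at hw ⊢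
        have hw' : w.1 * (g * phi e (kk z0) * g⁻¹) = (g * phi e (kk z0) * g⁻¹) * w.1 := by
          rw [hg]; exact hw
        calc g⁻¹ * w.1 * g * phi e (kk z0) = g⁻¹ * (w.1 * (g * phi e (kk z0) * g⁻¹)) * g := by
              group
          _ = g⁻¹ * ((g * phi e (kk z0) * g⁻¹) * w.1) * g := by rw [hw']
          _ = phi e (kk z0) * (g⁻¹ * w.1 * g) := by group⟩
    apply Nat.card_le_card_of_injective f
    intro w w' h
    have h' : g⁻¹ * w.1 * g = g⁻¹ * w'.1 * g := congrArg Subtype.val h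
    apply Subtype.ext
    exact mul_left_cancel (mul_right_cancel h')
  have heq := Subgroup.eq_of_le_of_card_ge hle hcard
  have hgz : g * phi e (kk z0) = phi e (kk z0) * g := by
    apply normalizes e hCz
    intro s hs
    have h1 : g * s * g⁻¹ ∈ Subgroup.centralizer ({phi e (kk z0)} : Set G) := by
      rw [heq, Subgroup.mem_centralizer_singleton_iff, ← hg]
      calc g * s * g⁻¹ * (g * phi e (kk z0) * g⁻¹) = g * (s * phi e (kk z0)) * g⁻¹ := by group
        _ = g * (phi e (kk z0) * s) * g⁻¹ := by rw [hs]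
        _ = g * phi e (kk z0) * g⁻¹ * (g * s * g⁻¹) := by group
    rwa [Subgroup.mem_centralizer_singleton_iff] at h1
  have h2 : phi e (cc * kk z0) = phi e (kk z0) := by
    rw [← hg, hgz]; group
  rw [hu] at h2
  apply t_ne_one ht
  calc t = t * phi e (kk z0) * (phi e (kk z0))⁻¹ := by group
    _ = 1 := by rw [h2]; group

theorem not_cj_t_tz [Finite G] (P : Sylow 2 G)
    (hP : (P : Subgroup G) = Subgroup.centralizer ({phi e (kk z0)} : Set G)) :
    ¬ Cj t (phi e (cc * kk z0)) := by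
  rintro ⟨g, hg⟩
  have hu : phi e (cc * kk z0) = t * phi e (kk z0) := phi_ckz e ht
  have hPle : (P : Subgroup G) ≤ Subgroup.centralizer ({t} : Set G) := by
    rw [hP]; intro s hs
    rw [Subgroup.mem_centralizer_singleton_iff] at hs ⊢
    exact hCz s hs
  let ψ : Subgroup.centralizer ({t} : Set G) →* G :=
    (MulAut.conj g).toMonoidHom.comp (Subgroup.centralizer ({t} : Set G)).subtype
  have hψ : Function.Injective ψ := by
    intro a b h
    apply Subtype.ext
    have h' : g * a.1 * g⁻¹ = g * b.1 * g⁻¹ := h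
    exact mul_left_cancel (mul_right_cancel h')
  have hH : IsPGroup 2 ((P : Subgroup G).comap ψ) := P.isPGroup'.comap_of_injective ψ hψ
  obtain ⟨c, hc⟩ := Cfsg.Agent.Lib.Helper14.BSKer.exists_conj_mem (P.subtype hPle) _ hH
  have hn : ∀ s : G, s * phi e (kk z0) = phi e (kk z0) * s →
      (c.1 * g⁻¹ * s * (c.1 * g⁻¹)⁻¹) * phi e (kk z0) =
        phi e (kk z0) * (c.1 * g⁻¹ * s * (c.1 * g⁻¹)⁻¹) := by
    intro s hs
    have hsu : s * (g * t * g⁻¹) = (g * t * g⁻¹) * s := by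
      rw [hg, hu, ← mul_assoc, hCz s hs, mul_assoc, hs, mul_assoc]
    have hx : g⁻¹ * s * g ∈ Subgroup.centralizer ({t} : Set G) := by
      rw [Subgroup.mem_centralizer_singleton_iff]
      calc g⁻¹ * s * g * t = g⁻¹ * (s * (g * t * g⁻¹)) * g := by group
        _ = g⁻¹ * ((g * t * g⁻¹) * s) * g := by rw [hsu]
        _ = t * (g⁻¹ * s * g) := by group
    have hxH : (⟨g⁻¹ * s * g, hx⟩ : Subgroup.centralizer ({t} : Set G)) ∈
        (P : Subgroup G).comap ψ := by
      rw [Subgroup.mem_comap]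
      change g * (g⁻¹ * s * g) * g⁻¹ ∈ (P : Subgroup G)
      have h0 : g * (g⁻¹ * s * g) * g⁻¹ = s := by group
      rw [h0, hP, Subgroup.mem_centralizer_singleton_iff]; exact hs
    have h1 := hc _ hxH
    have h2 : c.1 * (g⁻¹ * s * g) * c.1⁻¹ ∈ (P : Subgroup G) := by
      rw [Sylow.coe_subtype, Subgroup.mem_subgroupOf] at h1
      simpa using h1
    rw [hP, Subgroup.mem_centralizer_singleton_iff] at h2
    have e1 : c.1 * g⁻¹ * s * (c.1 * g⁻¹)⁻¹ = c.1 * (g⁻¹ * s * g) * c.1⁻¹ := by group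
    rw [e1]; exact h2
  have hnz := normalizes e hCz _ hn
  have hnt := hCz _ hnz
  have hct : c.1 * t = t * c.1 := by
    have := c.2
    rwa [Subgroup.mem_centralizer_singleton_iff] at this
  have h3 : (c.1 * g⁻¹) * phi e (cc * kk z0) * (c.1 * g⁻¹)⁻¹ = t := by
    rw [← hg]
    calc c.1 * g⁻¹ * (g * t * g⁻¹) * (c.1 * g⁻¹)⁻¹ = (c.1 * t) * c.1⁻¹ := by group
      _ = t := by rw [hct]; group
  have h4 : (c.1 * g⁻¹) * phi e (cc * kk z0) = phi e (cc * kk z0) * (c.1 * g⁻¹) := by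
    rw [hu, ← mul_assoc, hnt, mul_assoc, hnz, mul_assoc]
  have h5 : phi e (cc * kk z0) = t := by
    calc phi e (cc * kk z0) = phi e (cc * kk z0) * (c.1 * g⁻¹) * (c.1 * g⁻¹)⁻¹ := by group
      _ = (c.1 * g⁻¹) * phi e (cc * kk z0) * (c.1 * g⁻¹)⁻¹ := by rw [h4]
      _ = t := h3
  rw [hu] at h5
  apply phi_kz_ne_one e
  calc phi e (kk z0) = t⁻¹ * (t * phi e (kk z0)) := by group
    _ = 1 := by rw [h5]; group

omit ht in
/-- the Thompson transfer lemma for the maximal subgroup of the Sylow subgroup cut out by a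
character -/
theorem transfer_gen [Finite G] (P : Sylow 2 G)
    (hP : (P : Subgroup G) = Subgroup.centralizer ({phi e (kk z0)} : Set G))
    (χ : Q →* Multiplicative (ZMod 2)) (hχ : χ cc = Multiplicative.ofAdd 1)
    (y₀ : Q) (hy₀ : y₀ * kk z0 = kk z0 * y₀) (hy₀2 : y₀ * y₀ = 1) (hχy : χ y₀ ≠ 1) :
    (∃ M : Subgroup G, M.Normal ∧ M.index = 2 ∧ phi e y₀ ∉ M) ∨
      ∃ y : Q, y * kk z0 = kk z0 * y ∧ χ y = 1 ∧ Cj (phi e y₀) (phi e y) := by
  set Q' : Subgroup G := (D16 ⊓ χ.ker).map (phi e) with hQ'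
  have hmemQ : ∀ y, phi e y ∈ Q' ↔ (y * kk z0 = kk z0 * y ∧ χ y = 1) := by
    intro y
    rw [hQ', Subgroup.mem_map_iff_mem (phi_injective e), Subgroup.mem_inf, mem_D16,
      MonoidHom.mem_ker]
  have hmemP : ∀ y, y * kk z0 = kk z0 * y → phi e y ∈ (P : Subgroup G) := by
    intro y hy
    rw [hP, Subgroup.mem_centralizer_singleton_iff]
    exact z_comm_phi e hy
  have hQP : Q' ≤ (P : Subgroup G) := by
    rintro _ ⟨y, hy, rfl⟩
    exact hmemP y ((mem_D16 y).mp hy.1)
  have hQi : Q'.relIndex (P : Subgroup G) = 2 := by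
    rw [Subgroup.relIndex_eq_two_iff]
    refine ⟨phi e cc, hmemP cc (cc_comm _), ?_⟩
    intro b hb
    rw [hP, Subgroup.mem_centralizer_singleton_iff] at hb
    obtain ⟨y, hy, rfl⟩ := cent_z e hCz hb
    rw [← map_mul, hmemQ, hmemQ]
    have h1 : y * cc * kk z0 = kk z0 * (y * cc) := by
      rw [mul_assoc, cc_comm, ← mul_assoc, hy, mul_assoc]
    have h2 : χ (y * cc) = χ y * Multiplicative.ofAdd 1 := by rw [map_mul, hχ]
    rw [h2]
    rcases eps_xor (χ y) with ⟨ha, hb⟩ | ⟨ha, hb⟩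
    · left; exact ⟨⟨h1, ha⟩, fun h => hb h.2⟩
    · right; exact ⟨⟨hy, ha⟩, fun h => hb h.2⟩
  have hy₀1 : y₀ ≠ 1 := by
    rintro rfl
    exact hχy (map_one χ)
  have hu : orderOf (phi e y₀) = 2 := orderOf_phi e hy₀2 hy₀1
  have huP := hmemP y₀ hy₀
  have huQ : phi e y₀ ∉ Q' := by
    rw [hmemQ]; exact fun h => hχy h.2
  rcases Cfsg.Agent.S0111.result P Q' hQP hQi _ hu huP huQ with h | ⟨g, hg⟩
  · exact Or.inl h
  · right
    obtain ⟨y, hy, hyg⟩ := hg
    exact ⟨y, (mem_D16 y).mp hy.1, MonoidHom.mem_ker.mp hy.2, ⟨g, hyg.symm⟩⟩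

omit ht hCz in
theorem invol_of_cj {y₀ y : Q} (h : Cj (phi e y₀) (phi e y)) (h2 : y₀ * y₀ = 1) (h1 : y₀ ≠ 1) :
    y * y = 1 ∧ y ≠ 1 := by
  obtain ⟨g, hg⟩ := h
  constructor
  · apply phi_injective e
    rw [map_mul, map_one, ← hg]
    calc g * phi e y₀ * g⁻¹ * (g * phi e y₀ * g⁻¹) = g * (phi e y₀ * phi e y₀) * g⁻¹ := by group
      _ = 1 := by rw [← map_mul, h2, map_one]; group
  · rintro rfl
    rw [map_one] at hg
    apply phi_ne_one e h1
    calc phi e y₀ = g⁻¹ * (g * phi e y₀ * g⁻¹) * g := by group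
      _ = 1 := by rw [hg]; group

omit ht hCz in
/-- the classes of involutions of the centralizer, with the value of a character -/
theorem cls (χ : Q →* Multiplicative (ZMod 2)) (y : Q) (hy2 : y * y = 1) (hy1 : y ≠ 1) :
    y = cc ∨ ∃ w, (w = kk z0 ∨ w = cc * kk z0 ∨ w = kk tau0 ∨ w = cc * kk tau0) ∧
      χ y = χ w ∧ Cj (phi e w) (phi e y) := by
  rcases Q_invol y hy2 hy1 with h | ⟨ρ, h⟩ | ⟨ρ, h⟩ | ⟨ρ, h⟩ | ⟨ρ, h⟩
  · exact Or.inl h
  · right
    exact ⟨kk z0, Or.inl rfl, by rw [h, hom_conj], by rw [h]; exact phi_conj e ρ _⟩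
  · right
    exact ⟨cc * kk z0, Or.inr (Or.inl rfl), by rw [h, hom_conj], by rw [h]; exact phi_conj e ρ _⟩
  · right
    exact ⟨kk tau0, Or.inr (Or.inr (Or.inl rfl)), by rw [h, hom_conj],
      by rw [h]; exact phi_conj e ρ _⟩
  · right
    exact ⟨cc * kk tau0, Or.inr (Or.inr (Or.inr rfl)), by rw [h, hom_conj],
      by rw [h]; exact phi_conj e ρ _⟩

end Fusion

section CaseII

variable [Finite G] (ht : orderOf t = 2)
  (hCz : ∀ g : G, g * phi e (kk z0) = phi e (kk z0) * g → g * t = t * g)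
  (P : Sylow 2 G) (hP : (P : Subgroup G) = Subgroup.centralizer ({phi e (kk z0)} : Set G))
  (hfus : Cj t (phi e (cc * kk tau0)))

include ht hCz P hP hfus

theorem claim1 : ¬ Cj t (phi e (kk tau0)) := by
  intro h
  have htd := phi_ctau e ht
  rcases transfer_gen e hCz P hP fstHom fstHom_cc (cc * kk z0) ckz_comm ckz_sq
      (by rw [fst_ckk]; exact ofAdd_ne) with ⟨M, hM, hM2, hMu⟩ | ⟨y, hy, hχ, hcj⟩
  · have := hM
    have hz : phi e (kk z0) ∈ M := by
      have := Subgroup.mul_self_mem_of_index_two hM2 (phi e (kk rr))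
      rwa [← map_mul, ← map_mul, rr_sq] at this
    have htM : t ∉ M := by
      intro h'
      apply hMu
      rw [phi_ckz e ht]
      exact M.mul_mem h' hz
    have hdM : phi e (kk tau0) ∉ M := fun h' => htM (h.symm.mem M h')
    have htdM : phi e (cc * kk tau0) ∉ M := fun h' => htM (hfus.symm.mem M h')
    apply htdM
    rw [htd, Subgroup.mul_mem_iff_of_index_two hM2]
    exact ⟨fun h' => (htM h').elim, fun h' => (hdM h').elim⟩
  · obtain ⟨hy2, hy1⟩ := invol_of_cj e hcj ckz_sq (ckk_ne_one z0)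
    rcases cls e fstHom y hy2 hy1 with rfl | ⟨w, hw, hχw, hcw⟩
    · rw [fstHom_cc] at hχ; exact ofAdd_ne hχ
    · rw [hχ] at hχw
      rcases hw with rfl | rfl | rfl | rfl
      · exact not_cj_z_tz e ht hCz (hcw.trans hcj.symm)
      · rw [fst_ckk] at hχw; exact ofAdd_ne hχw.symm
      · exact not_cj_t_tz e ht hCz P hP (h.trans (hcw.trans hcj.symm))
      · rw [fst_ckk] at hχw; exact ofAdd_ne hχw.symm

theorem claim2 : Cj (phi e (kk z0)) (phi e (kk tau0)) := by
  have h1 := claim1 e ht hCz P hP hfus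
  have htd := phi_ctau e ht
  rcases transfer_gen e hCz P hP chi chi_cc (kk tau0) ktau_comm ktau_sq
      (by rw [chi_kk, sg_tau0]; exact ofAdd_ne) with ⟨M, hM, hM2, hMu⟩ | ⟨y, hy, hχ, hcj⟩
  · exfalso
    have := hM
    by_cases htM : t ∈ M
    · have htdM : phi e (cc * kk tau0) ∈ M := hfus.mem M htM
      rw [htd, Subgroup.mul_mem_iff_of_index_two hM2] at htdM
      exact hMu (htdM.mp htM)
    · have htdM : phi e (cc * kk tau0) ∉ M := fun h' => htM (hfus.symm.mem M h')
      apply htdM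
      rw [htd, Subgroup.mul_mem_iff_of_index_two hM2]
      exact ⟨fun h' => (htM h').elim, fun h' => (hMu h').elim⟩
  · obtain ⟨hy2, hy1⟩ := invol_of_cj e hcj ktau_sq ktau_ne_one
    rcases cls e chi y hy2 hy1 with rfl | ⟨w, hw, hχw, hcw⟩
    · rw [chi_cc] at hχ; exact (ofAdd_ne hχ).elim
    · rw [hχ] at hχw
      rcases hw with rfl | rfl | rfl | rfl
      · exact hcw.trans hcj.symm
      · rw [chi_ckk, sg_z0, mul_one] at hχw; exact (ofAdd_ne hχw.symm).elim
      · rw [chi_kk, sg_tau0] at hχw; exact (ofAdd_ne hχw.symm).elim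
      · exact (h1 (hfus.trans (hcw.trans hcj.symm))).elim

theorem claim3 : ∃ M : Subgroup G, M.Normal ∧ M.index = 2 ∧ t ∉ M := by
  have h1 := claim1 e ht hCz P hP hfus
  rcases transfer_gen e hCz P hP fstHom fstHom_cc cc (cc_comm _) cc_sq
      (by rw [fstHom_cc]; exact ofAdd_ne) with ⟨M, hM, hM2, hMu⟩ | ⟨y, hy, hχ, hcj⟩
  · rw [phi_cc e ht] at hMu; exact ⟨M, hM, hM2, hMu⟩
  · exfalso
    obtain ⟨hy2, hy1⟩ := invol_of_cj e hcj cc_sq cc_ne_one
    rw [phi_cc e ht] at hcj
    rcases cls e fstHom y hy2 hy1 with rfl | ⟨w, hw, hχw, hcw⟩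
    · rw [fstHom_cc] at hχ; exact ofAdd_ne hχ
    · rw [hχ] at hχw
      rcases hw with rfl | rfl | rfl | rfl
      · exact not_cj_t_z e hCz (hcj.trans hcw.symm)
      · rw [fst_ckk] at hχw; exact ofAdd_ne hχw.symm
      · exact h1 (hcj.trans hcw.symm)
      · rw [fst_ckk] at hχw; exact ofAdd_ne hχw.symm

omit [Finite G] hCz P hP in
/-- membership in the subgroup of index `2` -/
theorem mem_iff (M : Subgroup G) [hM : M.Normal] (hM2 : M.index = 2) (htM : t ∉ M) (y : Q) :
    phi e y ∈ M ↔ y.1 = 1 := by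
  have htd := phi_ctau e ht
  have htdM : phi e (cc * kk tau0) ∉ M := fun h' => htM (hfus.symm.mem M h')
  have hdM : phi e (kk tau0) ∈ M := by
    by_contra hd
    apply htdM
    rw [htd, Subgroup.mul_mem_iff_of_index_two hM2]
    exact ⟨fun h' => (htM h').elim, fun h' => (hd h').elim⟩
  have hW : M.comap ((phi e).comp kk) = ⊤ := by
    have hn : (M.comap ((phi e).comp kk)).Normal := hM.comap _
    rw [eq_top_iff, ← Equiv.Perm.closure_isSwap, Subgroup.closure_le]
    rintro σ ⟨a, b, hab, rfl⟩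
    have h02 : (0 : Fin 4) ≠ 2 := by decide
    obtain ⟨c, hc⟩ := isConj_iff.mp (Equiv.Perm.isConj_swap h02 hab)
    have h0 : tau0 ∈ M.comap ((phi e).comp kk) := hdM
    rw [SetLike.mem_coe, ← hc]
    exact hn.conj_mem _ h0 c
  have hk : ∀ σ : Perm (Fin 4), phi e (kk σ) ∈ M := by
    intro σ
    have : σ ∈ M.comap ((phi e).comp kk) := by rw [hW]; trivial
    exact this
  have hy : phi e y ∈ M ↔ phi e ((y.1, 1) : Q) ∈ M := by
    have e1 : phi e y = phi e ((y.1, 1) : Q) * phi e (kk y.2) := by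
      rw [← map_mul, ← eq_mul_kk y]
    rw [e1, Subgroup.mul_mem_cancel_right M (hk y.2)]
  rw [hy]
  rcases eps_cases y.1 with h | h
  · have h0 : ((y.1, 1) : Q) = 1 := by rw [h]; rfl
    rw [h0, map_one]
    exact ⟨fun _ => h, fun _ => M.one_mem⟩
  · have h0 : ((y.1, 1) : Q) = cc := by rw [h]; rfl
    rw [h0, phi_cc e ht, h]
    exact ⟨fun h' => (htM h').elim, fun h' => (ofAdd_ne h').elim⟩

end CaseII

end Cfsg.Agent.Lib.Helper14.ZS4Fus
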