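import Mathlib
import Cfsg.Agent.Lib.Helper14.ZS4Fus

set_option autoImplicit false

/-!
# The subgroup of index `2`: it is simple of order `168` or `360`
-/

namespace Cfsg.Agent.Lib.Helper14.ZS4Sub

open Equiv Cfsg.Agent.Lib.Helper14.ZS4 Cfsg.Agent.Lib.Helper14.ZS4Fus

universe u
variable {G : Type u} [Group G] {t : G}
variable (e : Subgroup.centralizer ({t} : Set G) ≃* Q)
variable [Finite G] (ht : orderOf t = 2)
  (hCz : ∀ g : G, g * phi e (kk z0) = phi e (kk z0) * g → g * t = t * g)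
  (P : Sylow 2 G) (hP : (P : Subgroup G) = Subgroup.centralizer ({phi e (kk z0)} : Set G))
  (hfus : Cj t (phi e (cc * kk tau0)))
  (M : Subgroup G) [hM : M.Normal] (hM2 : M.index = 2) (htM : t ∉ M)

include e ht hCz P hP hfus hM hM2 htM

theorem sub_simple : IsSimpleGroup M ∧ (Nat.card M = 168 ∨ Nat.card M = 360) := by
  have hmem := mem_iff e ht hfus M hM2 htM
  have hkM : ∀ σ, phi e (kk σ) ∈ M := fun σ => (hmem _).mpr rfl
  let ν : DihedralGroup 4 →* M := ((phi e).comp (kk.comp delta)).codRestrict M (fun x => hkM _)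
  let z' : M := ⟨phi e (kk z0), hkM z0⟩
  have hν : ∀ x, ν x ∈ Subgroup.centralizer ({z'} : Set M) := by
    intro x
    rw [Subgroup.mem_centralizer_singleton_iff]
    apply Subtype.ext
    change phi e (kk (delta x)) * phi e (kk z0) = phi e (kk z0) * phi e (kk (delta x))
    rw [← map_mul, ← map_mul, ← map_mul, ← map_mul, delta_comm]
  let ν' : DihedralGroup 4 →* Subgroup.centralizer ({z'} : Set M) := ν.codRestrict _ hν
  have hinj : Function.Injective ν' := by
    intro x y h
    have h1 : phi e (kk (delta x)) = phi e (kk (delta y)) :=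
      congrArg (fun w : Subgroup.centralizer ({z'} : Set M) => ((w : M) : G)) h
    exact delta_inj x y (kk_injective (phi_injective e h1))
  have hsurj : Function.Surjective ν' := by
    rintro ⟨⟨g, hgM⟩, hg⟩
    rw [Subgroup.mem_centralizer_singleton_iff] at hg
    have hg' : g * phi e (kk z0) = phi e (kk z0) * g := congrArg Subtype.val hg
    obtain ⟨y, hy, rfl⟩ := cent_z e hCz hg'
    have hy1 : y.1 = 1 := (hmem y).mp hgM
    obtain ⟨x, hx⟩ := delta_surj y.2 (snd_comm hy)
    refine ⟨x, ?_⟩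
    apply Subtype.ext; apply Subtype.ext
    change phi e (kk (delta x)) = phi e y
    rw [hx, ← fst_one_eq y hy1]
  let e₁ : Subgroup.centralizer ({z'} : Set M) ≃* DihedralGroup 4 :=
    (MulEquiv.ofBijective ν' ⟨hinj, hsurj⟩).symm
  have hphi : ∀ x, ((D8Group.phi e₁ x : M) : G) = phi e (kk (delta x)) := fun x => rfl
  have hz' : orderOf z' = 2 := by
    rw [← Subgroup.orderOf_coe]
    apply orderOf_phi e kz_sq
    intro h
    rw [← map_one kk] at h
    exact z0_ne_one (kk_injective h)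
  have h0 : ∃ g : M, g * z' * g⁻¹ = D8Group.phi e₁ (DihedralGroup.sr 0) := by
    obtain ⟨g, hg⟩ := claim2 e ht hCz P hP hfus
    by_cases hgM : g ∈ M
    · refine ⟨⟨g, hgM⟩, ?_⟩
      apply Subtype.ext
      rw [hphi, delta_sr0, ← hg]
      rfl
    · have hgt : g * t ∈ M := by
        rw [Subgroup.mul_mem_iff_of_index_two hM2]
        exact ⟨fun h => (hgM h).elim, fun h => (htM h).elim⟩
      refine ⟨⟨g * t, hgt⟩, ?_⟩
      apply Subtype.ext
      rw [hphi, delta_sr0, ← hg]
      change g * t * phi e (kk z0) * (g * t)⁻¹ = g * phi e (kk z0) * g⁻¹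
      have hc := phi_comm e (kk z0)
      calc g * t * phi e (kk z0) * (g * t)⁻¹ = g * (t * phi e (kk z0)) * t⁻¹ * g⁻¹ := by group
        _ = g * (phi e (kk z0) * t) * t⁻¹ * g⁻¹ := by rw [hc]
        _ = g * phi e (kk z0) * g⁻¹ := by group
  have h1 : ∃ g : M, g * z' * g⁻¹ = D8Group.phi e₁ (DihedralGroup.sr 1) := by
    refine ⟨⟨phi e (kk (swap 1 2)), hkM _⟩, ?_⟩
    apply Subtype.ext
    rw [hphi, delta_sr1, map_mul, map_mul, map_mul, map_mul, map_inv, map_inv]
    rfl
  have hconj : ∀ i : ZMod 4, ∃ g : M, g * z' * g⁻¹ = D8Group.phi e₁ (DihedralGroup.sr i) := by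
    intro i
    have e02 : ((0 : ZMod 4) + 2) = 2 := by decide
    have e12 : ((1 : ZMod 4) + 2) = 3 := by decide
    have key : ∀ i : ZMod 4, i = 0 ∨ i = 1 ∨ i = 2 ∨ i = 3 := by decide
    rcases key i with rfl | rfl | rfl | rfl
    · exact h0
    · exact h1
    · have := D8Sym.conj_add_two e₁ 0 h0
      rwa [e02] at this
    · have := D8Sym.conj_add_two e₁ 1 h1
      rwa [e12] at this
  exact ⟨D8Simple.simple_of_conj e₁ hz' hconj, D8Gen.order_of_conj e₁ hz' hconj⟩

end Cfsg.Agent.Lib.Helper14.ZS4Sub
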