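import Mathlib
import Cfsg.Agent.Lib.Helper14.ZS4Sub
import Cfsg.Agent.Lib.Helper14.S6Rec
import Cfsg.Agent.Lib.Helper56.SmallSolvable
import Cfsg.Agent.S0497

set_option autoImplicit false

/-!
# Groups with a `2`-central involution `t`, `C(t) ≅ Z₂ × S₄`, `C(S') = S`: the group is `C(t)`
or `S₆`
-/

namespace Cfsg.Agent.Lib.Helper14.ZS4End

open Equiv Cfsg.Agent.Lib.Helper14.ZS4 Cfsg.Agent.Lib.Helper14.ZS4Fus
open Cfsg.Agent.Lib.Helper14.ZS4Sub

universe u
variable {G : Type u} [Group G] {t : G}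
variable (e : Subgroup.centralizer ({t} : Set G) ≃* Q)

section CaseII

variable [Finite G] (ht : orderOf t = 2)
  (hCz : ∀ g : G, g * phi e (kk z0) = phi e (kk z0) * g → g * t = t * g)
  (P : Sylow 2 G) (hP : (P : Subgroup G) = Subgroup.centralizer ({phi e (kk z0)} : Set G))
  (hfus : Cj t (phi e (cc * kk tau0)))

include e ht hCz P hP hfus

omit hCz P hP in
theorem not_168 (M : Subgroup G) (hM2 : M.index = 2)
    (hcard : Nat.card M = 168) : False := by
  have hG : Nat.card G = 336 := by rw [← Subgroup.card_mul_index M, hcard, hM2]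
  have hidx : (Subgroup.centralizer ({t} : Set G)).index = 7 := by
    have := Subgroup.card_mul_index (Subgroup.centralizer ({t} : Set G))
    rw [card_centralizer e, hG] at this
    omega
  have hall : ∀ g : G, (g * t * g⁻¹) * t = t * (g * t * g⁻¹) := by
    have hex : ∀ y : {y : Q // y = cc ∨
        ∃ ρ : Perm (Fin 4), y = kk ρ * (cc * kk tau0) * (kk ρ)⁻¹},
        ∃ a : G, a * t * a⁻¹ = phi e y.1 := by
      rintro ⟨y, rfl | ⟨ρ, rfl⟩⟩
      · exact ⟨1, by rw [phi_cc e ht]; group⟩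
      · exact hfus.trans (phi_conj e ρ _)
    choose a ha using hex
    let f : {y : Q // y = cc ∨ ∃ ρ : Perm (Fin 4), y = kk ρ * (cc * kk tau0) * (kk ρ)⁻¹} →
        G ⧸ Subgroup.centralizer ({t} : Set G) := fun y => (a y : G)
    have hf : Function.Injective f := by
      intro y y' h
      have h1 : (a y)⁻¹ * a y' ∈ Subgroup.centralizer ({t} : Set G) := QuotientGroup.eq.mp h
      rw [Subgroup.mem_centralizer_singleton_iff] at h1
      apply Subtype.ext
      apply phi_injective e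
      rw [← ha y, ← ha y']
      calc a y * t * (a y)⁻¹ = a y * (t * ((a y)⁻¹ * a y')) * (a y')⁻¹ := by group
        _ = a y * ((a y)⁻¹ * a y' * t) * (a y')⁻¹ := by rw [h1]
        _ = a y' * t * (a y')⁻¹ := by group
    have hbij : Function.Bijective f := hf.bijective_of_nat_card_le (by
      rw [card_A]; exact le_of_eq hidx)
    intro g
    obtain ⟨y, hy⟩ := hbij.2 (g : G ⧸ Subgroup.centralizer ({t} : Set G))
    have h1 : (a y)⁻¹ * g ∈ Subgroup.centralizer ({t} : Set G) := QuotientGroup.eq.mp hy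
    rw [Subgroup.mem_centralizer_singleton_iff] at h1
    have h2 : g * t * g⁻¹ = phi e y.1 := by
      rw [← ha y]
      calc g * t * g⁻¹ = a y * ((a y)⁻¹ * g * t) * g⁻¹ := by group
        _ = a y * (t * ((a y)⁻¹ * g)) * g⁻¹ := by rw [h1]
        _ = a y * t * (a y)⁻¹ := by group
    rw [h2]; exact phi_comm e _
  obtain ⟨a₁, h₁⟩ := hfus.trans (phi_conj e (swap 1 2) _)
  obtain ⟨a₂, h₂⟩ := hfus.trans (phi_conj e (swap 0 1) _)
  have h3 := hall (a₁⁻¹ * a₂)
  have h4 : (a₂ * t * a₂⁻¹) * (a₁ * t * a₁⁻¹) = (a₁ * t * a₁⁻¹) * (a₂ * t * a₂⁻¹) := by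
    calc (a₂ * t * a₂⁻¹) * (a₁ * t * a₁⁻¹)
        = a₁ * ((a₁⁻¹ * a₂ * t * (a₁⁻¹ * a₂)⁻¹) * t) * a₁⁻¹ := by group
      _ = a₁ * (t * (a₁⁻¹ * a₂ * t * (a₁⁻¹ * a₂)⁻¹)) * a₁⁻¹ := by rw [h3]
      _ = (a₁ * t * a₁⁻¹) * (a₂ * t * a₂⁻¹) := by group
  rw [h₁, h₂, ← map_mul, ← map_mul] at h4
  exact Q_noncomm (phi_injective e h4)

theorem caseII : Nonempty (G ≃* Perm (Fin 6)) ∧ ¬ Group.IsSolvable G := by
  obtain ⟨M, hM, hM2, htM⟩ := claim3 e ht hCz P hP hfus
  obtain ⟨hsimple, hcard⟩ := sub_simple e ht hCz P hP hfus M hM2 htM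
  have hmem := mem_iff e ht hfus M hM2 htM
  have hkM : ∀ σ, phi e (kk σ) ∈ M := fun σ => (hmem _).mpr rfl
  have hns : ¬ Group.IsSolvable G := by
    intro hsol
    have hMs : Group.IsSolvable M := inferInstance
    have hc := (IsSimpleGroup.comm_iff_isSolvable (G := M)).mpr hMs
    have h1 := congrArg Subtype.val
      (hc ⟨phi e (kk (swap 0 1)), hkM _⟩ ⟨phi e (kk (swap 1 2)), hkM _⟩)
    have h2 : phi e (kk (swap 0 1)) * phi e (kk (swap 1 2)) =
        phi e (kk (swap 1 2)) * phi e (kk (swap 0 1)) := h1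
    rw [← map_mul, ← map_mul, ← map_mul, ← map_mul] at h2
    exact swaps_not_comm (kk_injective (phi_injective e h2))
  rcases hcard with h168 | h360
  · exact (not_168 e ht hfus M hM2 h168).elim
  · refine ⟨?_, hns⟩
    obtain ⟨ψ⟩ := Cfsg.Agent.S0497.result h360
    have hx3 : orderOf (phi e (kk rho3)) = 3 := by
      have : Fact (Nat.Prime 3) := ⟨Nat.prime_three⟩
      apply orderOf_eq_prime
      · rw [← map_pow, ← map_pow, rho3_pow, map_one, map_one]
      · apply phi_ne_one e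
        intro h
        rw [← map_one kk] at h
        exact rho3_ne_one (kk_injective h)
    apply Cfsg.Agent.Lib.Helper14.S6Rec.s6_of_index_two M hM2 ψ t htM (t_sq ht)
      (phi e (kk rho3)) (hkM rho3) hx3 (phi_comm e _).symm
    intro c hc
    have hcz := hc _ (hkM z0)
    obtain ⟨y, hy, rfl⟩ := cent_z e hCz hcz
    have hy' : ∀ σ : Perm (Fin 4), y * kk σ = kk σ * y := by
      intro σ
      apply phi_injective e
      rw [map_mul, map_mul]
      exact hc _ (hkM σ)
    rcases Q_center y hy' with rfl | rfl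
    · exact map_one _
    · exfalso
      rw [phi_cc e ht] at hc
      have hle : M ≤ Subgroup.centralizer ({t} : Set G) := by
        intro g hg
        rw [Subgroup.mem_centralizer_singleton_iff]
        exact (hc g hg).symm
      have := Subgroup.card_le_of_le hle
      rw [h360, card_centralizer e] at this
      omega

end CaseII

section CaseI

variable [Finite G] (ht : orderOf t = 2)
  (hCz : ∀ g : G, g * phi e (kk z0) = phi e (kk z0) * g → g * t = t * g)

include e ht hCz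

omit ht in
theorem oddCore_eq_bot : Cfsg.oddCore G = ⊥ := by
  have hN : (Cfsg.pPrimeCore 2 G).Normal := Cfsg.Agent.Lib.Helper50.Cores.pPrimeCore_normal 2
  have hcop : (Nat.card (Cfsg.pPrimeCore 2 G)).Coprime 2 :=
    Cfsg.Agent.Lib.Helper50.Cores.pPrimeCore_coprime 2
  have hone : ∀ x ∈ Cfsg.pPrimeCore 2 G, ∀ k : ℕ, x ^ (2 ^ k) = 1 → x = 1 := by
    intro x hx k hk
    have h1 : orderOf x ∣ 2 ^ k := orderOf_dvd_of_pow_eq_one hk
    have h2 : orderOf x ∣ Nat.card (Cfsg.pPrimeCore 2 G) := Subgroup.orderOf_dvd_natCard _ hx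
    have h3 : Nat.Coprime (2 ^ k) (Nat.card (Cfsg.pPrimeCore 2 G)) := (hcop.symm).pow_left k
    have h4 : orderOf x ∣ 1 := by
      have := Nat.dvd_gcd h1 h2
      rwa [h3.gcd_eq_one] at this
    exact orderOf_eq_one_iff.mp (Nat.dvd_one.mp h4)
  have hinv : ∀ ρ : Perm (Fin 4), ∀ x ∈ Cfsg.pPrimeCore 2 G,
      phi e (kk ρ * kk z0 * (kk ρ)⁻¹) * x * (phi e (kk ρ * kk z0 * (kk ρ)⁻¹))⁻¹ = x⁻¹ := by
    intro ρ
    apply Cfsg.Agent.Lib.Helper14.D8Simple.inverts (Cfsg.pPrimeCore 2 G)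
    · rw [← map_mul]
      have : kk ρ * kk z0 * (kk ρ)⁻¹ * (kk ρ * kk z0 * (kk ρ)⁻¹) = 1 := by
        calc kk ρ * kk z0 * (kk ρ)⁻¹ * (kk ρ * kk z0 * (kk ρ)⁻¹)
            = kk ρ * (kk z0 * kk z0) * (kk ρ)⁻¹ := by group
          _ = 1 := by rw [kz_sq]; group
      rw [this, map_one]
    · intro x hx hc
      have hx' : (phi e (kk ρ))⁻¹ * x * phi e (kk ρ) ∈ Cfsg.pPrimeCore 2 G := by
        have := hN.conj_mem x hx (phi e (kk ρ))⁻¹
        rwa [inv_inv] at this
      rw [map_mul, map_mul, map_inv] at hc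
      have hc' : ((phi e (kk ρ))⁻¹ * x * phi e (kk ρ)) * phi e (kk z0) =
          phi e (kk z0) * ((phi e (kk ρ))⁻¹ * x * phi e (kk ρ)) := by
        calc (phi e (kk ρ))⁻¹ * x * phi e (kk ρ) * phi e (kk z0)
            = (phi e (kk ρ))⁻¹ * (x * (phi e (kk ρ) * phi e (kk z0) * (phi e (kk ρ))⁻¹)) *
              phi e (kk ρ) := by group
          _ = (phi e (kk ρ))⁻¹ * ((phi e (kk ρ) * phi e (kk z0) * (phi e (kk ρ))⁻¹) * x) *
              phi e (kk ρ) := by rw [hc]
          _ = phi e (kk z0) * ((phi e (kk ρ))⁻¹ * x * phi e (kk ρ)) := by group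
      have h16 := pow16 e hCz hc'
      have h1 := hone _ hx' 4 h16
      calc x = phi e (kk ρ) * ((phi e (kk ρ))⁻¹ * x * phi e (kk ρ)) * (phi e (kk ρ))⁻¹ := by group
        _ = 1 := by rw [h1]; group
  rw [eq_bot_iff]
  intro x hx
  rw [Subgroup.mem_bot]
  have h0 := hinv 1 x hx
  have h1 := hinv (swap 1 2) x hx
  have h2 := hinv (swap 2 3) x hx
  rw [map_one, one_mul, inv_one, mul_one] at h0
  rw [← z1_conj, map_mul] at h2
  have h3 : x⁻¹ = x := by
    calc x⁻¹ = phi e (kk z0) * phi e (kk (swap 1 2) * kk z0 * (kk (swap 1 2))⁻¹) * x *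
          (phi e (kk z0) * phi e (kk (swap 1 2) * kk z0 * (kk (swap 1 2))⁻¹))⁻¹ := h2.symm
      _ = phi e (kk z0) * (phi e (kk (swap 1 2) * kk z0 * (kk (swap 1 2))⁻¹) * x *
          (phi e (kk (swap 1 2) * kk z0 * (kk (swap 1 2))⁻¹))⁻¹) * (phi e (kk z0))⁻¹ := by group
      _ = phi e (kk z0) * x⁻¹ * (phi e (kk z0))⁻¹ := by rw [h1]
      _ = (phi e (kk z0) * x * (phi e (kk z0))⁻¹)⁻¹ := by group
      _ = x := by rw [h0, inv_inv]
  apply hone x hx 1
  rw [pow_one, pow_two]
  calc x * x = x * x⁻¹ := by rw [h3]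
    _ = 1 := mul_inv_cancel x

theorem caseI (hiso : ∀ g : G, t * (g * t * g⁻¹) = (g * t * g⁻¹) * t → g * t * g⁻¹ = t) :
    Subgroup.centralizer ({t} : Set G) = ⊤ := by
  have h1 : Cfsg.IsIsolatedInvolution t := ⟨ht, fun g hc => hiso g hc.eq⟩
  have h2 := Cfsg.Agent.Lib.Helper14.D8Main.sup_oddCore_of_isolated t h1
  rwa [oddCore_eq_bot e hCz, sup_bot_eq] at h2

end CaseI

section Main

variable [Finite G] (ht : orderOf t = 2) (T : Sylow 2 G)
  (htc : ∀ s ∈ (T : Subgroup G), s * t = t * s)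
  (h2 : ∀ S : Sylow 2 G, Subgroup.centralizer
    ((⁅(S : Subgroup G), (S : Subgroup G)⁆ : Subgroup G) : Set G) = (S : Subgroup G))

include e ht T htc h2

omit ht in
theorem setup :
    (∀ g : G, g * phi e (kk z0) = phi e (kk z0) * g → g * t = t * g) ∧
      ∃ P : Sylow 2 G, (P : Subgroup G) = Subgroup.centralizer ({phi e (kk z0)} : Set G) := by
  have : Fact (Nat.Prime 2) := ⟨Nat.prime_two⟩
  have hScard : Nat.card (D16.map (phi e)) = 16 := by
    rw [Subgroup.card_map_of_injective (phi_injective e), card_D16]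
  have hTle : (T : Subgroup G) ≤ Subgroup.centralizer ({t} : Set G) := by
    intro s hs
    rw [Subgroup.mem_centralizer_singleton_iff]
    exact htc s hs
  have hfac : (Nat.card G).factorization 2 = 4 := by
    have h1 : Nat.card (T : Subgroup G) = 2 ^ (Nat.card G).factorization 2 :=
      T.card_eq_multiplicity
    have h2' : Nat.card (T : Subgroup G) ∣ 48 := by
      have := Subgroup.card_dvd_of_le hTle
      rwa [card_centralizer e] at this
    have h3 : (16 : ℕ) ∣ Nat.card G := by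
      rw [← hScard]; exact Subgroup.card_subgroup_dvd_card _
    have h4 : 4 ≤ (Nat.card G).factorization 2 := by
      have h16 : (2 : ℕ) ^ 4 ∣ Nat.card G := by
        have : (2 : ℕ) ^ 4 = 16 := by norm_num
        rw [this]; exact h3
      exact (Nat.Prime.pow_dvd_iff_le_factorization Nat.prime_two Nat.card_pos.ne').mp h16
    have h5 : (Nat.card G).factorization 2 ≤ 4 := by
      by_contra hlt
      push Not at hlt
      have h6 : (2 : ℕ) ^ 5 ∣ 2 ^ (Nat.card G).factorization 2 := pow_dvd_pow 2 hlt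
      rw [← h1] at h6
      have h7 := h6.trans h2'
      norm_num at h7
    omega
  let P : Sylow 2 G := Sylow.ofCard (D16.map (phi e)) (by rw [hScard, hfac]; norm_num)
  have hPS : (P : Subgroup G) = D16.map (phi e) := Sylow.coe_ofCard _ _
  have hcomm : ⁅D16.map (phi e), D16.map (phi e)⁆ ≤ Subgroup.zpowers (phi e (kk z0)) := by
    rw [Subgroup.commutator_le]
    rintro _ ⟨y₁, hy₁, rfl⟩ _ ⟨y₂, hy₂, rfl⟩
    rw [commutatorElement_def, ← map_inv, ← map_inv, ← map_mul, ← map_mul, ← map_mul]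
    rcases Q_comm y₁ y₂ ((mem_D16 y₁).mp hy₁) ((mem_D16 y₂).mp hy₂) with h | h
    · rw [h, map_one]; exact Subgroup.one_mem _
    · rw [h]; exact Subgroup.mem_zpowers _
  have hkey : ∀ g : G, g * phi e (kk z0) = phi e (kk z0) * g → g ∈ D16.map (phi e) := by
    intro g hg
    have h3 := h2 P
    rw [hPS] at h3
    rw [← h3, Subgroup.mem_centralizer_iff]
    intro w hw
    obtain ⟨k, rfl⟩ := Subgroup.mem_zpowers_iff.mp (hcomm hw)
    exact ((Commute.zpow_right (show Commute g (phi e (kk z0)) from hg) k).eq).symm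
  refine ⟨?_, P, ?_⟩
  · intro g hg
    obtain ⟨y, -, rfl⟩ := hkey g hg
    exact phi_comm e y
  · rw [hPS]
    apply le_antisymm
    · rintro _ ⟨y, hy, rfl⟩
      rw [Subgroup.mem_centralizer_singleton_iff]
      exact z_comm_phi e ((mem_D16 y).mp hy)
    · intro g hg
      rw [Subgroup.mem_centralizer_singleton_iff] at hg
      exact hkey g hg

theorem main :
    (Group.IsSolvable G → Subgroup.centralizer ({t} : Set G) = ⊤) ∧
      (¬ Group.IsSolvable G → Nonempty (G ≃* Equiv.Perm (Fin 6))) := by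
  obtain ⟨hCz, P, hP⟩ := setup e T htc h2
  by_cases hiso : ∀ g : G, t * (g * t * g⁻¹) = (g * t * g⁻¹) * t → g * t * g⁻¹ = t
  · have htop := caseI e ht hCz hiso
    refine ⟨fun _ => htop, fun hns => (hns ?_).elim⟩
    have := Cfsg.Agent.Lib.Helper56.SmallSolvable.isSolvable_perm_fin_four
    have hQ : Group.IsSolvable Q := inferInstance
    let f : G ≃* Q := (Subgroup.topEquiv.symm.trans (MulEquiv.subgroupCongr htop.symm)).trans e
    exact Group.isSolvable_of_isSolvable_injective (f := f.toMonoidHom) f.injective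
  · push Not at hiso
    obtain ⟨g, hgc, hgt⟩ := hiso
    obtain ⟨y, hy⟩ := exists_phi e hgc.symm
    have hcj : Cj (phi e cc) (phi e y) := ⟨g, by rw [phi_cc e ht, hy]⟩
    obtain ⟨hy2, hy1⟩ := invol_of_cj e hcj cc_sq cc_ne_one
    rw [phi_cc e ht] at hcj
    have key : Nonempty (G ≃* Perm (Fin 6)) ∧ ¬ Group.IsSolvable G := by
      rcases cls e fstHom y hy2 hy1 with rfl | ⟨w, hw, -, hcw⟩
      · exfalso
        apply hgt
        rw [← hy, phi_cc e ht]
      · rcases hw with rfl | rfl | rfl | rfl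
        · exact (not_cj_t_z e hCz (hcj.trans hcw.symm)).elim
        · exact (not_cj_t_tz e ht hCz P hP (hcj.trans hcw.symm)).elim
        · obtain ⟨hCz', P', hP'⟩ := setup (e.trans alpha) T htc h2
          apply caseII (e.trans alpha) ht hCz' P' hP'
          have h0 : phi (e.trans alpha) (cc * kk tau0) = phi e (kk tau0) := by
            rw [phi_apply, phi_apply, MulEquiv.symm_trans_apply, alpha_ctau]
          rw [h0]
          exact hcj.trans hcw.symm
        · exact caseII e ht hCz P hP (hcj.trans hcw.symm)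
    exact ⟨fun hs => (key.2 hs).elim, fun _ => key.1⟩

end Main

end Cfsg.Agent.Lib.Helper14.ZS4End
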